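import Mathlib

/-!
Subgroups of the isometries of a trace form `Tr ∘ B` containing the commutators of the `K`-isometries
of `B`: Siegel maps, reflections, tori, and big subgroups of the groups of Siegel maps.
-/

set_option autoImplicit false
set_option linter.unusedSectionVars false
set_option linter.style.haveILetI false
set_option linter.unusedSimpArgs false
set_option linter.unnecessarySeqFocus false
set_option linter.unusedVariables false

namespace CfsgLib.ExtFieldOrth

open Module

variable {F K V : Type*} [Field F] [Field K] [Algebra F K] [AddCommGroup V] [Module F V]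
  [Module K V] [IsScalarTower F K V]

/-- An `F`-linear automorphism group as used below. -/
abbrev AutV (F V : Type*) [Field F] [AddCommGroup V] [Module F V] := V ≃ₗ[F] V

variable (F) in
/-- Restriction of scalars on automorphisms. -/
def res : (V ≃ₗ[K] V) →* AutV F V where
  toFun e := e.restrictScalars F
  map_one' := rfl
  map_mul' _ _ := rfl

@[simp] lemma res_apply (e : V ≃ₗ[K] V) (x : V) : res F e x = e x := rfl

variable (B : V →ₗ[K] V →ₗ[K] K)

/-- The hypotheses on the group. -/
structure Hyp (G : Subgroup (AutV F V)) : Prop where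
  prime : (finrank F K).Prime
  two_ne : (2 : K) ≠ 0
  symm : ∀ x y, B x y = B y x
  nondeg : ∀ x, (∀ y, B x y = 0) → x = 0
  three_le : 3 ≤ finrank K V
  isom : ∀ g ∈ G, ∀ x y, Algebra.trace F K (B (g x) (g y)) = Algebra.trace F K (B x y)
  det_one : ∀ g ∈ G, LinearMap.det (g : V →ₗ[F] V) = 1
  comm_mem : ∀ a b : V ≃ₗ[K] V, (∀ x y, B (a x) (a y) = B x y) → (∀ x y, B (b x) (b y) = B x y) →
    res F (a * b * a⁻¹ * b⁻¹) ∈ G

/-! ### Siegel maps -/

/-- The vectors orthogonal to `u`. -/
abbrev perp (u : V) : Submodule K V := LinearMap.ker (B u)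

lemma mem_perp {u x : V} : x ∈ perp B u ↔ B u x = 0 := LinearMap.mem_ker

/-- The Siegel map of `u` and `w`. -/
def siegMap (u w : V) : V →ₗ[K] V where
  toFun x := x + B x w • u - B x u • w - (B w w / 2 * B x u) • u
  map_add' x y := by simp only [map_add, LinearMap.add_apply, add_smul, mul_add]; abel
  map_smul' c x := by
    simp only [map_smul, LinearMap.smul_apply, smul_eq_mul, RingHom.id_apply, smul_add, smul_sub, smul_smul]
    rw [mul_left_comm c (B w w / 2)]

lemma siegMap_apply (u w x : V) :
    siegMap B u w x = x + B x w • u - B x u • w - (B w w / 2 * B x u) • u := rfl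

section Sieg

variable {B} (hs : ∀ x y, B x y = B y x) {u : V} (hu : B u u = 0)
include hs hu

lemma siegMap_add (h2 : (2 : K) ≠ 0) {w w' : V} (hw : B u w = 0) (hw' : B u w' = 0) (x : V) :
    siegMap B u w (siegMap B u w' x) = siegMap B u (w + w') x := by
  simp only [siegMap_apply, map_add, map_sub, map_smul, LinearMap.add_apply, LinearMap.sub_apply,
    LinearMap.smul_apply, smul_eq_mul, hu, hs w u, hs w' u, hw, hw', hs w' w]
  match_scalars <;> field_simp <;> ring

lemma isom_siegMap (h2 : (2 : K) ≠ 0) {w : V} (hw : B u w = 0) (x y : V) :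
    B (siegMap B u w x) (siegMap B u w y) = B x y := by
  simp only [siegMap_apply, map_add, map_sub, map_smul, LinearMap.add_apply, LinearMap.sub_apply,
    LinearMap.smul_apply, smul_eq_mul, hu, hs w u, hw, hs u y, hs w y]
  field_simp
  ring

end Sieg

lemma siegMap_zero (u x : V) : siegMap B u 0 x = x := by
  simp [siegMap_apply]

/-- The Siegel map as an equivalence. -/
def sieg {u w : V} (hs : ∀ x y, B x y = B y x) (h2 : (2 : K) ≠ 0) (hu : B u u = 0) (hw : B u w = 0) :
    V ≃ₗ[K] V :=
  LinearEquiv.ofLinearMap (siegMap B u w) (siegMap B u (-w))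
    (LinearMap.ext fun x => by
      simp [siegMap_add hs hu h2 hw (w' := -w) (by simp [hw]), siegMap_zero])
    (LinearMap.ext fun x => by
      simp [siegMap_add hs hu h2 (w := -w) (by simp [hw]) hw, siegMap_zero])

@[simp] lemma sieg_apply {u w : V} (hs : ∀ x y, B x y = B y x) (h2 : (2 : K) ≠ 0) (hu : B u u = 0)
    (hw : B u w = 0) (x : V) : sieg B hs h2 hu hw x = siegMap B u w x := rfl

/-! ### Reflections and hyperbolic tori -/

/-- The reflection along `e`. -/
def refl (hs : ∀ x y, B x y = B y x) {e : V} (he : B e e ≠ 0) : V ≃ₗ[K] V :=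
  let f : V →ₗ[K] V :=
    { toFun := fun x => x - (2 * B x e / B e e) • e
      map_add' := fun x y => by simp only [map_add, LinearMap.add_apply, mul_add, add_div, add_smul]; abel
      map_smul' := fun c x => by
        simp only [map_smul, LinearMap.smul_apply, smul_eq_mul, RingHom.id_apply, smul_sub, smul_smul]
        congr 2; ring }
  LinearEquiv.ofLinearMap f f
    (LinearMap.ext fun x => by
      simp only [f, LinearMap.comp_apply, LinearMap.coe_mk, AddHom.coe_mk, map_sub, map_smul, LinearMap.sub_apply,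
        LinearMap.smul_apply, smul_eq_mul, LinearMap.id_apply]
      match_scalars <;> field_simp <;> ring)
    (LinearMap.ext fun x => by
      simp only [f, LinearMap.comp_apply, LinearMap.coe_mk, AddHom.coe_mk, map_sub, map_smul, LinearMap.sub_apply,
        LinearMap.smul_apply, smul_eq_mul, LinearMap.id_apply]
      match_scalars <;> field_simp <;> ring)

@[simp] lemma refl_apply (hs : ∀ x y, B x y = B y x) {e : V} (he : B e e ≠ 0) (x : V) :
    refl B hs he x = x - (2 * B x e / B e e) • e := rfl

lemma isom_refl (hs : ∀ x y, B x y = B y x) {e : V} (he : B e e ≠ 0) (x y : V) :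
    B (refl B hs he x) (refl B hs he y) = B x y := by
  simp only [refl_apply, map_sub, map_smul, LinearMap.sub_apply, LinearMap.smul_apply, smul_eq_mul, hs e y]
  field_simp
  ring

lemma refl_inv (hs : ∀ x y, B x y = B y x) {e : V} (he : B e e ≠ 0) :
    (refl B hs he)⁻¹ = refl B hs he := rfl

/-- The torus element of a hyperbolic pair. -/
def torMap (u v : V) (a : K) : V →ₗ[K] V :=
  LinearMap.id + (a - 1) • ((B.flip v).smulRight u) + (a⁻¹ - 1) • ((B.flip u).smulRight v)

lemma torMap_apply (u v : V) (a : K) (x : V) :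
    torMap B u v a x = x + ((a - 1) * B x v) • u + ((a⁻¹ - 1) * B x u) • v := by
  simp [torMap, smul_smul]

lemma torMap_mul {u v : V} (hu : B u u = 0) (hv : B v v = 0) (huv : B u v = 1) (hvu : B v u = 1)
    {a b : K} (ha : a ≠ 0) (hb : b ≠ 0) (x : V) :
    torMap B u v a (torMap B u v b x) = torMap B u v (a * b) x := by
  simp only [torMap_apply, map_add, map_smul, LinearMap.add_apply, LinearMap.smul_apply, smul_eq_mul,
    hu, hv, huv, hvu]
  match_scalars <;> field_simp <;> ring

lemma torMap_one (u v x : V) : torMap B u v 1 x = x := by simp [torMap_apply]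

/-- The torus element as an equivalence. -/
def tor {u v : V} (hu : B u u = 0) (hv : B v v = 0) (huv : B u v = 1) (hvu : B v u = 1) {a : K}
    (ha : a ≠ 0) : V ≃ₗ[K] V :=
  LinearEquiv.ofLinearMap (torMap B u v a) (torMap B u v a⁻¹)
    (LinearMap.ext fun x => by
      simp [torMap_mul B hu hv huv hvu ha (inv_ne_zero ha), mul_inv_cancel₀ ha, torMap_one])
    (LinearMap.ext fun x => by
      simp [torMap_mul B hu hv huv hvu (inv_ne_zero ha) ha, inv_mul_cancel₀ ha, torMap_one])

@[simp] lemma tor_apply {u v : V} (hu : B u u = 0) (hv : B v v = 0) (huv : B u v = 1) (hvu : B v u = 1)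
    {a : K} (ha : a ≠ 0) (x : V) : tor B hu hv huv hvu ha x = torMap B u v a x := rfl

namespace Hyp

variable {B} {G : Subgroup (AutV F V)} (h : Hyp B G)
include h

lemma exists_dual {u : V} (hu0 : u ≠ 0) (hu : B u u = 0) : ∃ v, B v v = 0 ∧ B u v = 1 := by
  obtain ⟨y, hy⟩ : ∃ y, B u y ≠ 0 := by
    by_contra hc
    exact hu0 (h.nondeg u fun y => by by_contra hy; exact hc ⟨y, hy⟩)
  obtain ⟨z, hz⟩ : ∃ z, B u z = 1 := ⟨(B u y)⁻¹ • y, by simp [hy]⟩
  refine ⟨z - (B z z / 2) • u, ?_, by simp [hz, hu]⟩
  have h2 := h.two_ne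
  simp only [map_sub, map_smul, LinearMap.sub_apply, LinearMap.smul_apply, smul_eq_mul, hu, hz, h.symm z u]
  field_simp
  ring

lemma isom_tor {u v : V} (hu : B u u = 0) (hv : B v v = 0) (huv : B u v = 1) {a : K} (ha : a ≠ 0)
    (x y : V) : B (torMap B u v a x) (torMap B u v a y) = B x y := by
  simp only [torMap_apply, map_add, map_smul, LinearMap.add_apply, LinearMap.smul_apply, smul_eq_mul,
    hu, hv, huv, h.symm v u, h.symm u y, h.symm v y]
  field_simp
  ring

/-- The Siegel maps lie in `G`. -/
lemma sieg_mem {u w : V} (hu : B u u = 0) (hw : B u w = 0) :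
    res F (sieg B h.symm h.two_ne hu hw) ∈ G := by
  have h2 := h.two_ne
  rcases eq_or_ne u 0 with rfl | hu0
  · have : res F (sieg B h.symm h.two_ne hu hw) = 1 := LinearEquiv.ext fun x => by simp [siegMap_apply]
    rw [this]; exact G.one_mem
  obtain ⟨v, hv, huv⟩ := h.exists_dual hu0 hu
  have hvu : B v u = 1 := by rw [h.symm, huv]
  set t := sieg B h.symm h.two_ne hu hw
  set d := tor B hu hv huv hvu h2
  have e : t = d * t * d⁻¹ * t⁻¹ := by
    rw [eq_mul_inv_iff_mul_eq, eq_mul_inv_iff_mul_eq]
    refine LinearEquiv.ext fun x => ?_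
    show siegMap B u w (siegMap B u w (torMap B u v 2 x)) = torMap B u v 2 (siegMap B u w x)
    simp only [siegMap_apply, torMap_apply, map_add, map_sub, map_smul, LinearMap.add_apply,
      LinearMap.sub_apply, LinearMap.smul_apply, smul_eq_mul, hu, hv, huv, hvu, hw, h.symm w u, h.symm v w]
    match_scalars <;> field_simp <;> ring
  rw [e]
  exact h.comm_mem d t (h.isom_tor hu hv huv h2) (isom_siegMap h.symm hu h2 hw)

/-- The squares in a hyperbolic torus lie in `G`. -/
lemma tor_sq_mem {u v : V} (hu : B u u = 0) (hv : B v v = 0) (huv : B u v = 1) (hvu : B v u = 1) {a : K}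
    (ha : a ≠ 0) : res F (tor B hu hv huv hvu (mul_ne_zero ha ha)) ∈ G := by
  have h2 := h.two_ne
  have he : B (u - v) (u - v) ≠ 0 := by
    simpa [map_sub, hu, hv, huv, hvu, show (-1 - 1 : K) = -2 by norm_num] using h2
  set d := tor B hu hv huv hvu ha
  set s := refl B h.symm he
  have e : tor B hu hv huv hvu (mul_ne_zero ha ha) = d * s * d⁻¹ * s⁻¹ := by
    rw [eq_mul_inv_iff_mul_eq, eq_mul_inv_iff_mul_eq]
    refine LinearEquiv.ext fun x => ?_
    show torMap B u v (a * a) (refl B h.symm he (torMap B u v a x)) = torMap B u v a (refl B h.symm he x)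
    have hee : B (u - v) (u - v) = -2 := by simp [map_sub, hu, hv, huv, hvu]; norm_num
    rw [refl_apply, refl_apply, hee]
    simp only [torMap_apply, map_add, map_sub, map_smul, LinearMap.add_apply, LinearMap.sub_apply,
      LinearMap.smul_apply, smul_eq_mul, hu, hv, huv, hvu]
    match_scalars <;> field_simp <;> ring
  rw [e]
  exact h.comm_mem d s (h.isom_tor hu hv huv ha) (isom_refl B h.symm he)

/-- The half turn in a plane with an orthogonal basis of two vectors of equal values lies in `G`. -/
lemma exists_halfturn {e₁ e₂ : V} (he : B e₁ e₁ ≠ 0) (heq : B e₂ e₂ = B e₁ e₁) (horth : B e₁ e₂ = 0) :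
    ∃ g ∈ G, ∀ x, g x = x - (2 * B x e₁ / B e₁ e₁) • e₁ - (2 * B x e₂ / B e₁ e₁) • e₂ := by
  have h21 : B e₂ e₁ = 0 := by rw [h.symm, horth]
  have hd : B (e₁ - e₂) (e₁ - e₂) ≠ 0 := by
    have : B (e₁ - e₂) (e₁ - e₂) = 2 * B e₁ e₁ := by simp [heq, horth, h21]; ring
    rw [this]; exact mul_ne_zero h.two_ne he
  have he₂ : B e₂ e₂ ≠ 0 := heq ▸ he
  set s₁ := refl B h.symm he
  set s := refl B h.symm hd
  refine ⟨res F (s * s₁ * s⁻¹ * s₁⁻¹), h.comm_mem s s₁ (isom_refl B h.symm hd) (isom_refl B h.symm he),
    fun x => ?_⟩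
  show s (s₁ (s (s₁ x))) = _
  have hde : B (e₁ - e₂) (e₁ - e₂) = 2 * B e₁ e₁ := by simp [heq, horth, h21]; ring
  simp only [s, s₁, refl_apply, hde]
  simp only [map_add, map_sub, map_smul, LinearMap.sub_apply, LinearMap.smul_apply, smul_eq_mul,
    horth, h21, heq]
  have h2 := h.two_ne
  match_scalars <;> field_simp <;> ring

end Hyp

/-! ### Big subgroups of a module -/

lemma span_eq_top_of_big {M : Type*} [AddCommGroup M] [Module K M] [Finite M] {p : ℕ}
    (hp : p < Nat.card K) (S : AddSubgroup M) (hS : Nat.card M ≤ p * Nat.card S) :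
    Submodule.span K (S : Set M) = ⊤ := by
  by_contra hne
  set W := Submodule.span K (S : Set M)
  have h1 : Nat.card S ≤ Nat.card W :=
    Nat.card_le_card_of_injective (fun s : S => (⟨s, Submodule.subset_span s.2⟩ : W))
      fun a b e => Subtype.ext (congrArg (fun t : W => (t : M)) e)
  have hK : Finite K := Nat.finite_of_card_ne_zero (by omega)
  have h2 : finrank K W + 1 ≤ finrank K M := Submodule.finrank_lt hne
  have hW : Nat.card W = Nat.card K ^ finrank K W := Module.natCard_eq_pow_finrank
  have hM : Nat.card M = Nat.card K ^ finrank K M := Module.natCard_eq_pow_finrank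
  have h3 : Nat.card K * Nat.card W ≤ Nat.card M := by
    rw [hW, hM, ← pow_succ']
    exact Nat.pow_le_pow_right Nat.card_pos h2
  have h4 : Nat.card K * Nat.card W ≤ p * Nat.card W :=
    h3.trans (hS.trans (Nat.mul_le_mul_left _ h1))
  have := Nat.le_of_mul_le_mul_right h4 Nat.card_pos
  omega

end CfsgLib.ExtFieldOrth
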