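import Mathlib
import Cfsg.Agent.Lib.ExtFieldOrth.Basic

/-!
The root group of a singular line, its multipliers, and, when only the multiplications are
multipliers: stabilisers of the line act semilinearly on it and `p`-subgroups containing the root
group stabilise it.
-/

set_option autoImplicit false
set_option linter.unusedSectionVars false
set_option linter.style.haveILetI false
set_option linter.unusedVariables false
set_option linter.unusedSimpArgs false

namespace CfsgLib.ExtFieldOrth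

open Module

variable {F K V : Type*} [Field F] [Field K] [Algebra F K] [AddCommGroup V] [Module F V]
  [Module K V] [IsScalarTower F K V]

variable (B : V →ₗ[K] V →ₗ[K] K) (G : Subgroup (AutV F V))

/-- The functionals `δ` on the orthogonal space of `u`, vanishing on `K u`, such that a member of `G`
acts there as `x ↦ x + δ(x) u`. -/
def rootSet (u : V) : Set (↥(perp B u) →ₗ[F] K) :=
  {δ | (∀ (k : K) (hk : k • u ∈ perp B u), δ ⟨k • u, hk⟩ = 0) ∧
    ∃ g ∈ G, ∀ x : perp B u, g (x : V) = (x : V) + δ x • u}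

variable {B G}

lemma rootSet_zero (u : V) : (0 : ↥(perp B u) →ₗ[F] K) ∈ rootSet B G u :=
  ⟨fun _ _ => rfl, 1, G.one_mem, fun x => by simp⟩

lemma rootSet_add {u : V} {δ ε : ↥(perp B u) →ₗ[F] K} (hu : B u u = 0) (hd : δ ∈ rootSet B G u)
    (he : ε ∈ rootSet B G u) : δ + ε ∈ rootSet B G u := by
  obtain ⟨hd0, g, hg, hgx⟩ := hd
  obtain ⟨he0, t, ht, htx⟩ := he
  refine ⟨fun k hk => by simp [hd0, he0], g * t, G.mul_mem hg ht, fun x => ?_⟩
  have hm : ε x • u ∈ perp B u := by simp [hu]
  rw [LinearEquiv.mul_apply, htx, show (x : V) + ε x • u = ((x + ⟨_, hm⟩ : perp B u) : V) from rfl, hgx,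
    map_add, hd0 _ hm, add_zero, LinearMap.add_apply, add_smul]
  simp only [Submodule.coe_add]
  abel

lemma rootSet_neg {u : V} {δ : ↥(perp B u) →ₗ[F] K} (hu : B u u = 0) (hd : δ ∈ rootSet B G u) :
    -δ ∈ rootSet B G u := by
  obtain ⟨hd0, g, hg, hgx⟩ := hd
  refine ⟨fun k hk => by simp [hd0], g⁻¹, G.inv_mem hg, fun x => g.injective ?_⟩
  show g (g.symm x) = _
  have hm : (-δ) x • u ∈ perp B u := by simp [hu]
  rw [g.apply_symm_apply, show (x : V) + (-δ) x • u = ((x + ⟨_, hm⟩ : perp B u) : V) from rfl, hgx,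
    map_add, hd0 _ hm, add_zero, Submodule.coe_add]
  simp

/-- The ring of left multipliers of the root set. -/
def multipliers (B : V →ₗ[K] V →ₗ[K] K) (G : Subgroup (AutV F V)) (u : V) (hu : B u u = 0) :
    Subring (Module.End F K) where
  carrier := {X | ∀ δ ∈ rootSet B G u, X ∘ₗ δ ∈ rootSet B G u}
  zero_mem' δ _ := by simpa using rootSet_zero u
  one_mem' δ hδ := by simpa [Module.End.one_eq_id] using hδ
  add_mem' {X Y} hX hY δ hδ := by
    rw [LinearMap.add_comp]; exact rootSet_add hu (hX δ hδ) (hY δ hδ)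
  neg_mem' {X} hX δ hδ := by
    rw [LinearMap.neg_comp]; exact rootSet_neg hu (hX δ hδ)
  mul_mem' {X Y} hX hY δ hδ := hX _ (hY δ hδ)

variable (B G) in
/-- Only the multiplications are multipliers of the root set of `u`. -/
def OnlyMul (u : V) : Prop :=
  ∀ X : Module.End F K, (∀ δ ∈ rootSet B G u, X ∘ₗ δ ∈ rootSet B G u) → ∃ k : K, X = LinearMap.mulLeft F k

/-- A ring of endomorphisms containing the multiplications is everything, or only these. -/
theorem subring_dichotomy [Fintype F] [FiniteDimensional F K] (hp : (finrank F K).Prime)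
    (M : Subring (Module.End F K)) (hM : ∀ k : K, LinearMap.mulLeft F k ∈ M) :
    (∀ X : Module.End F K, X ∈ M) ∨ ∀ X ∈ M, ∃ k : K, X = LinearMap.mulLeft F k := by
  classical
  by_cases hh : ∀ X ∈ M, ∃ k : K, X = LinearMap.mulLeft F k
  · exact Or.inr hh
  refine Or.inl ?_
  have : Finite K := Module.finite_of_finite F
  simp only [not_forall] at hh
  obtain ⟨X, hX, hXk⟩ := hh
  have hsmul : ∀ (k : K) (Y : Module.End F K), Y ∈ M → k • Y ∈ M := fun k Y hY => by
    have e : k • Y = LinearMap.mulLeft F k * Y := by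
      ext x; simp
    rw [e]; exact M.mul_mem (hM k) hY
  have hcard : Fintype.card (K ≃ₐ[F] K) = finrank K (K →ₗ[F] K) := by
    rw [Module.finrank_linearMap, Module.finrank_self, mul_one, ← Nat.card_eq_fintype_card,
      IsGalois.card_aut_eq_finrank]
  have hli : LinearIndependent K (fun σ : K ≃ₐ[F] K => σ.toLinearMap) :=
    (linearIndependent_toLinearMap F K K).comp (fun σ : K ≃ₐ[F] K => σ.toAlgHom)
      fun σ τ hst => AlgEquiv.ext fun x => DFunLike.congr_fun hst x
  have hspan := hli.span_eq_top_of_card_eq_finrank hcard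
  have hrep : ∀ Y : K →ₗ[F] K, ∃ c : (K ≃ₐ[F] K) → K, ∑ σ, c σ • σ.toLinearMap = Y := fun Y =>
    (Submodule.mem_span_range_iff_exists_fun K).mp (hspan ▸ Submodule.mem_top)
  have isolate : ∀ n (s : Finset (K ≃ₐ[F] K)), s.card ≤ n → ∀ c : (K ≃ₐ[F] K) → K,
      (∑ σ ∈ s, c σ • σ.toLinearMap : Module.End F K) ∈ M →
      ∀ σ₀ ∈ s, c σ₀ ≠ 0 → (σ₀.toLinearMap : Module.End F K) ∈ M := by
    intro n
    induction n with
    | zero =>
      intro s hs c _ σ₀ hσ₀
      simp [Finset.card_eq_zero.mp (Nat.le_zero.mp hs)] at hσ₀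
    | succ n ih =>
      intro s hs c hY σ₀ hσ₀ hc0
      by_cases hτ : ∃ τ ∈ s, τ ≠ σ₀
      · obtain ⟨τ, hτs, hne⟩ := hτ
        obtain ⟨k, hk⟩ : ∃ k, σ₀ k ≠ τ k := by
          by_contra hh
          simp only [not_exists, not_not] at hh
          exact hne (AlgEquiv.ext fun x => (hh x).symm)
        refine ih (s.erase τ) (by rw [Finset.card_erase_of_mem hτs]; omega)
          (fun σ => c σ * (σ k - τ k)) ?_ σ₀ (Finset.mem_erase.mpr ⟨hne.symm, hσ₀⟩)
          (mul_ne_zero hc0 (sub_ne_zero.mpr hk))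
        have hY' := M.sub_mem (M.mul_mem hY (hM k)) (hsmul (τ k) _ hY)
        convert hY' using 1
        refine LinearMap.ext fun x => ?_
        simp only [LinearMap.sum_apply, LinearMap.smul_apply, AlgEquiv.toLinearMap_apply,
          LinearMap.sub_apply, Module.End.mul_apply, LinearMap.mulLeft_apply, map_mul, smul_eq_mul]
        rw [Finset.mul_sum, ← Finset.sum_sub_distrib]
        rw [Finset.sum_erase _ (by simp)]
        exact Finset.sum_congr rfl fun σ _ => by ring
      · simp only [not_exists, not_and, not_not] at hτ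
        have hs1 : s = {σ₀} := by
          ext τ; simp only [Finset.mem_singleton]
          exact ⟨hτ τ, fun e => e ▸ hσ₀⟩
        rw [hs1, Finset.sum_singleton] at hY
        have := hsmul (c σ₀)⁻¹ _ hY
        rwa [smul_smul, inv_mul_cancel₀ hc0, one_smul] at this
  obtain ⟨c, hc⟩ := hrep X
  obtain ⟨σ₀, hσ₀, hσ1⟩ : ∃ σ₀, c σ₀ ≠ 0 ∧ σ₀ ≠ 1 := by
    by_contra hh
    simp only [not_exists, not_and, not_not] at hh
    refine hXk ⟨c 1, ?_⟩
    rw [← hc, Finset.sum_eq_single 1 (fun σ _ hσ => by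
      rw [show c σ = 0 by by_contra h0; exact hσ (hh σ h0), zero_smul]) (by simp)]
    ext x; simp
  have hσM := isolate _ Finset.univ le_rfl c (by rw [hc]; exact hX) σ₀ (Finset.mem_univ _) hσ₀
  have hall : ∀ σ : K ≃ₐ[F] K, (σ.toLinearMap : Module.End F K) ∈ M := by
    intro σ
    have : Fact (finrank F K).Prime := ⟨hp⟩
    have hgen : σ ∈ Subgroup.zpowers σ₀ :=
      mem_zpowers_of_prime_card (p := finrank F K) (IsGalois.card_aut_eq_finrank F K) hσ1
    obtain ⟨n, rfl⟩ := mem_powers_iff_mem_zpowers.mpr hgen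
    induction n with
    | zero =>
      convert M.one_mem using 1
      ext x; simp
    | succ n ih =>
      convert M.mul_mem (ih (Subgroup.npow_mem_zpowers _ _)) hσM using 1
      ext x; simp [pow_succ]
  intro Y
  obtain ⟨d, rfl⟩ := hrep Y
  exact M.sum_mem fun σ _ => hsmul _ _ (hall σ)

/-- A member of `G` fixing the line acts on the root set. -/
lemma Hyp.map_perp [FiniteDimensional F K] [Algebra.IsSeparable F K] (h : Hyp B G) {u : V}
    (hu0 : u ≠ 0) {g : AutV F V} (hg : g ∈ G)
    (hL : ∀ k : K, g (k • u) ∈ K ∙ u) {x : V} (hx : B u x = 0) : B u (g x) = 0 := by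
  have hex : ∀ k : K, ∃ j : K, g (k • u) = j • u := fun k => by
    obtain ⟨j, hj⟩ := Submodule.mem_span_singleton.mp (hL k)
    exact ⟨j, hj.symm⟩
  choose a ha using hex
  have hlin : ∀ x y, a (x + y) = a x + a y := fun x y => smul_left_injective K hu0 (by
    show a (x + y) • u = (a x + a y) • u
    rw [← ha, add_smul, map_add, ha, ha, add_smul])
  let A : K →ₗ[F] K :=
    { toFun := a
      map_add' := hlin
      map_smul' := fun r x => smul_left_injective K hu0 (by
        show a (r • x) • u = (r • a x) • u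
        rw [smul_assoc, ← ha, ← ha, smul_assoc, map_smul]) }
  have hinj : Function.Injective A := fun x y hxy =>
    smul_left_injective K hu0 (g.injective (by rw [ha, ha]; exact congrArg (· • u) hxy))
  refine (traceForm_nondegenerate F K).1 _ fun k => ?_
  obtain ⟨j, rfl⟩ := LinearMap.injective_iff_surjective.mp hinj k
  rw [Algebra.traceForm_apply]
  have h1 := h.isom g hg (j • u) x
  rw [ha, map_smul, map_smul, LinearMap.smul_apply, LinearMap.smul_apply, hx, smul_zero, map_zero,
    smul_eq_mul] at h1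
  rw [mul_comm]; exact h1

namespace Hyp

variable [FiniteDimensional F K] [Algebra.IsSeparable F K] (h : Hyp B G)
include h

lemma rootSet_conj {u : V} (hu0 : u ≠ 0) {g : AutV F V} (hg : g ∈ G) {a : K →ₗ[F] K}
    (ha : ∀ k : K, g (k • u) = a k • u) {δ ε : ↥(perp B u) →ₗ[F] K} (hd : δ ∈ rootSet B G u)
    (hε : ∀ (x : perp B u) (hx : (g⁻¹ : AutV F V) (x : V) ∈ perp B u), ε x = a (δ ⟨_, hx⟩)) :
    ε ∈ rootSet B G u := by
  obtain ⟨hd0, t, ht, htx⟩ := hd
  have hinj : Function.Injective a := fun x y hxy =>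
    smul_left_injective K hu0 (g.injective (by rw [ha, ha, hxy]))
  have hL : ∀ k : K, (g⁻¹ : AutV F V) (k • u) ∈ K ∙ u := fun k => by
    obtain ⟨j, rfl⟩ := LinearMap.injective_iff_surjective.mp hinj k
    rw [← ha]
    exact Submodule.mem_span_singleton.mpr ⟨j, (g.symm_apply_apply _).symm⟩
  have hP : ∀ x : perp B u, (g⁻¹ : AutV F V) (x : V) ∈ perp B u := fun x =>
    (mem_perp B).mpr (h.map_perp hu0 (G.inv_mem hg) hL ((mem_perp B).mp x.2))
  refine ⟨fun k hk => ?_, g * t * g⁻¹, G.mul_mem (G.mul_mem hg ht) (G.inv_mem hg), fun x => ?_⟩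
  · obtain ⟨j, hj⟩ := Submodule.mem_span_singleton.mp (hL k)
    rw [hε _ (hP _)]
    have e : (⟨(g⁻¹ : AutV F V) (k • u), hP ⟨_, hk⟩⟩ : perp B u) = ⟨j • u, by rw [hj]; exact hP ⟨_, hk⟩⟩ :=
      Subtype.ext hj.symm
    rw [e, hd0, map_zero]
  · show g (t (g.symm (x : V))) = _
    have := htx ⟨_, hP x⟩
    rw [show t (g.symm (x : V)) = g.symm (x : V) + δ ⟨_, hP x⟩ • u from this, map_add, g.apply_symm_apply, ha,
      ← hε x]

/-- The Siegel maps give root functionals. -/
lemma rootSet_sieg {u : V} (hu : B u u = 0) (w : perp B u) :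
    ((B.flip (w : V)).domRestrict (perp B u)).restrictScalars F ∈ rootSet B G u := by
  refine ⟨fun k hk => ?_, _, h.sieg_mem hu ((mem_perp B).mp w.2), fun x => ?_⟩
  · simp [(mem_perp B).mp w.2]
  · have hx : B (x : V) u = 0 := by rw [h.symm]; exact (mem_perp B).mp x.2
    simp [siegMap_apply, hx]

lemma mulLeft_sq_mem {u : V} (hu0 : u ≠ 0) (hu : B u u = 0) (a : K) :
    LinearMap.mulLeft F (a * a) ∈ multipliers B G u hu := by
  rcases eq_or_ne a 0 with rfl | ha
  · simp [show LinearMap.mulLeft F (0 : K) = 0 from LinearMap.mulLeft_zero_eq_zero F K]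
  obtain ⟨v, hv, huv⟩ := h.exists_dual hu0 hu
  have hvu : B v u = 1 := by rw [h.symm, huv]
  intro δ hδ
  set e := tor B hu hv huv hvu (mul_ne_zero ha ha)
  have heu : ∀ k : K, res F e (k • u) = (LinearMap.mulLeft F (a * a) k) • u := fun k => by
    simp only [e, res_apply, tor_apply, torMap_apply, map_smul, LinearMap.smul_apply, smul_eq_mul, hu, huv,
      LinearMap.mulLeft_apply]
    module
  refine h.rootSet_conj hu0 (h.tor_sq_mem hu hv huv hvu ha) heu hδ fun x hx => ?_
  rw [LinearMap.comp_apply]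
  congr 1
  obtain ⟨hd0, -⟩ := hδ
  have hxu : B (x : V) u = 0 := by rw [h.symm]; exact (mem_perp B).mp x.2
  have hval : ((res F e)⁻¹ : AutV F V) (x : V) =
      (x : V) + (((a * a)⁻¹ - 1) * B (x : V) v) • u := by
    show torMap B u v (a * a)⁻¹ (x : V) = _
    simp [torMap_apply, hxu]
  have hm : (((a * a)⁻¹ - 1) * B (x : V) v) • u ∈ perp B u := by simp [hu]
  rw [show (⟨_, hx⟩ : perp B u) = x + ⟨_, hm⟩ from Subtype.ext hval, map_add, hd0 _ hm, add_zero]

lemma mulLeft_mem [Fintype F] {u : V} (hu0 : u ≠ 0) (hu : B u u = 0) (a : K) :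
    LinearMap.mulLeft F a ∈ multipliers B G u hu := by
  obtain ⟨p, hp⟩ := CharP.exists F
  have hKp : CharP K p := charP_of_injective_algebraMap (algebraMap F K).injective p
  have hpp : p.Prime := CharP.char_is_prime F p
  have hp2 : p ≠ 2 := fun e => by
    subst e; exact h.two_ne (by exact_mod_cast CharP.cast_eq_zero K 2)
  obtain ⟨j, hj⟩ := hpp.odd_of_ne_two hp2
  have hhalf : ((j + 1 : ℕ) : K) * 2 = 1 := by
    have : ((j + 1 : ℕ) : K) * 2 = ((p : ℕ) : K) + 1 := by rw [hj]; push_cast; ring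
    rw [this, CharP.cast_eq_zero, zero_add]
  have e : LinearMap.mulLeft F a = (j + 1) • (LinearMap.mulLeft F ((a + 1) * (a + 1)) -
      LinearMap.mulLeft F (a * a) - LinearMap.mulLeft F (1 * 1)) := by
    refine LinearMap.ext fun x => ?_
    rw [LinearMap.smul_apply, nsmul_eq_mul]
    simp only [LinearMap.sub_apply, LinearMap.mulLeft_apply]
    push_cast at hhalf ⊢
    linear_combination (-(a * x)) * hhalf
  rw [e]
  exact nsmul_mem (sub_mem (sub_mem (h.mulLeft_sq_mem hu0 hu _) (h.mulLeft_sq_mem hu0 hu _))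
    (h.mulLeft_sq_mem hu0 hu _)) _

theorem dichotomy [Fintype F] {u : V} (hu0 : u ≠ 0) (hu : B u u = 0) :
    (∀ X : Module.End F K, X ∈ multipliers B G u hu) ∨ OnlyMul B G u :=
  subring_dichotomy h.prime _ (h.mulLeft_mem hu0 hu)

end Hyp

end CfsgLib.ExtFieldOrth
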