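import Mathlib
import Cfsg.Agent.Lib.ExtFieldOrth.Roots

/-!
When only the multiplications are multipliers: stabilisers of a singular line act semilinearly on it,
`p`-subgroups containing its root group stabilise it, and stabilisers of two vectors of an image of the
line act semilinearly on them.
-/

set_option autoImplicit false
set_option linter.unusedSectionVars false
set_option linter.style.haveILetI false
set_option linter.unusedVariables false
set_option linter.unusedSimpArgs false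

namespace CfsgLib.ExtFieldOrth

open Module

variable {F K V : Type*} [Field F] [Field K] [Algebra F K] [AddCommGroup V] [Module F V]
  [Module K V] [IsScalarTower F K V]
variable {B : V →ₗ[K] V →ₗ[K] K} {G : Subgroup (AutV F V)}

/-- A subgroup of a group of order a power of `p`: the kernel of a map to a group of prime order. -/
lemma card_le_mul_card_ker {P Γ : Type*} [Group P] [Finite P] [Group Γ] [Finite Γ] {p r : ℕ} (hp : p.Prime)
    (hr : r.Prime) (hP : IsPGroup p P) (hΓ : Nat.card Γ = r) (f : P →* Γ) :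
    Nat.card P ≤ p * Nat.card f.ker := by
  haveI := Fact.mk hp
  have h1 := f.ker.card_mul_index
  rw [Subgroup.index_ker] at h1
  have hd : Nat.card f.range ∣ r := hΓ ▸ f.range.card_subgroup_dvd_card
  obtain ⟨k, hk⟩ := (hP.of_surjective f.rangeRestrict f.rangeRestrict_surjective).exists_card_eq
  rw [← h1, mul_comm p]
  refine Nat.mul_le_mul_left _ ?_
  rcases (Nat.dvd_prime hr).mp hd with h | h
  · rw [h]; exact hp.one_lt.le
  · rcases k with _ | k
    · rw [hk, pow_zero]; exact hp.one_lt.le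
    · have : p ∣ r := h ▸ hk ▸ dvd_pow_self p k.succ_ne_zero
      rw [h, (Nat.prime_dvd_prime_iff_eq hp hr).mp this]

lemma card_le_mul_card_inf {X : Type*} [Group X] [Finite X] {p : ℕ} {T P P₁ : Subgroup X} (hT : T ≤ P)
    (h1 : P₁ ≤ P) (hc : Nat.card P ≤ p * Nat.card P₁) : Nat.card T ≤ p * Nat.card (P₁ ⊓ T : Subgroup X) := by
  have e : ∀ {A C : Subgroup X}, A ≤ C → A.relIndex C * Nat.card A = Nat.card C := fun {A C} hAC => by
    rw [← Nat.card_congr (Subgroup.subgroupOfEquivOfLe hAC).toEquiv]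
    exact Subgroup.index_mul_card _
  have hr1 : P₁.relIndex P ≤ p := Nat.le_of_mul_le_mul_right ((e h1).trans_le hc) Nat.card_pos
  have hr2 : P₁.relIndex T ≤ p :=
    (Subgroup.relIndex_le_of_le_right hT Subgroup.index_ne_zero_of_finite).trans hr1
  rw [← e (inf_le_right : P₁ ⊓ T ≤ T), Subgroup.inf_relIndex_right]
  exact Nat.mul_le_mul_right _ hr2

namespace Hyp

variable (h : Hyp B G)
include h

/-- The Siegel maps of `u`, as a homomorphism. -/
def rootHom {u : V} (hu : B u u = 0) : Multiplicative ↥(perp B u) →* AutV F V where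
  toFun w := res F (sieg B h.symm h.two_ne hu ((mem_perp B).mp (Multiplicative.toAdd w).2))
  map_one' := LinearEquiv.ext fun x => siegMap_zero B u x
  map_mul' a b := LinearEquiv.ext fun x =>
    (siegMap_add h.symm hu h.two_ne ((mem_perp B).mp (Multiplicative.toAdd a).2)
      ((mem_perp B).mp (Multiplicative.toAdd b).2) x).symm

lemma rootHom_apply {u : V} (hu : B u u = 0) (w : perp B u) (x : V) :
    h.rootHom hu (Multiplicative.ofAdd w) x = siegMap B u w x := rfl

lemma rootHom_mem {u : V} (hu : B u u = 0) (w : Multiplicative ↥(perp B u)) : h.rootHom hu w ∈ G :=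
  h.sieg_mem hu _

/-- The Siegel maps `ρ_{u,y}` with `y ∈ Y`. -/
def rootSub {u : V} (hu : B u u = 0) (Y : Submodule K ↥(perp B u)) : Subgroup (AutV F V) :=
  (AddSubgroup.toSubgroup Y.toAddSubgroup).map (h.rootHom hu)

/-- The whole root group. -/
def rootGroup {u : V} (hu : B u u = 0) : Subgroup (AutV F V) := h.rootSub hu ⊤

lemma rootSub_le {u : V} (hu : B u u = 0) (Y : Submodule K ↥(perp B u)) : h.rootSub hu Y ≤ G := by
  rintro _ ⟨w, -, rfl⟩; exact h.rootHom_mem hu w

lemma rootGroup_fix {u : V} (hu : B u u = 0) {t : AutV F V} (ht : t ∈ h.rootGroup hu) (k : K) :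
    t (k • u) = k • u := by
  obtain ⟨w, -, rfl⟩ := ht
  show siegMap B u _ (k • u) = k • u
  simp [siegMap_apply, hu, (mem_perp B).mp (Multiplicative.toAdd w).2]

lemma rootSub_isPGroup (p : ℕ) [CharP F p] {u : V} (hu : B u u = 0) (Y : Submodule K ↥(perp B u)) :
    IsPGroup p (h.rootSub hu Y) := by
  refine IsPGroup.map (fun w => ⟨1, Subtype.ext ?_⟩) _
  have : CharP K p := charP_of_injective_algebraMap (algebraMap F K).injective p
  obtain ⟨w, hw⟩ := w
  show Multiplicative.ofAdd ((p ^ 1) • Multiplicative.toAdd w) = 1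
  rw [pow_one, ← Nat.cast_smul_eq_nsmul K, CharP.cast_eq_zero, zero_smul]
  rfl

variable [Fintype F] [FiniteDimensional F K] [Algebra.IsSeparable F K] [FiniteDimensional F V]

/-- With only the multiplications as multipliers, a member of `G` stabilising the line is semilinear there. -/
theorem semi_on_line {u : V} (hu0 : u ≠ 0) (hu : B u u = 0) (hM : OnlyMul B G u) {g : AutV F V}
    (hg : g ∈ G) (hL : ∀ k : K, g (k • u) ∈ K ∙ u) :
    ∃ (τ : K ≃ₐ[F] K) (c : K), c ≠ 0 ∧ ∀ k, g (k • u) = (c * τ k) • u := by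
  have hex : ∀ k : K, ∃ j : K, g (k • u) = j • u := fun k => by
    obtain ⟨j, hj⟩ := Submodule.mem_span_singleton.mp (hL k)
    exact ⟨j, hj.symm⟩
  choose f hf using hex
  let a : K →ₗ[F] K :=
    { toFun := f
      map_add' := fun x y => smul_left_injective K hu0 (by
        show f (x + y) • u = (f x + f y) • u
        rw [← hf, add_smul, map_add, hf, hf, add_smul])
      map_smul' := fun r x => smul_left_injective K hu0 (by
        show f (r • x) • u = (r • f x) • u
        rw [smul_assoc, ← hf, ← hf, smul_assoc, map_smul]) }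
  have ha : ∀ k, g (k • u) = a k • u := hf
  have hinj : Function.Injective a := fun x y hxy =>
    smul_left_injective K hu0 (g.injective (by rw [ha, ha, hxy]))
  set A : K ≃ₗ[F] K := LinearEquiv.ofBijective a ⟨hinj, LinearMap.injective_iff_surjective.mp hinj⟩ with hA
  have hAa : ∀ k, A k = a k := fun k => rfl
  have hginv : ∀ k : K, (g⁻¹ : AutV F V) (k • u) = A.symm.toLinearMap k • u := fun k => by
    refine g.injective ?_
    show g (g.symm (k • u)) = _
    rw [g.apply_symm_apply, ha, LinearEquiv.coe_coe, ← hAa, A.apply_symm_apply]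
  have hmul : ∀ k z, a (k * z) * a 1 = a k * a z := by
    intro k
    have hmem : ∀ δ ∈ rootSet B G u,
        (A.toLinearMap ∘ₗ LinearMap.mulLeft F k ∘ₗ A.symm.toLinearMap) ∘ₗ δ ∈ rootSet B G u := by
      intro δ hδ
      have hLi : ∀ k : K, (g⁻¹ : AutV F V) (k • u) ∈ K ∙ u := fun k => by
        rw [hginv]; exact Submodule.smul_mem _ _ (Submodule.mem_span_singleton_self u)
      have hP : ∀ x : perp B u, g (x : V) ∈ perp B u := fun x =>
        (mem_perp B).mpr (h.map_perp hu0 hg hL ((mem_perp B).mp x.2))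
      let gp : ↥(perp B u) →ₗ[F] ↥(perp B u) :=
        { toFun := fun x => ⟨g (x : V), hP x⟩
          map_add' := fun x y => Subtype.ext (map_add g _ _)
          map_smul' := fun r x => Subtype.ext (map_smul g r _) }
      have h0 : A.symm.toLinearMap ∘ₗ δ ∘ₗ gp ∈ rootSet B G u :=
        h.rootSet_conj hu0 (G.inv_mem hg) hginv hδ fun x hx => by
          show A.symm (δ _) = A.symm (δ _)
          congr 2
      have hk := h.mulLeft_mem hu0 hu k _ h0
      refine h.rootSet_conj hu0 hg ha hk fun x hx => ?_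
      show A (k * A.symm (δ x)) = A (k * A.symm (δ (gp ⟨_, hx⟩)))
      rw [show gp ⟨_, hx⟩ = x from Subtype.ext (g.apply_symm_apply _)]
    obtain ⟨k', hk'⟩ := hM _ hmem
    have hz : ∀ z, a (k * z) = k' * a z := fun z => by
      have := LinearMap.congr_fun hk' (a z)
      simp only [LinearMap.comp_apply, LinearEquiv.coe_coe, LinearMap.mulLeft_apply] at this
      rwa [show A.symm (a z) = z from A.symm_apply_apply z, hAa] at this
    intro z
    have h1 := hz 1
    rw [mul_one] at h1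
    rw [hz z, h1]; ring
  have hc : a 1 ≠ 0 := fun e => one_ne_zero (hinj (e.trans (map_zero a).symm))
  let τ : K →ₐ[F] K := AlgHom.ofLinearMap ((LinearMap.mulLeft F (a 1)⁻¹) ∘ₗ a)
    (by simp [inv_mul_cancel₀ hc]) (fun x y => by
      simp only [LinearMap.comp_apply, LinearMap.mulLeft_apply]
      field_simp
      linear_combination hmul x y)
  refine ⟨AlgEquiv.ofBijective τ ⟨τ.injective,
    (LinearMap.injective_iff_surjective (f := τ.toLinearMap)).mp τ.injective⟩, a 1, hc, fun k => ?_⟩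
  rw [ha]
  congr 1
  show a k = a 1 * ((a 1)⁻¹ * a k)
  field_simp

lemma mem_perp_of_mem_line {u : V} (hu : B u u = 0) {x : V} (hx : x ∈ K ∙ u) : B u x = 0 := by
  obtain ⟨k, rfl⟩ := Submodule.mem_span_singleton.mp hx
  simp [hu]

lemma exists_perp_notMem {u : V} (hu : B u u = 0) [FiniteDimensional K V] : ∃ x : perp B u, (x : V) ∉ K ∙ u := by
  by_contra hc
  have hle : perp B u ≤ K ∙ u := fun x hx => by
    by_contra hx'; exact hc ⟨⟨x, hx⟩, hx'⟩
  have h1 := Submodule.finrank_mono hle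
  have h2 : finrank K (K ∙ u) ≤ 1 := by
    rcases eq_or_ne u 0 with rfl | hu0
    · rw [Submodule.span_zero_singleton, finrank_bot]; omega
    · exact (finrank_span_singleton hu0).le
  have h3 := LinearMap.finrank_range_add_finrank_ker (B u)
  have h4 : finrank K (LinearMap.range (B u)) ≤ 1 :=
    (Submodule.finrank_le _).trans_eq (Module.finrank_self K)
  have := h.three_le
  change finrank K (LinearMap.range (B u)) + finrank K (perp B u) = _ at h3
  omega

lemma mem_line_of_perp_perp {u x : V} (hu0 : u ≠ 0) (hu : B u u = 0) (hx : B u x = 0)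
    (hxy : ∀ y, B u y = 0 → B x y = 0) : x ∈ K ∙ u := by
  obtain ⟨v, hv, huv⟩ := h.exists_dual hu0 hu
  refine Submodule.mem_span_singleton.mpr ⟨B x v, ?_⟩
  rw [← sub_eq_zero]
  refine h.nondeg _ fun y => ?_
  have h1 := hxy (y - B u y • v) (by simp [huv])
  simp only [map_sub, map_smul, smul_eq_mul, sub_eq_zero] at h1
  simp only [map_sub, map_smul, LinearMap.sub_apply, LinearMap.smul_apply, smul_eq_mul, h1]
  ring

section Prime

variable (p : ℕ) [Fact p.Prime] [CharP F p]

lemma lt_card : p < Nat.card K := by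
  obtain ⟨n, -, hn⟩ := FiniteField.card F p
  rw [Module.natCard_eq_pow_finrank (K := F) (V := K), Nat.card_eq_fintype_card, hn, ← pow_mul]
  exact lt_self_pow₀ (Fact.out : p.Prime).one_lt (by
    calc 1 < 1 * 2 := by omega
      _ ≤ (n : ℕ) * finrank F K := Nat.mul_le_mul n.pos h.prime.two_le)

/-- The fixed points of a big subgroup of a group of Siegel maps. -/
theorem fix_big {z : V} (hz0 : z ≠ 0) (hz : B z z = 0) (Y : Submodule K ↥(perp B z))
    (hY : ∃ y ∈ Y, (y : V) ∉ K ∙ z) (A : Subgroup (AutV F V)) (hA : A ≤ h.rootSub hz Y)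
    (hc : Nat.card (h.rootSub hz Y) ≤ p * Nat.card A) {x : V} (hx : ∀ t ∈ A, t x = x) :
    B x z = 0 ∧ ∀ y ∈ Y, B x (y : V) = 0 := by
  have : Finite K := Module.finite_of_finite F
  have : Finite V := Module.finite_of_finite F
  have hmem : ∀ y : Y, h.rootHom hz (Multiplicative.ofAdd (y : perp B z)) ∈ h.rootSub hz Y :=
    fun y => Subgroup.mem_map_of_mem _ y.2
  have : Finite (AutV F V) := Finite.of_injective (fun e : AutV F V => (e : V → V)) DFunLike.coe_injective
  let ψ : Multiplicative ↥Y →* ↥(h.rootSub hz Y) :=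
    { toFun := fun y => ⟨_, hmem (Multiplicative.toAdd y)⟩
      map_one' := Subtype.ext (map_one (h.rootHom hz))
      map_mul' := fun a b => Subtype.ext (map_mul (h.rootHom hz) _ _) }
  have hψ : Function.Surjective ψ := by
    rintro ⟨_, w, hw, rfl⟩
    exact ⟨Multiplicative.ofAdd ⟨_, hw⟩, rfl⟩
  let S : AddSubgroup ↥Y := Subgroup.toAddSubgroup' ((A.subgroupOf (h.rootSub hz Y)).comap ψ)
  have hidx : ((A.subgroupOf (h.rootSub hz Y)).comap ψ).index ≤ p := by
    rw [Subgroup.index_comap_of_surjective _ hψ]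
    have h1 := (A.subgroupOf (h.rootSub hz Y)).card_mul_index
    rw [Nat.card_congr (Subgroup.subgroupOfEquivOfLe hA).toEquiv] at h1
    exact Nat.le_of_mul_le_mul_left (h1.trans_le (hc.trans_eq (mul_comm _ _))) Nat.card_pos
  have hS : Nat.card Y ≤ p * Nat.card S := by
    rw [show Nat.card Y = Nat.card (Multiplicative ↥Y) from rfl,
      ← ((A.subgroupOf (h.rootSub hz Y)).comap ψ).card_mul_index, mul_comm p]
    exact Nat.mul_le_mul_left _ hidx
  have hspan := span_eq_top_of_big (lt_card h p) S hS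
  have hsx : ∀ s ∈ S, siegMap B z ((s : perp B z) : V) x = x := fun s hs =>
    hx _ (hs : (ψ (Multiplicative.ofAdd s) : AutV F V) ∈ A)
  obtain ⟨y₀, hy₀, hy₀z⟩ := hY
  have hxz : B x z = 0 := by
    by_contra hne
    refine hy₀z ?_
    have hle : Submodule.span K (S : Set ↥Y) ≤
        (K ∙ z).comap ((perp B z).subtype ∘ₗ Y.subtype) := by
      refine Submodule.span_le.mpr fun s hs => ?_
      have h1 := hsx s hs
      rw [siegMap_apply] at h1
      refine Submodule.mem_span_singleton.mpr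
        ⟨(B x ((s : perp B z) : V) - B ((s : perp B z) : V) ((s : perp B z) : V) / 2 * B x z) / B x z, ?_⟩
      show _ = ((s : perp B z) : V)
      apply smul_right_injective V hne
      simp only [smul_smul]
      rw [mul_div_cancel₀ _ hne, sub_smul]
      rw [add_sub_assoc, add_sub_assoc, add_eq_left, sub_sub, sub_eq_zero] at h1
      rw [h1]; abel
    rw [hspan] at hle
    exact hle (show (⟨y₀, hy₀⟩ : Y) ∈ (⊤ : Submodule K ↥Y) from Submodule.mem_top)
  refine ⟨hxz, fun y hy => ?_⟩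
  have hle : Submodule.span K (S : Set ↥Y) ≤ LinearMap.ker ((B x) ∘ₗ (perp B z).subtype ∘ₗ Y.subtype) := by
    refine Submodule.span_le.mpr fun s hs => ?_
    have h1 := hsx s hs
    rw [siegMap_apply, hxz] at h1
    simp only [zero_smul, sub_zero, mul_zero, add_eq_left, smul_eq_zero, hz0, or_false] at h1
    exact h1
  rw [hspan] at hle
  exact hle (show (⟨y, hy⟩ : Y) ∈ (⊤ : Submodule K ↥Y) from Submodule.mem_top)

/-- The fixed points of a big subgroup of the root group. -/
theorem fix_rootGroup {u : V} (hu0 : u ≠ 0) (hu : B u u = 0) (A : Subgroup (AutV F V))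
    (hA : A ≤ h.rootGroup hu) (hc : Nat.card (h.rootGroup hu) ≤ p * Nat.card A) {x : V}
    (hx : ∀ t ∈ A, t x = x) : x ∈ K ∙ u := by
  have : FiniteDimensional K V := Module.Finite.of_restrictScalars_finite F K V
  obtain ⟨y, hy⟩ := h.exists_perp_notMem hu
  obtain ⟨h1, h2⟩ := h.fix_big p hu0 hu ⊤ ⟨y, Submodule.mem_top, hy⟩ A hA hc hx
  exact h.mem_line_of_perp_perp hu0 hu (by rw [h.symm]; exact h1)
    fun y hy => h2 ⟨y, (mem_perp B).mpr hy⟩ Submodule.mem_top

/-- A `p`-group stabilising an image of the line fixes it pointwise up to index `p`. -/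
theorem kernel_big {u : V} (hu0 : u ≠ 0) (hu : B u u = 0) (hM : OnlyMul B G u) {g₀ : AutV F V}
    (hg₀ : g₀ ∈ G) (P : Subgroup (AutV F V)) (hP : P ≤ G) (hpP : IsPGroup p P)
    (hstab : ∀ t ∈ P, ∀ k : K, (g₀⁻¹ * t * g₀) (k • u) ∈ K ∙ u) :
    ∃ P₁ ≤ P, Nat.card P ≤ p * Nat.card P₁ ∧ ∀ t ∈ P₁, ∀ k : K, t (g₀ (k • u)) = g₀ (k • u) := by
  classical
  have : Finite K := Module.finite_of_finite F
  have : Finite V := Module.finite_of_finite F
  have : Finite (AutV F V) := Finite.of_injective (fun e : AutV F V => (e : V → V)) DFunLike.coe_injective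
  have hKp : CharP K p := charP_of_injective_algebraMap (algebraMap F K).injective p
  have hdata : ∀ t : P, ∃ (τ : K ≃ₐ[F] K) (c : K), c ≠ 0 ∧
      ∀ k, (g₀⁻¹ * (t : AutV F V) * g₀) (k • u) = (c * τ k) • u := fun t =>
    h.semi_on_line hu0 hu hM (G.mul_mem (G.mul_mem (G.inv_mem hg₀) (hP t.2)) hg₀) (hstab t t.2)
  choose τ c hc hτ using hdata
  have huniq : ∀ (t : P) (σ : K ≃ₐ[F] K) (d : K),
      (∀ k, (g₀⁻¹ * (t : AutV F V) * g₀) (k • u) = (d * σ k) • u) → τ t = σ ∧ c t = d := by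
    intro t σ d hd
    have e : ∀ k, c t * τ t k = d * σ k := fun k => smul_left_injective K hu0 ((hτ t k).symm.trans (hd k))
    have e1 : c t = d := by simpa using e 1
    exact ⟨AlgEquiv.ext fun k => mul_left_cancel₀ (hc t) (e1 ▸ e k), e1⟩
  have hmul : ∀ s t : P, τ (s * t) = τ s * τ t ∧ c (s * t) = c s * τ s (c t) := fun s t => by
    refine huniq _ _ _ fun k => ?_
    rw [show g₀⁻¹ * ((s * t : P) : AutV F V) * g₀ = (g₀⁻¹ * (s : AutV F V) * g₀) * (g₀⁻¹ * (t : AutV F V) * g₀) by
      rw [Subgroup.coe_mul]; group, LinearEquiv.mul_apply, hτ, hτ, map_mul, AlgEquiv.mul_apply, mul_assoc]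
  let θ : ↥P →* (K ≃ₐ[F] K) := MonoidHom.mk' τ fun s t => (hmul s t).1
  refine ⟨θ.ker.map P.subtype, Subgroup.map_subtype_le _, ?_, ?_⟩
  · rw [Subgroup.card_map_of_injective P.subtype_injective]
    exact card_le_mul_card_ker Fact.out h.prime hpP (IsGalois.card_aut_eq_finrank F K) θ
  rintro _ ⟨t, ht, rfl⟩ k
  have htau : τ t = 1 := ht
  have hpow : ∀ n : ℕ, τ (t ^ n) = 1 ∧ c (t ^ n) = c t ^ n := by
    intro n
    induction n with
    | zero =>
      rw [pow_zero, pow_zero]
      exact huniq 1 1 1 fun k => by simp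
    | succ n ih =>
      rw [pow_succ, pow_succ]
      obtain ⟨e1, e2⟩ := hmul (t ^ n) t
      exact ⟨by rw [e1, ih.1, htau, one_mul], by rw [e2, ih.1, ih.2, AlgEquiv.one_apply]⟩
  obtain ⟨N, hN⟩ := hpP t
  have h1 : c t ^ p ^ N = 1 := by
    rw [← (hpow _).2, hN]
    exact (huniq 1 1 1 fun k => by simp).2
  have hct : c t = 1 := by
    haveI : ExpChar K p := ExpChar.prime Fact.out
    have h0 : (c t - 1) ^ p ^ N = 0 := by rw [sub_pow_expChar_pow, h1, one_pow, sub_self]
    exact sub_eq_zero.mp (pow_eq_zero_iff (Nat.pos_iff_ne_zero.mp (pow_pos (Fact.out : p.Prime).pos N)) |>.mp h0)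
  have := hτ t k
  rw [htau, hct, AlgEquiv.one_apply, one_mul] at this
  show (t : AutV F V) (g₀ (k • u)) = _
  have e := congrArg g₀ this
  simpa using e

/-- A `p`-subgroup of `G` containing the root group stabilises the line. -/
theorem pfix {u : V} (hu0 : u ≠ 0) (hu : B u u = 0) (hM : OnlyMul B G u) (P : Subgroup (AutV F V))
    (hP : P ≤ G) (hpP : IsPGroup p P) (h0 : h.rootGroup hu ≤ P) :
    ∀ t ∈ P, ∀ k : K, t (k • u) ∈ K ∙ u := by
  classical
  have : Finite V := Module.finite_of_finite F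
  have : Finite (AutV F V) := Finite.of_injective (fun e : AutV F V => (e : V → V)) DFunLike.coe_injective
  let LS : Subgroup (AutV F V) :=
    { carrier := {g | ∀ x, g x ∈ K ∙ u ↔ x ∈ K ∙ u}
      one_mem' := fun x => Iff.rfl
      mul_mem' := fun {a b} ha hb x => (ha (b x)).trans (hb x)
      inv_mem' := fun {a} ha x => by
        have := ha (a.symm x)
        rw [a.apply_symm_apply] at this
        exact this.symm }
  have hmem : ∀ k : K, k • u ∈ K ∙ u := fun k =>
    Submodule.smul_mem _ k (Submodule.mem_span_singleton_self u)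
  suffices hT : LS.subgroupOf P = ⊤ by
    intro t ht k
    have h1 : (⟨t, ht⟩ : P) ∈ LS.subgroupOf P := hT ▸ Subgroup.mem_top _
    exact ((Subgroup.mem_subgroupOf.mp h1) _).mpr (hmem k)
  by_contra hne
  haveI : Group.IsNilpotent ↥P := hpP.isNilpotent
  obtain ⟨w, hw, hw1⟩ := SetLike.exists_of_lt
    (Group.normalizerCondition_of_isNilpotent _ (lt_top_iff_ne_top.mpr hne))
  have hQ : h.rootGroup hu ≤ P ⊓ LS := by
    refine le_inf h0 fun t ht x => ⟨fun hx => ?_, fun hx => ?_⟩
    · obtain ⟨k, hk⟩ := Submodule.mem_span_singleton.mp hx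
      have e := h.rootGroup_fix hu ((h.rootGroup hu).inv_mem ht) k
      rw [hk, show (t⁻¹ : AutV F V) (t x) = x from t.symm_apply_apply x] at e
      exact e ▸ hx
    · obtain ⟨k, rfl⟩ := Submodule.mem_span_singleton.mp hx
      rw [h.rootGroup_fix hu ht k]; exact hx
  have key : ∀ w : P, w ∈ Subgroup.normalizer (LS.subgroupOf P : Set P) → ∀ k : K,
      (w : AutV F V) (k • u) ∈ K ∙ u := by
    intro w hw k
    obtain ⟨T₁, hT₁, hc, hfix⟩ := h.kernel_big p hu0 hu hM (g₀ := (w : AutV F V)) (hP w.2) (P ⊓ LS)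
      (inf_le_left.trans hP) (hpP.to_le inf_le_left) fun t ht k => by
        have h2 : (w⁻¹ * ⟨t, ht.1⟩ * w : P) ∈ LS.subgroupOf P :=
          (Subgroup.mem_normalizer_iff''.mp hw _).mp (show (⟨t, ht.1⟩ : P) ∈ LS.subgroupOf P from ht.2)
        exact ((Subgroup.mem_subgroupOf.mp h2) _).mpr (hmem k)
    exact h.fix_rootGroup p hu0 hu (T₁ ⊓ h.rootGroup hu) inf_le_right
      (card_le_mul_card_inf hQ hT₁ hc) fun t ht => hfix t ht.1 k
  refine hw1 (Subgroup.mem_subgroupOf.mpr fun x => ⟨fun hx => ?_, fun hx => ?_⟩)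
  · obtain ⟨k, hk⟩ := Submodule.mem_span_singleton.mp hx
    have := key w⁻¹ (Subgroup.inv_mem _ hw) k
    rw [hk] at this
    simpa using this
  · obtain ⟨k, rfl⟩ := Submodule.mem_span_singleton.mp hx
    exact key w hw k

/-- Inside a subgroup `R` containing the conjugate by `g` of the root group, a member of `R` moves the
image of the line into the fixed space of a big part of a given `p`-subgroup of `R`. -/
theorem exists_move {u : V} (hu0 : u ≠ 0) (hu : B u u = 0) (hM : OnlyMul B G u) {g : AutV F V}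
    (hg : g ∈ G) (R : Subgroup (AutV F V)) (hR : R ≤ G)
    (hgR : ∀ t ∈ h.rootGroup hu, g * t * g⁻¹ ∈ R)
    (T : Subgroup (AutV F V)) (hT : T ≤ R) (hpT : IsPGroup p T) :
    ∃ ρ ∈ R, ∃ T₁ ≤ T, Nat.card T ≤ p * Nat.card T₁ ∧
      ∀ t ∈ T₁, ∀ k : K, t (ρ (g (k • u))) = ρ (g (k • u)) := by
  classical
  have : Finite V := Module.finite_of_finite F
  have : Finite (AutV F V) := Finite.of_injective (fun e : AutV F V => (e : V → V)) DFunLike.coe_injective
  have hT₀ : IsPGroup p (T.subgroupOf R) := hpT.comap_subtype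
  set Qg := (h.rootGroup hu).map (MulAut.conj g).toMonoidHom
  have hQR : Qg ≤ R := by rintro _ ⟨t, ht, rfl⟩; simpa using hgR t ht
  have hQ₀ : IsPGroup p (Qg.subgroupOf R) := ((h.rootSub_isPGroup p hu ⊤).map _).comap_subtype
  obtain ⟨S, hS⟩ := hQ₀.exists_le_sylow
  obtain ⟨S', hS'⟩ := hT₀.exists_le_sylow
  obtain ⟨ρ, hρ⟩ := MulAction.exists_smul_eq ↥R S S'
  set g₁ := (ρ : AutV F V) * g with hg₁
  have hg₁G : g₁ ∈ G := G.mul_mem (hR ρ.2) hg
  set P := ((S' : Subgroup ↥R).map R.subtype) with hPdef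
  have hPG : P ≤ G := (Subgroup.map_subtype_le _).trans hR
  have hpP : IsPGroup p P := S'.isPGroup'.map _
  set P₀ := P.map (MulAut.conj g₁⁻¹).toMonoidHom
  have hP₀G : P₀ ≤ G := by
    rintro _ ⟨t, ht, rfl⟩
    simpa using G.mul_mem (G.mul_mem (G.inv_mem hg₁G) (hPG ht)) hg₁G
  have hle : h.rootGroup hu ≤ P₀ := by
    intro t ht
    refine ⟨g₁ * t * g₁⁻¹, ?_, by simp [mul_assoc]⟩
    have h1 : (⟨g * t * g⁻¹, hgR t ht⟩ : ↥R) ∈ (S : Subgroup ↥R) :=
      hS (Subgroup.mem_subgroupOf.mpr ⟨t, ht, by simp⟩)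
    refine ⟨ρ * ⟨_, hgR t ht⟩ * ρ⁻¹, ?_, by simp [hg₁, mul_assoc]⟩
    rw [← hρ, Sylow.coe_subgroup_smul, SetLike.mem_coe, Subgroup.mem_pointwise_smul_iff_inv_smul_mem]
    simpa [MulAut.smul_def, mul_assoc] using h1
  have hstab := h.pfix p hu0 hu hM P₀ hP₀G (hpP.map _) hle
  obtain ⟨P₁, hP₁, hc, hfix⟩ := h.kernel_big p hu0 hu hM hg₁G P hPG hpP fun t ht k => by
    have := hstab _ (Subgroup.mem_map_of_mem _ ht) k
    simpa using this
  have hTP : T ≤ P := fun t ht => ⟨⟨t, hT ht⟩, hS' (Subgroup.mem_subgroupOf.mpr ht), rfl⟩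
  exact ⟨ρ, ρ.2, P₁ ⊓ T, inf_le_right, card_le_mul_card_inf hTP hP₁ hc, fun t ht k => hfix t ht.1 k⟩

end Prime

/-- A member of `G` stabilising a set of vectors of an image of the line acts semilinearly on it. -/
theorem semi_of_stab {u : V} (hu0 : u ≠ 0) (hu : B u u = 0) (hM : OnlyMul B G u) {g y : AutV F V}
    (hg : g ∈ G) (hy : y ∈ G) (k₁ k₂ : K)
    (h1 : y (g (k₁ • u)) ∈ Submodule.span F {g (k₁ • u), g (k₂ • u)})
    (h2 : y (g (k₂ • u)) ∈ Submodule.span F {g (k₁ • u), g (k₂ • u)}) :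
    ∃ (τ : K ≃ₐ[F] K) (c : K), c ≠ 0 ∧
      y (g (k₁ • u)) = g ((c * τ k₁) • u) ∧ y (g (k₂ • u)) = g ((c * τ k₂) • u) := by
  classical
  have : Finite V := Module.finite_of_finite F
  obtain ⟨p, hp⟩ := CharP.exists F
  haveI := Fact.mk (CharP.char_is_prime F p)
  set y' := g⁻¹ * y * g with hy'
  have hy'G : y' ∈ G := G.mul_mem (G.mul_mem (G.inv_mem hg) hy) hg
  set S := Submodule.span F ({k₁ • u, k₂ • u} : Set V) with hS
  have hgS : Submodule.span F {g (k₁ • u), g (k₂ • u)} = S.map g.toLinearMap := by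
    rw [hS, Submodule.map_span, Set.image_pair]; rfl
  have hyS : ∀ x ∈ S, y' x ∈ S := by
    have hle : S ≤ S.comap y'.toLinearMap := by
      rw [hS]
      refine Submodule.span_le.mpr ?_
      rintro x (rfl | rfl)
      all_goals
        first
          | (obtain ⟨z, hz, hze⟩ := (hgS ▸ h1 : y (g (k₁ • u)) ∈ S.map g.toLinearMap)
             show g.symm (y (g (k₁ • u))) ∈ S
             rw [← hze]; simpa using hz)
          | (obtain ⟨z, hz, hze⟩ := (hgS ▸ h2 : y (g (k₂ • u)) ∈ S.map g.toLinearMap)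
             show g.symm (y (g (k₂ • u))) ∈ S
             rw [← hze]; simpa using hz)
    exact fun x hx => hle hx
  let R : Subgroup (AutV F V) :=
    { carrier := {t | t ∈ G ∧ ∀ x ∈ S, t x = x}
      one_mem' := ⟨G.one_mem, fun x _ => rfl⟩
      mul_mem' := fun {a b} ha hb => ⟨G.mul_mem ha.1 hb.1,
        fun x hx => by rw [LinearEquiv.mul_apply, hb.2 x hx, ha.2 x hx]⟩
      inv_mem' := fun {a} ha => ⟨G.inv_mem ha.1, fun x hx => a.symm_apply_eq.mpr (ha.2 x hx).symm⟩ }
  have hQfix : ∀ t ∈ h.rootGroup hu, ∀ x ∈ S, t x = x := by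
    intro t ht x hx
    refine Submodule.span_induction (p := fun x _ => t x = x) ?_ (map_zero t)
      (fun a b _ _ ha hb => by rw [map_add, ha, hb]) (fun c a _ ha => by rw [map_smul, ha]) hx
    rintro x (rfl | rfl) <;> exact h.rootGroup_fix hu ht _
  have hQR : h.rootGroup hu ≤ R := fun t ht => ⟨h.rootSub_le hu ⊤ ht, hQfix t ht⟩
  have hcR : ∀ t ∈ h.rootGroup hu, y' * t * y'⁻¹ ∈ R := fun t ht => by
    refine ⟨G.mul_mem (G.mul_mem hy'G (h.rootSub_le hu ⊤ ht)) (G.inv_mem hy'G), fun x hx => ?_⟩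
    have hsur : ∃ z ∈ S, y' z = x := by
      obtain ⟨z, hz⟩ := (Finite.injective_iff_surjective (f := fun z : S => (⟨y' z, hyS _ z.2⟩ : S))).mp
        (fun a b e => Subtype.ext (y'.injective (congrArg Subtype.val e))) ⟨x, hx⟩
      exact ⟨z, z.2, congrArg Subtype.val hz⟩
    obtain ⟨z, hz, rfl⟩ := hsur
    show y' (t (y'.symm (y' z))) = y' z
    rw [y'.symm_apply_apply, hQfix t ht z hz]
  obtain ⟨ρ, hρ, T₁, hT₁, hc, hfix⟩ := h.exists_move p hu0 hu hM hy'G R (fun t ht => ht.1) hcR
    (h.rootGroup hu) hQR (h.rootSub_isPGroup p hu ⊤)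
  obtain ⟨τ, c, hc0, hτ⟩ := h.semi_on_line hu0 hu hM (G.mul_mem hρ.1 hy'G)
    fun k => h.fix_rootGroup p hu0 hu T₁ hT₁ hc fun t ht => hfix t ht k
  have hmem₁ : k₁ • u ∈ S := Submodule.subset_span (by simp)
  have hmem₂ : k₂ • u ∈ S := Submodule.subset_span (by simp)
  refine ⟨τ, c, hc0, ?_, ?_⟩
  · rw [← hτ, LinearEquiv.mul_apply, hρ.2 _ (hyS _ hmem₁)]
    show _ = g (g.symm (y (g (k₁ • u))))
    rw [g.apply_symm_apply]
  · rw [← hτ, LinearEquiv.mul_apply, hρ.2 _ (hyS _ hmem₂)]
    show _ = g (g.symm (y (g (k₂ • u))))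
    rw [g.apply_symm_apply]

end Hyp

end CfsgLib.ExtFieldOrth
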