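import Mathlib
import Cfsg.Agent.Lib.ExtFieldOrth.Pfix

/-!
Members of `G` map singular lines to singular lines in dimension at least four, and maps with this
property are semilinear.
-/

set_option autoImplicit false
set_option linter.unusedSectionVars false
set_option linter.style.haveILetI false
set_option linter.unusedVariables false
set_option linter.unusedSimpArgs false

namespace CfsgLib.ExtFieldOrth

open Module

variable {F K V : Type*} [Field F] [Field K] [Algebra F K] [AddCommGroup V] [Module F V]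
  [Module K V] [IsScalarTower F K V]
variable {B : V →ₗ[K] V →ₗ[K] K} {G : Subgroup (AutV F V)}

/-- A proper subspace of `K` containing every `c` some automorphism sends to `c + 1`. -/
lemma exists_bad [Fintype F] [FiniteDimensional F K] (hr : (finrank F K).Prime) (h2 : (2 : K) ≠ 0) :
    ∃ E : Submodule F K, E ≠ ⊤ ∧ (1 : K) ∈ E ∧ ∀ (τ : K ≃ₐ[F] K) (c : K), τ c = c + 1 → c ∈ E := by
  classical
  haveI := Fact.mk hr
  haveI : Finite K := Module.finite_of_finite F
  by_cases hbad : ∀ (τ : K ≃ₐ[F] K) (c : K), τ c ≠ c + 1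
  · refine ⟨F ∙ (1 : K), fun e => ?_, Submodule.mem_span_singleton_self 1, fun τ c h => absurd h (hbad τ c)⟩
    have h1 := finrank_span_singleton (K := F) (v := (1 : K)) one_ne_zero
    rw [e, finrank_top] at h1
    exact hr.one_lt.ne' h1
  simp only [not_forall, not_not] at hbad
  obtain ⟨τ₀, c₀, h0⟩ := hbad
  have hpow : ∀ n : ℕ, (τ₀ ^ n) c₀ = c₀ + n := by
    intro n
    induction n with
    | zero => simp
    | succ n ih => rw [pow_succ', AlgEquiv.mul_apply, ih, map_add, map_natCast, h0]; push_cast; ring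
  have hτ₀ : τ₀ ≠ 1 := fun e => by rw [e, AlgEquiv.one_apply, left_eq_add] at h0; exact one_ne_zero h0
  have hr3 : 3 ≤ finrank F K := by
    have hne : finrank F K ≠ 2 := fun e => by
      have h3 := hpow (finrank F K)
      rw [← IsGalois.card_aut_eq_finrank F K, pow_card_eq_one', AlgEquiv.one_apply, left_eq_add,
        IsGalois.card_aut_eq_finrank F K, e] at h3
      exact h2 (by exact_mod_cast h3)
    have := hr.two_le
    omega
  refine ⟨Submodule.span F {1, c₀}, fun e => ?_, Submodule.subset_span (by simp), fun τ c hc => ?_⟩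
  · have h1 : finrank F (Submodule.span F ((({1, c₀} : Finset K)) : Set K)) ≤ 2 :=
      (finrank_span_finset_le_card ({1, c₀} : Finset K)).trans Finset.card_le_two
    rw [Finset.coe_pair, e, finrank_top] at h1
    omega
  obtain ⟨n, rfl⟩ := mem_powers_iff_mem_zpowers.mpr
    (mem_zpowers_of_prime_card (g := τ₀) (g' := τ) (p := finrank F K) (IsGalois.card_aut_eq_finrank F K) hτ₀)
  have hn0 : (n : K) ≠ 0 := fun e => by
    have h3 := hpow n
    rw [e, add_zero] at h3
    by_cases hd : finrank F K ∣ n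
    · obtain ⟨m, rfl⟩ := hd
      simp only at hc
      rw [pow_mul, ← IsGalois.card_aut_eq_finrank F K, pow_card_eq_one', one_pow, AlgEquiv.one_apply,
        left_eq_add] at hc
      exact one_ne_zero hc
    · obtain ⟨m, hm⟩ := Nat.exists_mul_mod_eq_one_of_coprime (hr.coprime_iff_not_dvd.mpr hd).symm hr.one_lt
      have h4 : ∀ i : ℕ, (τ₀ ^ (n * i)) c₀ = c₀ := fun i => by
        induction i with
        | zero => simp
        | succ i ih => rw [Nat.mul_succ, pow_add, AlgEquiv.mul_apply, h3, ih]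
      have h5 := h4 m
      rw [← Nat.div_add_mod (n * m) (finrank F K), pow_add, pow_mul, ← IsGalois.card_aut_eq_finrank F K,
        pow_card_eq_one', one_pow, one_mul, IsGalois.card_aut_eq_finrank F K, hm.2, pow_one, h0, add_eq_left] at h5
      exact one_ne_zero h5
  have hfix : (τ₀ ^ n) (c - c₀ / n) = c - c₀ / n := by
    rw [map_sub, map_div₀, map_natCast, hc, hpow]
    field_simp
    ring
  have hE : c - c₀ / n ∈ AlgHom.equalizer (τ₀ ^ n).toAlgHom (AlgHom.id F K) := hfix
  rcases (Subalgebra.isSimpleOrder_of_finrank_prime F K hr).eq_bot_or_eq_top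
      (AlgHom.equalizer (τ₀ ^ n).toAlgHom (AlgHom.id F K)) with he | he
  · rw [he] at hE
    obtain ⟨x, hx⟩ := Algebra.mem_bot.mp hE
    rw [eq_sub_iff_add_eq] at hx
    rw [← hx]
    refine Submodule.add_mem _ ?_ ?_
    · rw [Algebra.algebraMap_eq_smul_one]
      exact Submodule.smul_mem _ _ (Submodule.subset_span (by simp))
    · rw [show c₀ / (n : K) = ((n : F)⁻¹ : F) • c₀ by
        rw [Algebra.smul_def, map_inv₀, map_natCast]; ring]
      exact Submodule.smul_mem _ _ (Submodule.subset_span (by simp))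
  · have h5 : c₀ ∈ AlgHom.equalizer (τ₀ ^ n).toAlgHom (AlgHom.id F K) := by rw [he]; exact Algebra.mem_top
    have h6 : (τ₀ ^ n) c₀ = c₀ := h5
    rw [hpow, add_eq_left] at h6
    exact absurd h6 hn0

namespace Hyp

variable [Fintype F] [FiniteDimensional F K] [Algebra.IsSeparable F K] [FiniteDimensional F V]
variable (h : Hyp B G)
include h

/-- An image of a line inside the orthogonal space of one of its singular vectors is inside its `K`-line. -/
theorem core {u : V} (hu0 : u ≠ 0) (hu : B u u = 0) (hM : OnlyMul B G u) {g : AutV F V} (hg : g ∈ G)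
    {k₁ : K} (hk₁ : k₁ ≠ 0) (ha : B (g (k₁ • u)) (g (k₁ • u)) = 0)
    (hperp : ∀ k : K, B (g (k₁ • u)) (g (k • u)) = 0) :
    ∀ k : K, g (k • u) ∈ K ∙ g (k₁ • u) := by
  by_contra hc
  obtain ⟨E, hE, hE1, hbad⟩ := exists_bad (F := F) h.prime h.two_ne
  set a := g (k₁ • u) with haDef
  have ha0 : a ≠ 0 := fun e => smul_ne_zero hk₁ hu0 (g.map_eq_zero_iff.mp e)
  let L : K →ₗ[F] V := g.toLinearMap ∘ₗ (LinearMap.toSpanSingleton K V u).restrictScalars F
  set W₁ : Submodule F K := E.map (LinearMap.mulLeft F k₁)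
  set W₂ : Submodule F K := ((K ∙ a).restrictScalars F).comap L
  have hW₁ : W₁ ≠ ⊤ := fun e => hE (by
    rw [eq_top_iff]; intro x _
    obtain ⟨y, hy, hyx⟩ := (e ▸ Submodule.mem_top : k₁ * x ∈ W₁)
    exact mul_left_cancel₀ hk₁ hyx ▸ hy)
  have hW₂ : W₂ ≠ ⊤ := fun e => hc fun k => (e ▸ Submodule.mem_top : k ∈ W₂)
  obtain ⟨k₂, hk₂, hk₂'⟩ : ∃ k₂, k₂ ∉ W₁ ∧ k₂ ∉ W₂ := by
    obtain ⟨x, hx⟩ : ∃ x, x ∉ W₁ := by
      by_contra hh; simp only [not_exists, not_not] at hh; exact hW₁ (Submodule.eq_top_iff'.mpr hh)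
    obtain ⟨y, hy⟩ : ∃ y, y ∉ W₂ := by
      by_contra hh; simp only [not_exists, not_not] at hh; exact hW₂ (Submodule.eq_top_iff'.mpr hh)
    by_contra hh
    simp only [not_exists, not_and, not_not] at hh
    have hx2 := hh x hx
    have hy1 : y ∈ W₁ := by by_contra h1; exact hy (hh y h1)
    rcases Classical.em (x + y ∈ W₁) with h1 | h1
    · exact hx (by simpa using W₁.sub_mem h1 hy1)
    · exact hy (by simpa using W₂.sub_mem (hh _ h1) hx2)
  set b := g (k₂ • u) with hbDef
  obtain ⟨w, hw, hbw⟩ : ∃ w, B a w = 0 ∧ B b w = 1 := by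
    obtain ⟨y, hy, hby⟩ : ∃ y, B a y = 0 ∧ B b y ≠ 0 := by
      by_contra hh
      exact hk₂' (h.mem_line_of_perp_perp ha0 ha (hperp k₂) fun y hy => by
        by_contra h1; exact hh ⟨y, hy, h1⟩)
    exact ⟨(B b y)⁻¹ • y, by simp [hy], by simp [hby]⟩
  have hta : res F (sieg B h.symm h.two_ne ha hw) a = a := by simp [siegMap_apply, ha, hw]
  have htb : res F (sieg B h.symm h.two_ne ha hw) b = b + a := by
    simp [siegMap_apply, hbw, show B b a = 0 from (h.symm _ _).trans (hperp k₂)]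
  obtain ⟨τ, c, hc0, h1, h2⟩ := h.semi_of_stab hu0 hu hM hg (h.sieg_mem ha hw) k₁ k₂
    (by rw [hta]; exact Submodule.subset_span (by simp [haDef]))
    (by rw [htb]; exact Submodule.add_mem _ (Submodule.subset_span (by simp [hbDef]))
          (Submodule.subset_span (by simp [haDef])))
  rw [hta, haDef] at h1
  rw [htb, hbDef, haDef, ← map_add g, ← add_smul] at h2
  have e1 : k₁ = c * τ k₁ := smul_left_injective K hu0 (g.injective h1)
  have e2 : k₂ + k₁ = c * τ k₂ := smul_left_injective K hu0 (g.injective h2)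
  refine hk₂ ⟨k₂ / k₁, hbad τ _ ?_, by simp [mul_div_cancel₀ _ hk₁]⟩
  rw [map_div₀]
  have hτ1 : τ k₁ ≠ 0 := by simpa using hk₁
  field_simp
  apply mul_left_cancel₀ hc0
  linear_combination (-k₁) * e2 + (k₂ + k₁) * e1

lemma exists_singular_perp {a : V} (ha : B a a ≠ 0) (h4 : 4 ≤ finrank K V) :
    ∃ z, z ≠ 0 ∧ B z z = 0 ∧ B a z = 0 := by
  have : FiniteDimensional K V := Module.Finite.of_restrictScalars_finite F K V
  have : Finite K := Module.finite_of_finite F
  by_contra hc
  have hns : ∀ x, x ≠ 0 → B a x = 0 → B x x ≠ 0 := fun x h1 h2 h3 => hc ⟨x, h1, h3, h2⟩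
  have hex : ∀ l : Fin 3 → V, ∃ x, x ≠ 0 ∧ ∀ i, B (l i) x = 0 := fun l => by
    obtain ⟨x, hx, hx0⟩ := Submodule.exists_mem_ne_zero_of_ne_bot
      (LinearMap.ker_ne_bot_of_finrank_lt (f := LinearMap.pi fun i => B (l i))
        (show finrank K (Fin 3 → K) < finrank K V by simp; omega))
    exact ⟨x, hx0, fun i => congrFun (LinearMap.mem_ker.mp hx) i⟩
  obtain ⟨e₁, he10, he1⟩ := hex ![a, a, a]
  obtain ⟨e₂, he20, he2⟩ := hex ![a, e₁, a]
  obtain ⟨e₃, he30, he3⟩ := hex ![a, e₁, e₂]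
  have a1 : B a e₁ = 0 := he1 0
  have a2 : B a e₂ = 0 := he2 0
  have a3 : B a e₃ = 0 := he3 0
  have e12 : B e₁ e₂ = 0 := he2 1
  have e13 : B e₁ e₃ = 0 := he3 1
  have e23 : B e₂ e₃ = 0 := he3 2
  obtain ⟨x, y, hxy⟩ : ∃ x y : K, B e₁ e₁ * x ^ 2 + (B e₂ e₂ * y ^ 2 + B e₃ e₃) = 0 := by
    classical
    haveI := Fintype.ofFinite K
    have hodd : Fintype.card K % 2 = 1 :=
      FiniteField.odd_card_of_char_ne_two fun e => h.two_ne (by
        haveI := ringChar.charP K
        haveI : CharP K 2 := e ▸ inferInstance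
        exact_mod_cast CharP.cast_eq_zero K 2)
    obtain ⟨x, y, hxy⟩ := FiniteField.exists_root_sum_quadratic
      (f := Polynomial.C (B e₁ e₁) * Polynomial.X ^ 2)
      (g := Polynomial.C (B e₂ e₂) * Polynomial.X ^ 2 + Polynomial.C (B e₃ e₃))
      (Polynomial.degree_C_mul_X_pow 2 (hns _ he10 a1))
      (by rw [Polynomial.degree_add_C (by rw [Polynomial.degree_C_mul_X_pow 2 (hns _ he20 a2)]; decide)]
          exact Polynomial.degree_C_mul_X_pow 2 (hns _ he20 a2)) hodd
    exact ⟨x, y, by simpa [Polynomial.eval_add] using hxy⟩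
  refine hc ⟨x • e₁ + y • e₂ + e₃, fun e => ?_, ?_, by simp [a1, a2, a3]⟩
  · have := congrArg (B e₃) e
    simp [h.symm e₃ e₁, h.symm e₃ e₂, e13, e23, hns _ he30 a3] at this
  · simp [h.symm e₂ e₁, h.symm e₃ e₁, h.symm e₃ e₂, e12, e13, e23]
    linear_combination hxy

/-- In dimension at least four, members of `G` map a singular line into a singular line. -/
theorem line_of_four (h4 : 4 ≤ finrank K V) {u : V} (hu0 : u ≠ 0) (hu : B u u = 0) (hM : OnlyMul B G u)
    {g : AutV F V} (hg : g ∈ G) :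
    B (g u) (g u) = 0 ∧ ∀ k : K, g (k • u) ∈ K ∙ g u := by
  classical
  have : FiniteDimensional K V := Module.Finite.of_restrictScalars_finite F K V
  obtain ⟨p, hp⟩ := CharP.exists F
  haveI := Fact.mk (CharP.char_is_prime F p)
  by_cases hall : ∀ k : K, B (g (k • u)) (g (k • u)) = 0
  · refine ⟨by simpa using hall 1, ?_⟩
    have := h.core hu0 hu hM hg (k₁ := 1) one_ne_zero (hall 1) fun k => by
      have h1 := hall (1 + k)
      rw [add_smul, map_add g] at h1
      simp only [map_add, LinearMap.add_apply, hall, h.symm (g (k • u)) (g ((1 : K) • u))] at h1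
      refine (mul_eq_zero.mp (show (2 : K) * _ = 0 from ?_)).resolve_left h.two_ne
      linear_combination h1
    simpa using this
  simp only [not_forall] at hall
  obtain ⟨k₀, hk₀⟩ := hall
  exfalso
  set a := g (k₀ • u)
  obtain ⟨z, hz0, hz, haz⟩ := h.exists_singular_perp hk₀ h4
  have hza : B z a = 0 := by rw [h.symm, haz]
  let Y : Submodule K ↥(perp B z) := (LinearMap.ker (B a)).comap (perp B z).subtype
  have hY : ∃ y ∈ Y, (y : V) ∉ K ∙ z := by
    by_contra hh
    simp only [not_exists, not_and, not_not] at hh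
    have hle : LinearMap.ker ((B z).prod (B a)) ≤ K ∙ z := fun x hx => by
      simp only [LinearMap.mem_ker, LinearMap.prod_apply, Function.prod, Prod.mk_eq_zero] at hx
      exact hh ⟨x, (mem_perp B).mpr hx.1⟩ (LinearMap.mem_ker.mpr hx.2)
    have h1 := Submodule.finrank_mono hle
    rw [finrank_span_singleton hz0] at h1
    have h3 := LinearMap.finrank_range_add_finrank_ker ((B z).prod (B a))
    have h5 := Submodule.finrank_le (LinearMap.range ((B z).prod (B a)))
    rw [Module.finrank_prod, Module.finrank_self] at h5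
    omega
  let R : Subgroup (AutV F V) :=
    { carrier := {t | t ∈ G ∧ t a = a}
      one_mem' := ⟨G.one_mem, rfl⟩
      mul_mem' := fun {x y} hx hy => ⟨G.mul_mem hx.1 hy.1, by rw [LinearEquiv.mul_apply, hy.2, hx.2]⟩
      inv_mem' := fun {x} hx => ⟨G.inv_mem hx.1, x.symm_apply_eq.mpr hx.2.symm⟩ }
  have hTR : h.rootSub hz Y ≤ R := fun t ht => ⟨h.rootSub_le hz Y ht, by
    obtain ⟨y, hy, rfl⟩ := ht
    show siegMap B z _ a = a
    have hy' : B a ((Multiplicative.toAdd y : perp B z) : V) = 0 := hy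
    simp [siegMap_apply, hy', haz]⟩
  obtain ⟨ρ, hρ, T₁, hT₁, hc, hfix⟩ := h.exists_move p hu0 hu hM hg R (fun t ht => ht.1)
    (fun t ht => ⟨G.mul_mem (G.mul_mem hg (h.rootSub_le hu ⊤ ht)) (G.inv_mem hg), by
      show g (t (g.symm (g (k₀ • u)))) = _
      rw [g.symm_apply_apply, h.rootGroup_fix hu ht]⟩)
    (h.rootSub hz Y) hTR (h.rootSub_isPGroup p hz Y)
  set g' := ρ * g
  have hg' : g' ∈ G := G.mul_mem hρ.1 hg
  have hspan : ∀ k, g' (k • u) - (B (g' (k • u)) a / B a a) • a ∈ K ∙ z := fun k => by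
    obtain ⟨h1, h2⟩ := h.fix_big p hz0 hz Y hY T₁ hT₁ hc (x := g' (k • u)) fun t ht => hfix t ht k
    set x := g' (k • u)
    refine h.mem_line_of_perp_perp hz0 hz (by simp [hza, h.symm z x, h1]) fun y hy => ?_
    have h3 := h2 ⟨y - (B a y / B a a) • a, by simp [hy, hza]⟩
      (show B a (y - (B a y / B a a) • a) = 0 by simp [div_mul_cancel₀ _ hk₀])
    simp only [map_sub, map_smul, smul_eq_mul, LinearMap.sub_apply, LinearMap.smul_apply] at h3 ⊢
    linear_combination h3
  let c : K →ₗ[F] K :=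
    ((B.flip a).restrictScalars F) ∘ₗ g'.toLinearMap ∘ₗ (LinearMap.toSpanSingleton K V u).restrictScalars F
  have hcdef : ∀ k, c k = B (g' (k • u)) a := fun k => rfl
  obtain ⟨k₁, hk₁, hck⟩ : ∃ k₁ : K, k₁ ≠ 0 ∧ c k₁ = 0 := by
    by_contra hh
    have hinj : Function.Injective c := (injective_iff_map_eq_zero c).mpr fun x hx => by
      by_contra hx0; exact hh ⟨x, hx0, hx⟩
    have hsur := LinearMap.injective_iff_surjective.mp hinj
    refine hk₀ ?_
    refine (traceForm_nondegenerate F K).1 _ fun l => ?_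
    obtain ⟨x, hx⟩ := hsur (B a a)
    obtain ⟨y, hy⟩ := hsur (l * B a a)
    have e0 := h.isom g' hg' (x • u) (y • u)
    obtain ⟨mx, hmx⟩ := Submodule.mem_span_singleton.mp (hspan x)
    obtain ⟨my, hmy⟩ := Submodule.mem_span_singleton.mp (hspan y)
    rw [eq_comm, sub_eq_iff_eq_add] at hmx hmy
    rw [← hcdef, hx, div_self hk₀] at hmx
    rw [← hcdef, hy, mul_div_assoc, div_self hk₀, mul_one] at hmy
    rw [hmx, hmy] at e0
    simp only [map_add, map_smul, LinearMap.add_apply, LinearMap.smul_apply, smul_eq_mul, hz, haz, hza, hu,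
      mul_zero, zero_mul, add_zero, zero_add, mul_one, one_mul, map_zero] at e0
    rw [Algebra.traceForm_apply, mul_comm]
    exact e0
  have hb : g' (k₁ • u) ∈ K ∙ z := by
    have := hspan k₁
    rw [← hcdef, hck, zero_div, zero_smul, sub_zero] at this
    exact this
  have hperpz : ∀ k, B z (g' (k • u)) = 0 := fun k => by
    obtain ⟨m, hm⟩ := Submodule.mem_span_singleton.mp (hspan k)
    have e := congrArg (B z) hm
    simpa [hz, hza] using e.symm
  obtain ⟨m, hm⟩ := Submodule.mem_span_singleton.mp hb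
  have hcore := h.core hu0 hu hM hg' hk₁ (by simp [← hm, hz]) (fun k => by rw [← hm, map_smul, LinearMap.smul_apply, hperpz, smul_zero]) k₀
  have hga : g' (k₀ • u) = a := hρ.2
  obtain ⟨l, hl⟩ := Submodule.mem_span_singleton.mp hcore
  rw [hga, ← hm] at hl
  exact hk₀ (by rw [← hl]; simp [hz])

omit [Fintype F] [Algebra.IsSeparable F K] [FiniteDimensional F V] in
lemma exists_perp_two {u v : V} (huv : B u v ≠ 0) (hu : B u u = 0) (hv : B v v = 0) [FiniteDimensional K V] :
    ∃ e, B u e = 0 ∧ B v e = 0 ∧ B e e ≠ 0 := by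
  by_contra hh
  have hz : ∀ e, B u e = 0 → B v e = 0 → B e e = 0 := fun e h1 h2 => by
    by_contra h3; exact hh ⟨e, h1, h2, h3⟩
  obtain ⟨e, he, he0⟩ := Submodule.exists_mem_ne_zero_of_ne_bot
    (LinearMap.ker_ne_bot_of_finrank_lt (f := (B u).prod (B v))
      (show finrank K (K × K) < finrank K V by
        rw [Module.finrank_prod, Module.finrank_self]; have := h.three_le; omega))
  simp only [LinearMap.mem_ker, LinearMap.prod_apply, Function.prod, Prod.mk_eq_zero] at he
  refine he0 (h.nondeg e fun y => ?_)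
  set y' := y - (B v y / B u v) • u - (B u y / B u v) • v with hy'
  have h1 : B u y' = 0 := by simp [hy', hu, div_mul_cancel₀ _ huv]
  have h2 : B v y' = 0 := by simp [hy', hv, h.symm v u, div_mul_cancel₀ _ huv]
  have h3 := hz (e + y') (by simp [he.1, h1]) (by simp [he.2, h2])
  simp [hz e he.1 he.2, hz y' h1 h2, h.symm y' e] at h3
  have h4 : B e y' = 0 := (mul_eq_zero.mp (show (2 : K) * B e y' = 0 by linear_combination h3)).resolve_left h.two_ne
  rw [hy'] at h4
  simpa [h.symm e u, h.symm e v, he.1, he.2] using h4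

lemma exists_singular : ∃ u : V, u ≠ 0 ∧ B u u = 0 := by
  classical
  have : FiniteDimensional K V := Module.Finite.of_restrictScalars_finite F K V
  have : Finite K := Module.finite_of_finite F
  by_contra hc
  have hns : ∀ x, x ≠ 0 → B x x ≠ 0 := fun x h1 h3 => hc ⟨x, h1, h3⟩
  have hex : ∀ l : Fin 2 → V, ∃ x, x ≠ 0 ∧ ∀ i, B (l i) x = 0 := fun l => by
    obtain ⟨x, hx, hx0⟩ := Submodule.exists_mem_ne_zero_of_ne_bot
      (LinearMap.ker_ne_bot_of_finrank_lt (f := LinearMap.pi fun i => B (l i))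
        (show finrank K (Fin 2 → K) < finrank K V by simp; have := h.three_le; omega))
    exact ⟨x, hx0, fun i => congrFun (LinearMap.mem_ker.mp hx) i⟩
  obtain ⟨e₁, he10, -⟩ := hex ![0, 0]
  obtain ⟨e₂, he20, he2⟩ := hex ![e₁, e₁]
  obtain ⟨e₃, he30, he3⟩ := hex ![e₁, e₂]
  have e12 : B e₁ e₂ = 0 := he2 0
  have e13 : B e₁ e₃ = 0 := he3 0
  have e23 : B e₂ e₃ = 0 := he3 1
  obtain ⟨x, y, hxy⟩ : ∃ x y : K, B e₁ e₁ * x ^ 2 + (B e₂ e₂ * y ^ 2 + B e₃ e₃) = 0 := by
    haveI := Fintype.ofFinite K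
    have hodd : Fintype.card K % 2 = 1 :=
      FiniteField.odd_card_of_char_ne_two fun e => h.two_ne (by
        haveI := ringChar.charP K
        haveI : CharP K 2 := e ▸ inferInstance
        exact_mod_cast CharP.cast_eq_zero K 2)
    obtain ⟨x, y, hxy⟩ := FiniteField.exists_root_sum_quadratic
      (f := Polynomial.C (B e₁ e₁) * Polynomial.X ^ 2)
      (g := Polynomial.C (B e₂ e₂) * Polynomial.X ^ 2 + Polynomial.C (B e₃ e₃))
      (Polynomial.degree_C_mul_X_pow 2 (hns _ he10))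
      (by rw [Polynomial.degree_add_C (by rw [Polynomial.degree_C_mul_X_pow 2 (hns _ he20)]; decide)]
          exact Polynomial.degree_C_mul_X_pow 2 (hns _ he20)) hodd
    exact ⟨x, y, by simpa [Polynomial.eval_add] using hxy⟩
  refine hc ⟨x • e₁ + y • e₂ + e₃, fun e => ?_, ?_⟩
  · have := congrArg (B e₃) e
    simp [h.symm e₃ e₁, h.symm e₃ e₂, e13, e23, hns _ he30] at this
  · simp [h.symm e₂ e₁, h.symm e₃ e₁, h.symm e₃ e₂, e12, e13, e23]
    linear_combination hxy

lemma exists_third {u v : V} (hu0 : u ≠ 0) (hu : B u u = 0) (hv0 : v ≠ 0) (hv : B v v = 0) :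
    ∃ x, B x x = 0 ∧ B u x ≠ 0 ∧ B v x ≠ 0 := by
  have : FiniteDimensional K V := Module.Finite.of_restrictScalars_finite F K V
  by_cases huv : B u v = 0
  · obtain ⟨z₁, hz₁, h1⟩ := h.exists_dual hu0 hu
    obtain ⟨z₂, hz₂, h2⟩ := h.exists_dual hv0 hv
    by_cases h3 : B v z₁ ≠ 0
    · exact ⟨z₁, hz₁, by simp [h1], h3⟩
    by_cases h4 : B u z₂ ≠ 0
    · exact ⟨z₂, hz₂, h4, by simp [h2]⟩
    rw [not_not] at h3 h4
    refine ⟨z₁ + z₂ - B z₁ z₂ • u, ?_, by simp [h1, h4, hu], by simp [h3, h2, h.symm v u, huv]⟩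
    simp [hz₁, hz₂, hu, h1, h4, h.symm z₁ u, h.symm z₂ u, h.symm z₂ z₁]
  · obtain ⟨e, he1, he2, he⟩ := h.exists_perp_two huv hu hv
    have h2 := h.two_ne
    refine ⟨u + (-(B e e) / (2 * B u v)) • v + e, ?_, ?_, by simp [hv, he2, h.symm v u, huv]⟩
    · simp [hu, hv, he1, he2, h.symm e u, h.symm e v, h.symm v u]
      field_simp
      ring
    · simp [hu, he1, he, huv, h2]

/-- A `K`-linear member of `G` moves a singular line to another one. -/
lemma exists_transport {u v : V} (hu0 : u ≠ 0) (hu : B u u = 0) (hv0 : v ≠ 0) (hv : B v v = 0) :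
    ∃ t : V ≃ₗ[K] V, res F t ∈ G ∧ t v ∈ K ∙ u := by
  obtain ⟨x, hx, hxu, hxv⟩ := h.exists_third hu0 hu hv0 hv
  set μ := B v x / B u x with hμ
  have hxw : B x ((B v x)⁻¹ • (v - μ • u)) = 0 := by
    rw [map_smul, map_sub, map_smul, smul_eq_mul, smul_eq_mul, h.symm x v, h.symm x u, hμ,
      div_mul_cancel₀ _ hxu, sub_self, mul_zero]
  refine ⟨sieg B h.symm h.two_ne hx hxw, h.sieg_mem hx hxw, Submodule.mem_span_singleton.mpr ⟨μ, ?_⟩⟩
  have h2 := h.two_ne
  simp only [sieg_apply, siegMap_apply, map_sub, map_smul, LinearMap.sub_apply, LinearMap.smul_apply, smul_eq_mul,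
    hu, hv, h.symm v u]
  match_scalars <;> field_simp <;> ring

/-- A map sending singular lines into singular lines is semilinear. -/
theorem semilinear_of_lines (hall : ∀ u : V, u ≠ 0 → B u u = 0 → OnlyMul B G u) {g : AutV F V} (hg : g ∈ G)
    (hline : ∀ u : V, u ≠ 0 → B u u = 0 → B (g u) (g u) = 0 ∧ ∀ k : K, g (k • u) ∈ K ∙ g u) :
    ∃ τ : K ≃ₐ[F] K, ∀ (k : K) (x : V), g (k • x) = τ k • g x := by
  classical
  have : FiniteDimensional K V := Module.Finite.of_restrictScalars_finite F K V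
  have hloc : ∀ u : V, u ≠ 0 → B u u = 0 → ∃ τ : K ≃ₐ[F] K, ∀ k : K, g (k • u) = τ k • g u := by
    intro u hu0 hu
    obtain ⟨hgu, hgl⟩ := hline u hu0 hu
    obtain ⟨t, htG, ht⟩ := h.exists_transport hu0 hu (fun e => hu0 (g.map_eq_zero_iff.mp e)) hgu
    obtain ⟨m, hm⟩ := Submodule.mem_span_singleton.mp ht
    obtain ⟨τ, c, hc, hτ⟩ := h.semi_on_line hu0 hu (hall u hu0 hu) (G.mul_mem htG hg) fun k => by
      obtain ⟨j, hj⟩ := Submodule.mem_span_singleton.mp (hgl k)
      rw [LinearEquiv.mul_apply, res_apply, ← hj, map_smul, ← hm, smul_smul]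
      exact Submodule.smul_mem _ _ (Submodule.mem_span_singleton_self u)
    refine ⟨τ, fun k => t.injective ?_⟩
    have h1 := hτ k
    have h2 := hτ 1
    rw [LinearEquiv.mul_apply, res_apply] at h1 h2
    rw [map_one, mul_one, one_smul] at h2
    rw [h1, map_smul, h2, smul_smul, mul_comm]
  choose τ hτ using hloc
  have hadj : ∀ (u v : V) (hu0 : u ≠ 0) (hu : B u u = 0) (hv0 : v ≠ 0) (hv : B v v = 0),
      B u v ≠ 0 → τ u hu0 hu = τ v hv0 hv := by
    intro u v hu0 hu hv0 hv huv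
    have key : ∀ k l : K, Algebra.trace F K (τ u hu0 hu k * τ v hv0 hv l * B (g u) (g v)) =
        Algebra.trace F K (k * l * B u v) := fun k l => by
      have := h.isom g hg (k • u) (l • v)
      rw [hτ u hu0 hu, hτ v hv0 hv] at this
      simp only [map_smul, LinearMap.smul_apply, smul_eq_mul] at this
      rw [mul_assoc, mul_assoc, mul_left_comm k]
      rwa [mul_left_comm (τ u hu0 hu k)]
    have hs : B (g u) (g v) = τ u hu0 hu (B u v) := sub_eq_zero.mp <|
      (traceForm_nondegenerate F K).1 _ fun y => by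
        obtain ⟨k, rfl⟩ := (τ u hu0 hu).surjective y
        rw [Algebra.traceForm_apply, sub_mul, map_sub, ← map_mul, Algebra.trace_eq_of_algEquiv]
        have := key k 1
        rw [map_one, mul_one, mul_one] at this
        rw [mul_comm (B (g u) (g v)), this, mul_comm k, sub_self]
    refine AlgEquiv.ext fun l => ?_
    have hne : τ u hu0 hu (B u v) ≠ 0 := by simpa using huv
    refine (mul_right_cancel₀ hne (sub_eq_zero.mp <| (traceForm_nondegenerate F K).1 _ fun y => ?_)).symm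
    obtain ⟨k, rfl⟩ := (τ u hu0 hu).surjective y
    rw [Algebra.traceForm_apply, sub_mul, map_sub, ← map_mul, ← map_mul, Algebra.trace_eq_of_algEquiv]
    have := key k l
    rw [hs] at this
    rw [mul_assoc _ _ (τ u hu0 hu k), mul_comm (τ u hu0 hu (B u v)), ← mul_assoc,
      mul_comm (τ v hv0 hv l), this]
    rw [show l * B u v * k = k * l * B u v by ring, sub_self]
  obtain ⟨u₀, v₀, hu0, hu, hv, huv⟩ : ∃ u v : V, u ≠ 0 ∧ B u u = 0 ∧ B v v = 0 ∧ B u v = 1 := by
    obtain ⟨u, hu0, hu⟩ : ∃ u : V, u ≠ 0 ∧ B u u = 0 := h.exists_singular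
    obtain ⟨v, hv, huv⟩ := h.exists_dual hu0 hu
    exact ⟨u, v, hu0, hu, hv, huv⟩
  refine ⟨τ u₀ hu0 hu, fun k x => ?_⟩
  let S : Submodule K V :=
    { carrier := {x | ∀ k, g (k • x) = τ u₀ hu0 hu k • g x}
      add_mem' := fun {x y} hx hy k => by simp [smul_add, hx k, hy k]
      zero_mem' := fun k => by simp
      smul_mem' := fun l x hx k => by rw [smul_smul, hx, hx, smul_smul, map_mul] }
  have hsing : ∀ w : V, B w w = 0 → w ∈ S := by
    intro w hw k
    rcases eq_or_ne w 0 with rfl | hw0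
    · simp
    obtain ⟨z, hz, hz1, hz2⟩ := h.exists_third hu0 hu hw0 hw
    have hz0 : z ≠ 0 := fun e => hz1 (by simp [e])
    rw [hτ w hw0 hw, hadj w z hw0 hw hz0 hz hz2, hadj u₀ z hu0 hu hz0 hz hz1]
  have hx : x ∈ S := by
    set y := x - B x v₀ • u₀ - B x u₀ • v₀ with hy
    have hvu : B v₀ u₀ = 1 := by rw [h.symm, huv]
    have h1 : B u₀ y = 0 := by simp [hy, hu, huv, h.symm u₀ x]
    have h2 : B v₀ y = 0 := by simp [hy, hv, hvu, h.symm v₀ x]
    have hy1 : y + u₀ - (B y y / 2) • v₀ ∈ S := hsing _ (by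
      simp [hu, hv, huv, hvu, h1, h2, h.symm y u₀, h.symm y v₀]
      field_simp [h.two_ne]
      ring)
    have e : x = (y + u₀ - (B y y / 2) • v₀) + ((B x v₀ - 1) • u₀ + (B x u₀ + B y y / 2) • v₀) := by
      rw [hy]; module
    rw [e]
    exact S.add_mem hy1 (S.add_mem (S.smul_mem _ (hsing _ hu)) (S.smul_mem _ (hsing _ hv)))
  exact hx k

end Hyp

end CfsgLib.ExtFieldOrth
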