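import Mathlib
import Cfsg.Agent.Lib.ExtFieldOrth.Lines

/-!
When every endomorphism is a multiplier for one singular line, `G` contains every Siegel map of the
trace form.
-/

set_option autoImplicit false
set_option linter.unusedSectionVars false
set_option linter.style.haveILetI false
set_option linter.unusedVariables false
set_option linter.unusedSimpArgs false

namespace CfsgLib.ExtFieldOrth

open Module

/-! ### Siegel maps of a symmetric form over `F` -/

section Form

variable {F V : Type*} [Field F] [AddCommGroup V] [Module F V] (f : V →ₗ[F] V →ₗ[F] F)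
  (hs : ∀ x y, f x y = f y x) (h2 : (2 : F) ≠ 0) (G : Subgroup (AutV F V))

/-- `G` contains every Siegel map of `a`. -/
def HasSieg (a : V) : Prop := ∀ w, f a w = 0 → ∃ g ∈ G, ∀ x, g x = siegMap f a w x

variable {f G}
include hs h2

omit h2 in
lemma siegMap_conj {k : AutV F V} (hk : ∀ x y, f (k x) (k y) = f x y) (u w x : V) :
    k (siegMap f u w (k.symm x)) = siegMap f (k u) (k w) x := by
  simp only [siegMap_apply, map_add, map_sub, map_smul, k.apply_symm_apply]
  rw [← hk (k.symm x) w, ← hk (k.symm x) u, ← hk w w, k.apply_symm_apply]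

lemma hasSieg_smul {a : V} (h : HasSieg f G a) (c : F) : HasSieg f G (c • a) := fun w hw => by
  rcases eq_or_ne c 0 with rfl | hc
  · exact ⟨1, G.one_mem, fun x => by simp [siegMap_apply]⟩
  · obtain ⟨g, hg, hgx⟩ := h (c • w) (by simpa using hw)
    refine ⟨g, hg, fun x => ?_⟩
    rw [hgx, siegMap_apply, siegMap_apply]
    simp only [map_smul, LinearMap.smul_apply, smul_eq_mul]
    match_scalars <;> field_simp

/-- From `c` and `d`, not orthogonal, to every singular vector not orthogonal to `c`. -/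
lemma hasSieg_move (hisom : ∀ g ∈ G, ∀ x y, f (g x) (g y) = f x y) {c d x : V} (hc : f c c = 0) (hd : f d d = 0)
    (hx : f x x = 0) (hcd : f c d ≠ 0) (hcx : f c x ≠ 0) (hsc : HasSieg f G c) (hsd : HasSieg f G d) :
    HasSieg f G x := by
  set μ := f c x / f c d with hμ
  have hμ0 : μ ≠ 0 := div_ne_zero hcx hcd
  set y := x - μ • d with hy
  have hw : f c ((f x c)⁻¹ • y) = 0 := by
    rw [map_smul, hy, map_sub, map_smul, smul_eq_mul, smul_eq_mul, hμ, div_mul_cancel₀ _ hcd, sub_self, mul_zero]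
  obtain ⟨g, hg, hgx⟩ := hsc _ hw
  have hgv : g x = μ • d := by
    rw [hgx, siegMap_apply, hy]
    simp only [map_sub, map_smul, LinearMap.sub_apply, LinearMap.smul_apply, smul_eq_mul, hd, hx, hs d x]
    match_scalars <;> (rw [hs x c]; field_simp; try ring)
  intro w hw'
  obtain ⟨t, ht, htx⟩ := hasSieg_smul hs h2 hsd μ (g w) (by rw [← hgv, hisom g hg]; exact hw')
  refine ⟨g⁻¹ * t * g, G.mul_mem (G.mul_mem (G.inv_mem hg) ht) hg, fun z => g.injective ?_⟩
  show g (g.symm (t (g z))) = _
  rw [g.apply_symm_apply, htx, ← hgv, ← siegMap_conj hs (hisom g hg), g.symm_apply_apply]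

/-- Two opposite vectors with all their Siegel maps give all Siegel maps. -/
theorem hasSieg_all (hisom : ∀ g ∈ G, ∀ x y, f (g x) (g y) = f x y) (hnd : ∀ x, (∀ y, f x y = 0) → x = 0)
    {a b : V} (ha : f a a = 0) (hb : f b b = 0) (hab : f a b = 1) (hsa : HasSieg f G a) (hsb : HasSieg f G b)
    {x : V} (hx : f x x = 0) : HasSieg f G x := by
  have hba : f b a = 1 := by rw [hs, hab]
  by_cases hax : f a x ≠ 0
  · exact hasSieg_move hs h2 hisom ha hb hx (by simp [hab]) hax hsa hsb
  by_cases hbx : f b x ≠ 0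
  · exact hasSieg_move hs h2 hisom hb ha hx (by simp [hba]) hbx hsb hsa
  rw [not_not] at hax hbx
  rcases eq_or_ne x 0 with rfl | hx0
  · exact fun w _ => ⟨1, G.one_mem, fun z => by simp [siegMap_apply]⟩
  obtain ⟨z, hz⟩ : ∃ z, f x z = 1 := by
    obtain ⟨z, hz⟩ : ∃ z, f x z ≠ 0 := by
      by_contra hc; exact hx0 (hnd x fun y => by by_contra hy; exact hc ⟨y, hy⟩)
    exact ⟨(f x z)⁻¹ • z, by simp [hz]⟩
  set l := 1 - f b z with hl
  set μ := -(l * f a z) - f z z / 2 with hμ
  set y := l • a + z + μ • x with hy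
  have hyy : f y y = 0 := by
    simp only [hy, map_add, map_smul, LinearMap.add_apply, LinearMap.smul_apply, smul_eq_mul, ha, hx, hz, hax,
      hs z a, hs z x, hs x a]
    rw [hμ]; field_simp; ring
  have hby : f b y = 1 := by simp [hy, hba, hbx, hl]
  have hxy : f x y = 1 := by simp [hy, hz, hx, hs x a, hax]
  have hsy : HasSieg f G y := hasSieg_move hs h2 hisom hb ha hyy (by simp [hba]) (by simp [hby]) hsb hsa
  exact hasSieg_move hs h2 hisom hyy hb hx (by rw [hs, hby]; exact one_ne_zero)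
    (by rw [hs, hxy]; exact one_ne_zero) hsy hsb

lemma siegMap_comm {a b w₁ w₂ : V} (ha : f a a = 0) (hb : f b b = 0) (hab : f a b = 0) (h1 : f a w₁ = 0)
    (h2' : f a w₂ = 0) (h3 : f b w₁ = 0) (h4 : f b w₂ = 0) (x : V) :
    siegMap f a w₁ (siegMap f b w₂ (siegMap f a (-w₁) (siegMap f b (-w₂) x))) =
      siegMap f a (-(f w₁ w₂) • b) x := by
  simp only [siegMap_apply, map_add, map_sub, map_smul, map_neg, LinearMap.add_apply, LinearMap.sub_apply,
    LinearMap.smul_apply, LinearMap.neg_apply, smul_eq_mul, ha, hb, hab, h1, h2', h3, h4, hs b a, hs w₁ a,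
    hs w₂ a, hs w₁ b, hs w₂ b, hs w₂ w₁]
  match_scalars <;> field_simp <;> ring

end Form

/-! ### The trace form -/

variable {F K V : Type*} [Field F] [Field K] [Algebra F K] [AddCommGroup V] [Module F V]
  [Module K V] [IsScalarTower F K V]
variable {B : V →ₗ[K] V →ₗ[K] K} {G : Subgroup (AutV F V)}

/-- The trace form of `B`. -/
noncomputable def trB (B : V →ₗ[K] V →ₗ[K] K) : V →ₗ[F] V →ₗ[F] F :=
  LinearMap.mk₂ F (fun x y => Algebra.trace F K (B x y)) (fun x y z => by simp)
    (fun c x y => by rw [← algebraMap_smul K c x, map_smul, LinearMap.smul_apply, algebraMap_smul, map_smul])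
    (fun x y z => by simp)
    (fun c x y => by rw [← algebraMap_smul K c y, map_smul, algebraMap_smul, map_smul])

@[simp] lemma trB_apply (x y : V) : trB (F := F) B x y = Algebra.trace F K (B x y) := rfl

namespace Hyp

variable [Fintype F] [FiniteDimensional F K] [Algebra.IsSeparable F K] [FiniteDimensional F V]
variable (h : Hyp B G)
include h

lemma trB_symm (x y : V) : trB (F := F) B x y = trB B y x := by simp [h.symm x y]

lemma trB_nondeg (x : V) (hx : ∀ y, trB (F := F) B x y = 0) : x = 0 :=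
  h.nondeg x fun y => (traceForm_nondegenerate F K).1 _ fun k => by
    rw [Algebra.traceForm_apply, mul_comm]
    simpa using hx (k • y)

lemma two_ne' : (2 : F) ≠ 0 := fun e => h.two_ne (by
  have := congrArg (algebraMap F K) e
  rwa [map_ofNat, map_zero] at this)

lemma trB_perp_line {u : V} (hu : B u u = 0) {x y : V} (hx : B u x = 0) (hy : y ∈ K ∙ u) :
    trB (F := F) B x y = 0 := by
  obtain ⟨k, rfl⟩ := Submodule.mem_span_singleton.mp hy
  simp [h.symm x u, hx]

lemma mem_line_of_trB {u x : V} (hu0 : u ≠ 0) (hu : B u u = 0) (hx : ∀ y, B u y = 0 → trB (F := F) B x y = 0) :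
    x ∈ K ∙ u := by
  have hx' : ∀ y, B u y = 0 → B x y = 0 := fun y hy => (traceForm_nondegenerate F K).1 _ fun k => by
    rw [Algebra.traceForm_apply, mul_comm]
    simpa using hx (k • y) (by simp [hy])
  exact h.mem_line_of_perp_perp hu0 hu (by rw [h.symm]; exact hx' u hu) hx'

/-- Every endomorphism a multiplier for `u`: the Siegel maps of vectors of the line lie in `G`. -/
theorem hasSieg_line {u : V} (hu0 : u ≠ 0) (hu : B u u = 0)
    (hall : ∀ X : Module.End F K, X ∈ multipliers B G u hu) (k : K) {w : V} (hw : B u w = 0) :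
    ∃ g ∈ G, ∀ x, g x = siegMap (trB (F := F) B) (k • u) w x := by
  classical
  have : FiniteDimensional K V := Module.Finite.of_restrictScalars_finite F K V
  set f := trB (F := F) B
  have hs := h.trB_symm
  have h2 := h.two_ne'
  have fline : ∀ {x y : V}, B u x = 0 → y ∈ K ∙ u → f x y = 0 := fun hx hy => h.trB_perp_line hu hx hy
  have hsu : ∀ k : K, k • u ∈ K ∙ u := fun k => Submodule.smul_mem _ k (Submodule.mem_span_singleton_self u)
  have fUU : ∀ k l : K, f (k • u) (l • u) = 0 := fun k l => fline (by simp [hu]) (hsu l)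
  have happrox : ∀ (k : K) (w : V), B u w = 0 → ∃ q ∈ G, ∀ x, B u x = 0 → q x = siegMap f (k • u) w x := by
    intro k w hw
    obtain ⟨-, q, hq, hqx⟩ := hall (LinearMap.mulLeft F k ∘ₗ (Algebra.linearMap F K ∘ₗ Algebra.trace F K)) _
      (h.rootSet_sieg hu ⟨w, (mem_perp B).mpr hw⟩)
    refine ⟨q, hq, fun x hx => ?_⟩
    rw [siegMap_apply, fline hx (hsu k), zero_smul, sub_zero, mul_zero, zero_smul, sub_zero,
      hqx ⟨x, (mem_perp B).mpr hx⟩]
    congr 1
    simp only [f, LinearMap.comp_apply, LinearMap.mulLeft_apply, Algebra.linearMap_apply, trB_apply]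
    rw [mul_comm, mul_smul, algebraMap_smul]
    rfl
  -- residual maps
  have hres : ∀ {z : AutV F V}, (∀ x y, f (z x) (z y) = f x y) → (∀ x, B u x = 0 → z x = x) →
      ∀ y, z y - y ∈ K ∙ u := fun {z} hz hfix y => h.mem_line_of_trB hu0 hu fun x hx => by
    show f (z y - y) x = 0
    rw [map_sub, LinearMap.sub_apply]
    nth_rw 1 [← hfix x hx]
    rw [hz, sub_self]
  have hSiso : ∀ (k : K) (w x y : V), B u w = 0 → f (siegMap f (k • u) w x) (siegMap f (k • u) w y) = f x y :=
    fun k w x y hw => isom_siegMap (B := f) hs (fUU k k) h2 (by rw [hs]; exact fline hw (hsu k)) x y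
  have hfa : ∀ {k : K} {w : V}, B u w = 0 → f (k • u) w = 0 := fun hw => by rw [hs]; exact fline hw (hsu _)
  -- commuting of residual maps with Siegel maps
  have hdec : ∀ (k : K) (w : V), B u w = 0 → ∃ q ∈ G, ∃ z : V → V, (∀ y, z y - y ∈ K ∙ u) ∧
      (∀ x y, z (x + y) = z x + z y) ∧ (∀ x, B u x = 0 → z x = x) ∧ ∀ x, q x = siegMap f (k • u) w (z x) := by
    intro k w hw
    obtain ⟨q, hq, hqx⟩ := happrox k w hw
    have hw' : B u (-w) = 0 := by simp [hw]
    let s : AutV F V := sieg f hs h2 (fUU k k) (hfa hw)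
    refine ⟨q, hq, fun y => s.symm (q y), ?_, fun x y => by simp, fun x hx => ?_, fun x => ?_⟩
    · refine hres (z := s⁻¹ * q) (fun x y => ?_) fun x hx => ?_
      · show f (siegMap f (k • u) (-w) (q x)) (siegMap f (k • u) (-w) (q y)) = _
        rw [hSiso k (-w) _ _ hw']
        exact h.isom q hq x y
      · show s.symm (q x) = x
        rw [hqx x hx, LinearEquiv.symm_apply_eq]; rfl
    · show s.symm (q x) = x
      rw [hqx x hx, LinearEquiv.symm_apply_eq]; rfl
    · show q x = s (s.symm (q x))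
      rw [s.apply_symm_apply]
  -- long root elements inside the line
  have hlong : ∀ k l : K, ∀ c : F, ∃ g ∈ G, ∀ x, g x = siegMap f (k • u) (c • l • u) x := by
    intro k l c
    obtain ⟨v, hv, huv⟩ := h.exists_dual hu0 hu
    obtain ⟨e, he, -, hee⟩ := h.exists_perp_two (u := u) (v := v) (by simp [huv]) hu hv
    obtain ⟨m, hm⟩ : ∃ m : K, Algebra.trace F K (m * B e e) = 1 := by
      obtain ⟨m, hm⟩ := Algebra.trace_surjective F K 1
      exact ⟨m / B e e, by rw [div_mul_cancel₀ _ hee, hm]⟩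
    set w₂ := (-c) • m • e with hw₂d
    have hw₂ : B u w₂ = 0 := by
      rw [hw₂d, ← algebraMap_smul K (-c), map_smul, map_smul, he, smul_zero, smul_zero]
    obtain ⟨q₁, hq₁, z₁, hz₁, hz₁a, hz₁f, h1⟩ := hdec k e he
    obtain ⟨q₂, hq₂, z₂, hz₂, hz₂a, hz₂f, h2'⟩ := hdec l w₂ hw₂
    refine ⟨q₁ * q₂ * q₁⁻¹ * q₂⁻¹, G.mul_mem (G.mul_mem (G.mul_mem hq₁ hq₂) (G.inv_mem hq₁)) (G.inv_mem hq₂),
      fun x => ?_⟩
    have hzs : ∀ {z : V → V}, (∀ y, z y - y ∈ K ∙ u) → (∀ x y, z (x + y) = z x + z y) →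
        (∀ x, B u x = 0 → z x = x) → ∀ (k : K) (w : V), B u w = 0 → ∀ y,
          z (siegMap f (k • u) w y) = siegMap f (k • u) w (z y) := by
      intro z hz hza hzf k w hw y
      have hd : B u (siegMap f (k • u) w y - y) = 0 := by
        rw [siegMap_apply, ← algebraMap_smul K (f y w), ← algebraMap_smul K (f y (k • u)),
          ← algebraMap_smul K (f w w / 2 * f y (k • u))]
        simp [hu, hw]
      have e1 : z (siegMap f (k • u) w y) = z y + (siegMap f (k • u) w y - y) := by
        conv_lhs => rw [show siegMap f (k • u) w y = y + (siegMap f (k • u) w y - y) by abel]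
        rw [hza, hzf _ hd]
      obtain ⟨j, hj⟩ := Submodule.mem_span_singleton.mp (hz y)
      have e2 : siegMap f (k • u) w (z y - y) = z y - y := by
        rw [siegMap_apply, ← hj, fUU, show f (j • u) w = 0 from hfa hw]
        simp
      rw [e1, show z y = y + (z y - y) by abel, map_add, e2]
      abel
    have hneg : ∀ (k : K) (w : V), B u w = 0 → ∀ y, siegMap f (k • u) w (siegMap f (k • u) (-w) y) = y := by
      intro k w hw y
      rw [siegMap_add hs (fUU k k) h2 (hfa hw) (hfa (by simp [hw])) y, add_neg_cancel, siegMap_zero]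
    have hw₂n : B u (-w₂) = 0 := by simp [hw₂]
    have hen : B u (-e) = 0 := by simp [he]
    set x' := q₂.symm x with hx'
    have hq₂x : x = siegMap f (l • u) w₂ (z₂ x') := by rw [← h2', hx', q₂.apply_symm_apply]
    set x'' := q₁.symm x' with hx''
    have hq₁x : x' = siegMap f (k • u) e (z₁ x'') := by rw [← h1, hx'', q₁.apply_symm_apply]
    show q₁ (q₂ x'') = _
    have hcz : ∀ y, z₁ (z₂ y) = z₂ (z₁ y) := by
      intro y
      have hline : ∀ {y : V}, y ∈ K ∙ u → B u y = 0 := fun hy => mem_perp_of_mem_line h hu hy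
      rw [show z₂ y = y + (z₂ y - y) by abel, hz₁a, hz₁f _ (hline (hz₂ y)),
        show z₁ y = y + (z₁ y - y) by abel, hz₂a, hz₂f _ (hline (hz₁ y))]
      abel
    have hY : siegMap f (k • u) (-e) (siegMap f (l • u) (-w₂) x) = z₂ (z₁ x'') := by
      have hneg' : ∀ (k : K) (w : V), B u w = 0 → ∀ y, siegMap f (k • u) (-w) (siegMap f (k • u) w y) = y :=
        fun k w hw y => by simpa using hneg k (-w) (by simp [hw]) y
      rw [hq₂x, hneg' l w₂ hw₂, hq₁x, hzs hz₂ hz₂a hz₂f k e he, hneg' k e he]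
    rw [h1, h2', hzs hz₁ hz₁a hz₁f l w₂ hw₂, hcz, ← hY, siegMap_comm hs h2
      (fUU k k) (fUU l l) (fUU k l) (hfa he) (hfa hw₂) (hfa he) (hfa hw₂)]
    have hfe : f e w₂ = -c := by
      rw [hw₂d, map_smul, smul_eq_mul]
      simp [f, hm]
    rw [hfe, neg_neg]
  -- every residual map is in `G`
  obtain ⟨q, hq, hqx⟩ := happrox k w hw
  obtain ⟨v, hv, huv⟩ := h.exists_dual hu0 hu
  let s : AutV F V := sieg f hs h2 (fUU k k) (hfa hw)
  set z := s⁻¹ * q with hzd
  have hzi : ∀ x y, f (z x) (z y) = f x y := fun x y => by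
    show f (siegMap f (k • u) (-w) (q x)) (siegMap f (k • u) (-w) (q y)) = _
    rw [hSiso k (-w) _ _ (by simp [hw])]
    exact h.isom q hq x y
  have hzf : ∀ x, B u x = 0 → z x = x := fun x hx => by
    show s.symm (q x) = x
    rw [hqx x hx, LinearEquiv.symm_apply_eq]; rfl
  let S : AddSubmonoid (V →ₗ[F] V) :=
    { carrier := {ψ | (∀ x, B u x = 0 → ψ x = 0) ∧ (∀ x, ψ x ∈ K ∙ u) ∧ ∃ g ∈ G, ∀ x, g x = x + ψ x}
      zero_mem' := ⟨fun x _ => rfl, fun x => Submodule.zero_mem _, 1, G.one_mem, fun x => by simp⟩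
      add_mem' := by
        rintro ψ₁ ψ₂ ⟨a1, b1, g₁, hg₁, e1⟩ ⟨a2, b2, g₂, hg₂, e2⟩
        refine ⟨fun x hx => by simp [a1 x hx, a2 x hx], fun x => Submodule.add_mem _ (b1 x) (b2 x),
          g₁ * g₂, G.mul_mem hg₁ hg₂, fun x => ?_⟩
        rw [LinearEquiv.mul_apply, e2, e1, map_add, a1 _ (mem_perp_of_mem_line h hu (b2 x)), add_zero,
          LinearMap.add_apply]
        abel }
  let b := Module.finBasis F K
  let b' := (Algebra.traceForm F K).dualBasis (traceForm_nondegenerate F K) b
  let a : Fin (finrank F K) → V := fun i => b i • u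
  let c : Fin (finrank F K) → V := fun i => b' i • v
  let φ : V →ₗ[F] V := z.toLinearMap - LinearMap.id
  let M : Fin (finrank F K) → Fin (finrank F K) → F := fun i j => f (φ (c i)) (c j)
  let gen : Fin (finrank F K) × Fin (finrank F K) → (V →ₗ[F] V) := fun ij =>
    (M ij.1 ij.2 / 2) • ((f.flip (a ij.1)).smulRight (a ij.2) - (f.flip (a ij.2)).smulRight (a ij.1))
  have hgen : ∑ ij, gen ij ∈ S := by
    refine AddSubmonoid.sum_mem _ fun ij _ => ⟨fun x hx => ?_, fun x => ?_, ?_⟩
    · simp [gen, a, fline hx (hsu _)]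
    · simp only [gen, LinearMap.smul_apply, LinearMap.sub_apply, LinearMap.smulRight_apply]
      exact Submodule.smul_of_tower_mem _ _ (Submodule.sub_mem _ (Submodule.smul_of_tower_mem _ _ (hsu _))
        (Submodule.smul_of_tower_mem _ _ (hsu _)))
    · obtain ⟨g, hg, hgx⟩ := hlong (b ij.2) (b ij.1) (M ij.1 ij.2 / 2)
      refine ⟨g, hg, fun x => ?_⟩
      rw [hgx, siegMap_apply, show f ((M ij.1 ij.2 / 2) • b ij.1 • u) ((M ij.1 ij.2 / 2) • b ij.1 • u) = 0 by
        simp only [map_smul, LinearMap.smul_apply, fUU, smul_zero]]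
      simp only [gen, LinearMap.smul_apply, LinearMap.sub_apply, LinearMap.smulRight_apply,
        LinearMap.flip_apply, map_smul, smul_eq_mul, a]
      simp only [zero_div, zero_mul, zero_smul, sub_zero]
      module
  have hdual : ∀ i j, f (a i) (c j) = if i = j then 1 else 0 := fun i j => by
    have e := LinearMap.BilinForm.apply_dualBasis_left (traceForm_nondegenerate F K) b j i
    rw [Algebra.traceForm_apply] at e
    simp only [f, a, c, trB_apply, map_smul, LinearMap.smul_apply, smul_eq_mul, huv, mul_one]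
    exact e
  have hφU : ∀ x, φ x ∈ K ∙ u := fun x => hres hzi hzf x
  have hφp : ∀ x, B u x = 0 → φ x = 0 := fun x hx => by simp [φ, hzf x hx]
  have hskew : ∀ x y, f (φ x) y = - f (φ y) x := fun x y => by
    have e := hzi x y
    have e1 : ∀ t, z t = t + φ t := fun t => by simp [φ]
    rw [e1, e1, map_add, map_add, LinearMap.add_apply, LinearMap.add_apply] at e
    obtain ⟨i, hi⟩ := Submodule.mem_span_singleton.mp (hφU x)
    obtain ⟨j, hj⟩ := Submodule.mem_span_singleton.mp (hφU y)
    have e0 : f (φ x) (φ y) = 0 := by rw [← hi, ← hj, fUU]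
    rw [hs x (φ y), e0] at e
    linear_combination e
  have hUexp : ∀ t ∈ K ∙ u, t = ∑ j, f t (c j) • a j := fun t ht => by
    obtain ⟨i, rfl⟩ := Submodule.mem_span_singleton.mp ht
    have e : i • u = ∑ j, (b.repr i) j • a j := by
      conv_lhs => rw [← b.sum_repr i, Finset.sum_smul]
      simp [a, smul_assoc]
    conv_lhs => rw [e]
    refine Finset.sum_congr rfl fun j _ => ?_
    rw [e]
    simp [map_sum, LinearMap.sum_apply, hdual]
  have hφ : φ = ∑ ij, gen ij := by
    refine LinearMap.ext fun x => ?_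
    have hx : B u (x - ∑ i, f x (a i) • c i) = 0 := by
      refine (traceForm_nondegenerate F K).1 _ fun m => ?_
      rw [Algebra.traceForm_apply, mul_comm]
      have e : Algebra.trace F K (m * B u (x - ∑ i, f x (a i) • c i)) = f (m • u) (x - ∑ i, f x (a i) • c i) := by
        simp only [f, trB_apply, map_smul, LinearMap.smul_apply, smul_eq_mul]
      rw [e, map_sub, map_sum, sub_eq_zero]
      have e2 : m • u = ∑ j, (b.repr m) j • a j := by
        conv_lhs => rw [← b.sum_repr m, Finset.sum_smul]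
        simp [a, smul_assoc]
      rw [e2]
      simp only [map_sum, map_smul, LinearMap.sum_apply, LinearMap.smul_apply, smul_eq_mul, hdual]
      exact Finset.sum_congr rfl fun j _ => by rw [hs x (a j)]; simp [f, mul_comm]
    have hφx : φ x = ∑ i, f x (a i) • φ (c i) := by
      have := hφp _ hx
      rw [map_sub, sub_eq_zero] at this
      rw [this]; simp
    rw [hφx]
    simp only [LinearMap.sum_apply, Fintype.sum_prod_type]
    have e3 : ∀ i, φ (c i) = ∑ j, M i j • a j := fun i => hUexp _ (hφU _)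
    simp only [e3, gen, LinearMap.smul_apply, LinearMap.sub_apply, LinearMap.smulRight_apply,
      LinearMap.flip_apply, smul_sub, Finset.sum_sub_distrib, Finset.smul_sum, smul_smul]
    rw [Finset.sum_comm (f := fun i j => (M i j / 2 * f x (a j)) • a i), ← Finset.sum_sub_distrib]
    refine Finset.sum_congr rfl fun i _ => ?_
    rw [← Finset.sum_sub_distrib]
    refine Finset.sum_congr rfl fun j _ => ?_
    rw [show M j i = -M i j from hskew _ _, ← sub_smul]
    congr 1
    field_simp
    ring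
  obtain ⟨-, -, g, hg, hgx⟩ := (hφ ▸ hgen : φ ∈ S)
  refine ⟨q * g⁻¹, G.mul_mem hq (G.inv_mem hg), fun x => ?_⟩
  have hgz : g = z := LinearEquiv.ext fun t => by rw [hgx]; simp [φ]
  rw [hgz, hzd, mul_inv_rev, inv_inv, ← mul_assoc, mul_inv_cancel, one_mul]
  rfl

omit [Fintype F] [Algebra.IsSeparable F K] [FiniteDimensional F V] in
lemma trB_isom_lin {t : V ≃ₗ[K] V} (ht : res F t ∈ G) (x y : V) :
    trB (F := F) B (t x) (t y) = trB B x y := h.isom _ ht x y

/-- Every endomorphism a multiplier for one line: all Siegel maps of the trace form. -/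
theorem hasSieg_of_all {u : V} (hu0 : u ≠ 0) (hu : B u u = 0)
    (hall : ∀ X : Module.End F K, X ∈ multipliers B G u hu) {x : V} (hx : trB (F := F) B x x = 0) :
    HasSieg (trB (F := F) B) G x := by
  classical
  have : FiniteDimensional K V := Module.Finite.of_restrictScalars_finite F K V
  set f := trB (F := F) B
  have hs := h.trB_symm
  have h2 := h.two_ne'
  have hsu : ∀ (u : V) (k : K), k • u ∈ K ∙ u := fun u k =>
    Submodule.smul_mem _ k (Submodule.mem_span_singleton_self u)
  have hlines : ∀ {y : V}, y ≠ 0 → B y y = 0 → ∀ (k : K) {w : V}, B y w = 0 →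
      ∃ g ∈ G, ∀ x, g x = siegMap f (k • y) w x := by
    intro y hy0 hy k w hw
    obtain ⟨t, ht, hty⟩ := h.exists_transport hu0 hu hy0 hy
    obtain ⟨m, hm⟩ := Submodule.mem_span_singleton.mp hty
    have hiso : B u (t w) = 0 := by
      have e : ∀ l : K, f (t (l • y)) (t w) = 0 := fun l => by
        rw [h.trB_isom_lin ht]
        simp [f, hw]
      have hm0 : m ≠ 0 := fun e => hy0 (t.map_eq_zero_iff.mp (by rw [← hm, e, zero_smul]))
      refine (traceForm_nondegenerate F K).1 _ fun l => ?_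
      have := e (l / m)
      rw [map_smul, ← hm, smul_smul, div_mul_cancel₀ _ hm0] at this
      rw [Algebra.traceForm_apply, mul_comm]
      simpa [f] using this
    obtain ⟨g, hg, hgx⟩ := h.hasSieg_line hu0 hu hall (k * m) hiso
    refine ⟨(res F t)⁻¹ * g * res F t, G.mul_mem (G.mul_mem (G.inv_mem ht) hg) ht,
      fun x => t.injective ?_⟩
    show t (t.symm (g (t x))) = _
    rw [t.apply_symm_apply, hgx, mul_smul, hm, ← map_smul t]
    have := siegMap_conj (f := f) hs (k := res F t) (h.trB_isom_lin ht) (k • y) w (t x)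
    simp only [res_apply] at this
    rw [← this]
    congr 2
    exact t.symm_apply_apply x
  obtain ⟨v, hv, huv⟩ := h.exists_dual hu0 hu
  have hvu : B v u = 1 := by rw [h.symm, huv]
  have hv0 : v ≠ 0 := fun e => by simp [e] at huv
  obtain ⟨e, he, hev, hee⟩ := h.exists_perp_two (u := u) (v := v) (by simp [huv]) hu hv
  have hpair : ∀ (y y' : V), y ≠ 0 → y' ≠ 0 → B y y = 0 → B y' y' = 0 → B y y' = 1 → B y e = 0 → B y' e = 0 →
      ∀ k : K, HasSieg f G (k • y) := by
    intro y y' hy0 hy'0 hy hy' hyy' hye hy'e k w hw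
    set l := B y w
    set w₀ := w - l • y'
    have hw₀ : B y w₀ = 0 := by simp [w₀, hyy', l]
    obtain ⟨g₁, hg₁, hg₁x⟩ := hlines hy0 hy k hw₀
    have hfkl : f (k • y) (l • y') = 0 := by
      have h0 : f (k • y) w₀ = 0 := by
        rw [hs]; exact h.trB_perp_line hy hw₀ (hsu _ _)
      rw [show l • y' = w - w₀ by simp [w₀], map_sub, hw, h0, sub_zero]
    obtain ⟨m, hm⟩ : ∃ m : K, Algebra.trace F K (m * B e e) = -1 := by
      obtain ⟨m, hm⟩ := Algebra.trace_surjective F K (-1)
      exact ⟨m / B e e, by rw [div_mul_cancel₀ _ hee, hm]⟩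
    have hye' : B y (m • e) = 0 := by simp [hye]
    have hy'e' : B y' (m • e) = 0 := by simp [hy'e]
    obtain ⟨a₁, ha₁, e₁⟩ := hlines hy0 hy k hye
    obtain ⟨a₂, ha₂, e₂⟩ := hlines hy'0 hy' l hy'e'
    have hfs : ∀ (y : V) (k j : K), B y y = 0 → f (k • y) (j • y) = 0 := fun y k j hy =>
      h.trB_perp_line hy (by simp [hy]) (hsu _ _)
    have hfe : ∀ {y t : V} (k : K), B y y = 0 → B y t = 0 → f (k • y) t = 0 := fun k hy ht => by
      rw [hs]; exact h.trB_perp_line hy ht (hsu _ _)
    refine ⟨g₁ * (a₁ * a₂ * a₁⁻¹ * a₂⁻¹), G.mul_mem hg₁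
      (G.mul_mem (G.mul_mem (G.mul_mem ha₁ ha₂) (G.inv_mem ha₁)) (G.inv_mem ha₂)), fun x => ?_⟩
    have i₁ : ∀ t, a₁.symm t = siegMap f (k • y) (-e) t := fun t => a₁.injective (by
      rw [a₁.apply_symm_apply, e₁, siegMap_add hs (hfs y k k hy) h2 (hfe k hy hye)
        (by rw [map_neg, hfe k hy hye, neg_zero]), add_neg_cancel, siegMap_zero])
    have i₂ : ∀ t, a₂.symm t = siegMap f (l • y') (-(m • e)) t := fun t => a₂.injective (by
      rw [a₂.apply_symm_apply, e₂, siegMap_add hs (hfs y' l l hy') h2 (hfe l hy' hy'e')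
        (by rw [map_neg, hfe l hy' hy'e', neg_zero]), add_neg_cancel, siegMap_zero])
    show g₁ (a₁ (a₂ (a₁.symm (a₂.symm x)))) = _
    have hfem : f e (m • e) = -1 := by simp [f, hm]
    rw [hg₁x, e₁, e₂, i₁, i₂, siegMap_comm hs h2 (hfs y k k hy) (hfs y' l l hy') hfkl (hfe k hy hye)
      (hfe k hy hye') (hfe l hy' hy'e) (hfe l hy' hy'e'), hfem, neg_neg, one_smul,
      siegMap_add hs (hfs y k k hy) h2 (hfe k hy hw₀) hfkl]
    simp [w₀, f]
  obtain ⟨m, hm⟩ := Algebra.trace_surjective F K 1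
  refine hasSieg_all hs h2 (fun g hg => h.isom g hg) h.trB_nondeg
    (a := (1 : K) • u) (b := m • v) ?_ ?_ ?_
    (hpair u v hu0 hv0 hu hv huv he hev 1) (hpair v u hv0 hu0 hv hu hvu hev he m) hx
  · simp [f, hu]
  · simp [f, hv]
  · simp [f, huv, hm]

end Hyp

end CfsgLib.ExtFieldOrth
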