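import Mathlib

/-!
Auxiliary facts: products over a set with a fixed point free permutation of prime order, maximality of
`p`-subgroups from their normalisers, abelian `p'`-groups normalised by a cubic unipotent map, and the
dimension divisibility from two non-commuting elements of order `r` with central commutator.
-/

set_option autoImplicit false
set_option linter.unusedSectionVars false
set_option linter.style.haveILetI false
set_option linter.unusedVariables false
set_option linter.unusedSimpArgs false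

namespace CfsgLib.ExtFieldOrth

open Module

/-- A product invariant under a fixed point free permutation of prime order `p`, of values killed by `p`. -/
lemma prod_eq_one_of_perm {α A : Type*} [Fintype α] [CommGroup A] {p : ℕ} [Fact p.Prime]
    (σ : Equiv.Perm α) (hσ : σ ^ p = 1) (hfree : ∀ x, σ x ≠ x) (ψ : α → A) (hψ : ∀ x, ψ (σ x) = ψ x)
    (hpow : ∀ x, ψ x ^ p = 1) : ∏ x, ψ x = 1 := by
  classical
  rw [← Finset.prod_fiberwise_of_maps_to (g := ψ) (t := Finset.univ.image ψ)
    (fun x _ => Finset.mem_image_of_mem ψ (Finset.mem_univ x)) ψ]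
  refine Finset.prod_eq_one fun b hb => ?_
  rw [Finset.prod_congr rfl (g := fun _ => b) (fun x hx => (Finset.mem_filter.mp hx).2), Finset.prod_const]
  obtain ⟨x₀, -, rfl⟩ := Finset.mem_image.mp hb
  set τ : Equiv.Perm {x // ψ x = ψ x₀} := σ.subtypePerm (fun x => by rw [hψ]) with hτ
  have hτp : τ ^ p ^ 1 = 1 := by
    rw [pow_one, hτ, Equiv.Perm.subtypePerm_pow]
    ext x; simp [hσ]
  have hsupp : τ.supportᶜ = ∅ := by
    ext x
    simp only [Finset.mem_compl, Equiv.Perm.mem_support, not_not, Finset.notMem_empty, iff_false]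
    exact fun e => hfree x (congrArg Subtype.val e)
  have hd : p ∣ Fintype.card {x // ψ x = ψ x₀} := by
    have := Equiv.Perm.card_compl_support_modEq hτp
    rw [hsupp, Finset.card_empty] at this
    exact Nat.modEq_zero_iff_dvd.mp this.symm
  rw [Fintype.card_subtype] at hd
  obtain ⟨j, hj⟩ := hd
  rw [hj, pow_mul, hpow, one_pow]

/-- A `p`-subgroup is contained in a subgroup of it that contains its normaliser there. -/
lemma le_of_normalizer_le {X : Type*} [Group X] [Finite X] {p : ℕ} [Fact p.Prime] {A S : Subgroup X}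
    (hS : IsPGroup p S) (hle : A ≤ S) (h : ∀ w ∈ S, (∀ a ∈ A, w * a * w⁻¹ ∈ A) → w ∈ A) : S ≤ A := by
  by_contra hne
  haveI : Group.IsNilpotent ↥S := hS.isNilpotent
  have hlt : A.subgroupOf S < ⊤ := lt_top_iff_ne_top.mpr fun e => hne (Subgroup.subgroupOf_eq_top.mp e)
  obtain ⟨w, hw, hw1⟩ := SetLike.exists_of_lt (Group.normalizerCondition_of_isNilpotent _ hlt)
  refine hw1 (Subgroup.mem_subgroupOf.mpr (h w w.2 fun a ha => ?_))
  exact (Subgroup.mem_normalizer_iff.mp hw ⟨a, hle ha⟩).mp ha

variable {F V : Type*} [Field F] [AddCommGroup V] [Module F V]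

/-- The action on vectors as a map to endomorphisms. -/
def toEndHom : (V ≃ₗ[F] V) →* Module.End F V where
  toFun g := (g : V →ₗ[F] V)
  map_one' := rfl
  map_mul' _ _ := rfl

lemma toEndHom_injective : Function.Injective (toEndHom (F := F) (V := V)) :=
  fun a b e => LinearEquiv.ext fun x => LinearMap.congr_fun e x

/-- An abelian group of order prime to `p ≥ 5` normalised by a unipotent map of degree three is
centralised by it. -/
theorem commute_of_unipotent {p : ℕ} (hp : p.Prime) [CharP F p] (hp5 : 5 ≤ p) {f : V ≃ₗ[F] V}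
    (hf : (toEndHom f - 1) ^ 3 = 0) (A : Subgroup (V ≃ₗ[F] V)) [Finite A]
    (hA : ∀ a ∈ A, ∀ b ∈ A, a * b = b * a) (hcop : (Nat.card A).Coprime p)
    (hnorm : ∀ a ∈ A, f * a * f⁻¹ ∈ A) : ∀ a ∈ A, f * a = a * f := by
  have h2 : (2 : F) ≠ 0 := fun e => by
    have h := (CharP.cast_eq_zero_iff F p 2).mp (by exact_mod_cast e)
    have := Nat.le_of_dvd two_pos h; omega
  have h3 : (3 : F) ≠ 0 := fun e => by
    have h := (CharP.cast_eq_zero_iff F p 3).mp (by exact_mod_cast e)
    have := Nat.le_of_dvd three_pos h; omega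
  set N := toEndHom f - 1 with hN
  set n := N - (2 : F)⁻¹ • (N * N) with hn
  have hN3 : N * N * N = 0 := by rw [← hf]; noncomm_ring
  have hN3' : N * (N * N) = 0 := by rw [← mul_assoc, hN3]
  have hn2 : n * n = N * N := by
    simp only [hn, mul_sub, sub_mul, smul_mul_assoc, mul_smul_comm, mul_assoc, hN3', mul_zero, smul_zero, sub_zero]
  have hn3 : n * (n * n) = 0 := by
    rw [hn2, hn, sub_mul, smul_mul_assoc, mul_assoc N N, hN3', mul_zero, smul_zero, sub_zero]
  let e : F → Module.End F V := fun i => 1 + i • n + (i * i / 2) • (n * n)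
  have he : ∀ i j, e i * e j = e (i + j) := fun i j => by
    simp only [e, add_mul, mul_add, one_mul, mul_one, smul_mul_assoc, mul_smul_comm, smul_smul, mul_assoc, hn3,
      mul_zero, smul_zero, add_zero]
    match_scalars <;> field_simp <;> ring
  have he0 : e 0 = 1 := by simp [e]
  have hef : toEndHom f = e 1 := by
    simp only [e, hn2]
    rw [hn, show toEndHom f = 1 + N by rw [hN]; abel]
    match_scalars <;> field_simp <;> ring
  have hei : toEndHom f⁻¹ = e (-1) := by
    calc toEndHom f⁻¹ = toEndHom f⁻¹ * (e 1 * e (-1)) := by rw [he, add_neg_cancel, he0, mul_one]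
      _ = e (-1) := by rw [← mul_assoc, ← hef, ← map_mul, inv_mul_cancel, map_one, one_mul]
  have hnorm' : ∀ a ∈ A, f⁻¹ * a * f ∈ A := fun a ha => by
    obtain ⟨⟨b, hb⟩, hba⟩ := (Finite.injective_iff_surjective
      (f := fun a : A => (⟨f * a * f⁻¹, hnorm a a.2⟩ : A))).mp
      (fun x y hxy => Subtype.ext (by simpa using congrArg Subtype.val hxy)) ⟨a, ha⟩
    have : f * b * f⁻¹ = a := congrArg Subtype.val hba
    rw [← this]
    simpa [mul_assoc] using hb
  have key : ∀ a ∈ A, ∀ b ∈ A, Commute (n * toEndHom a - toEndHom a * n) (toEndHom b) := by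
    intro a ha b hb
    have hc : ∀ i : F, ∀ t ∈ A, toEndHom t = e i * toEndHom a * e (-i) →
        Commute (e i * toEndHom a * e (-i)) (toEndHom b) := fun i t ht htd => by
      rw [← htd]; exact (show Commute t b from hA t ht b hb).map toEndHom
    have c1 := hc 1 _ (hnorm a ha) (by rw [map_mul, map_mul, hef, hei])
    have c1' := hc (-1) _ (hnorm' a ha) (by rw [map_mul, map_mul, hef, hei, neg_neg])
    have c2 := hc 2 _ (hnorm _ (hnorm a ha)) (by
      simp only [map_mul, hef, hei]
      rw [show (2 : F) = 1 + 1 by norm_num, ← he, neg_add, ← he]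
      simp only [mul_assoc])
    have c2' := hc (-2) _ (hnorm' _ (hnorm' a ha)) (by
      simp only [map_mul, hef, hei]
      rw [show (-2 : F) = -1 + -1 by norm_num, ← he, neg_add, neg_neg, ← he]
      simp only [mul_assoc])
    have e12 : (12 : F) • (n * toEndHom a - toEndHom a * n) =
        (8 : F) • (e 1 * toEndHom a * e (-1) - e (-1) * toEndHom a * e (- -1)) -
          (e 2 * toEndHom a * e (-2) - e (-2) * toEndHom a * e (- -2)) := by
      simp only [e, add_mul, mul_add, one_mul, mul_one, smul_mul_assoc, mul_smul_comm, smul_smul, mul_assoc]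
      match_scalars <;> field_simp <;> ring
    have h12 : (12 : F) ≠ 0 := by
      rw [show (12 : F) = 2 * 2 * 3 by norm_num]; exact mul_ne_zero (mul_ne_zero h2 h2) h3
    have : Commute ((12 : F) • (n * toEndHom a - toEndHom a * n)) (toEndHom b) := by
      rw [e12]; exact ((c1.sub_left c1').smul_left _).sub_left (c2.sub_left c2')
    have := this.smul_left ((12 : F)⁻¹)
    rwa [smul_smul, inv_mul_cancel₀ h12, one_smul] at this
  have hder : ∀ b ∈ A, ∀ k : ℕ, n * toEndHom b ^ (k + 1) =
      toEndHom b ^ (k + 1) * n + (k + 1 : F) • (toEndHom b ^ k * (n * toEndHom b - toEndHom b * n)) := by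
    intro b hb k
    induction k with
    | zero => simp
    | succ k ih =>
      rw [pow_succ _ (k + 1), ← mul_assoc, ih, add_mul, smul_mul_assoc, mul_assoc (toEndHom b ^ k),
        (key b hb b hb).eq, ← mul_assoc _ (toEndHom b), ← pow_succ, mul_assoc (toEndHom b ^ (k + 1)) n]
      simp only [mul_sub, mul_assoc]
      push_cast
      module
  have hfin : ∀ a ∈ A, Commute n (toEndHom a) := by
    intro a ha
    obtain ⟨b, hb⟩ := (powCoprime hcop).surjective ⟨a, ha⟩
    have e1 := hder b b.2 (p - 1)
    rw [show ((p - 1 : ℕ) : F) + 1 = ((p - 1 + 1 : ℕ) : F) by push_cast; ring, Nat.sub_add_cancel hp.one_le,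
      CharP.cast_eq_zero, zero_smul, add_zero, ← map_pow] at e1
    have e2 : (b : V ≃ₗ[F] V) ^ p = a := by simpa using congrArg Subtype.val hb
    rw [e2] at e1
    exact e1
  intro a ha
  refine toEndHom_injective ?_
  rw [map_mul, map_mul, hef]
  have hc1 := hfin a ha
  exact (((Commute.one_left _).add_left (hc1.smul_left _)).add_left ((hc1.mul_left hc1).smul_left _)).eq

section Dim

variable [FiniteDimensional F V]

/-- The fixed space and the kernel of the norm of an element of order prime to the characteristic. -/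
theorem finrank_ker_sum_add {r : ℕ} (hrF : (r : F) ≠ 0) {c : V ≃ₗ[F] V} (hc : c ^ r = 1) :
    finrank F (LinearMap.ker (∑ a ∈ Finset.range r, toEndHom (c ^ a))) +
      finrank F (LinearMap.ker ((c : V →ₗ[F] V) - 1)) = finrank F V := by
  set S := ∑ a ∈ Finset.range r, toEndHom (c ^ a) with hS
  have hrange : LinearMap.range S = LinearMap.ker ((c : V →ₗ[F] V) - 1) := by
    refine le_antisymm ?_ fun x hx => ?_
    · rintro _ ⟨x, rfl⟩
      rw [LinearMap.mem_ker, LinearMap.sub_apply, Module.End.one_apply, sub_eq_zero, hS, LinearMap.sum_apply]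
      show c (∑ a ∈ Finset.range r, (c ^ a) x) = ∑ a ∈ Finset.range r, (c ^ a) x
      rw [map_sum]
      have h1 : ∑ a ∈ Finset.range r, (c ^ (a + 1)) x = ∑ a ∈ Finset.range r, (c ^ a) x := by
        have e1 := Finset.sum_range_succ' (fun a => (c ^ a) x) r
        have e2 := Finset.sum_range_succ (fun a => (c ^ a) x) r
        rw [e2, hc, pow_zero] at e1
        exact (add_right_cancel e1).symm
      simpa [pow_succ'] using h1
    · have hfix : c x = x := sub_eq_zero.mp (LinearMap.mem_ker.mp hx)
      have hpow : ∀ a : ℕ, (c ^ a) x = x := fun a => by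
        induction a with
        | zero => rfl
        | succ a ih => rw [pow_succ', LinearEquiv.mul_apply, ih, hfix]
      refine ⟨(r : F)⁻¹ • x, ?_⟩
      rw [map_smul, hS, LinearMap.sum_apply]
      show (r : F)⁻¹ • ∑ a ∈ Finset.range r, (c ^ a) x = x
      simp only [hpow, Finset.sum_const, Finset.card_range]
      rw [← Nat.cast_smul_eq_nsmul F, smul_smul, inv_mul_cancel₀ hrF, one_smul]
  rw [← hrange, add_comm]
  exact S.finrank_range_add_finrank_ker

/-- Two elements of order `r` with central commutator `c`: the kernel of the norm of `c` has dimension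
divisible by `r`. -/
theorem dvd_finrank_ker_sum {r : ℕ} (hr : r.Prime) (hrF : (r : F) ≠ 0) {c z w : V ≃ₗ[F] V}
    (hc : c ^ r = 1) (hz : z ^ r = 1) (hcz : Commute c z) (hcw : Commute c w) (hwz : w * z = c * z * w) :
    r ∣ finrank F (LinearMap.ker (∑ a ∈ Finset.range r, toEndHom (c ^ a))) := by
  classical
  set S := ∑ a ∈ Finset.range r, toEndHom (c ^ a) with hS
  have hSx : ∀ x, S x = ∑ a ∈ Finset.range r, (c ^ a) x := fun x => by rw [hS, LinearMap.sum_apply]; rfl
  have hrot : ∀ (g : V ≃ₗ[F] V), g ^ r = 1 → ∀ x,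
      g (∑ a ∈ Finset.range r, (g ^ a) x) = ∑ a ∈ Finset.range r, (g ^ a) x := by
    intro g hg x
    rw [map_sum]
    have h1 : ∑ a ∈ Finset.range r, (g ^ (a + 1)) x = ∑ a ∈ Finset.range r, (g ^ a) x := by
      have e1 := Finset.sum_range_succ' (fun a => (g ^ a) x) r
      have e2 := Finset.sum_range_succ (fun a => (g ^ a) x) r
      rw [e2, hg, pow_zero] at e1
      exact (add_right_cancel e1).symm
    simpa [pow_succ'] using h1
  have hperm : ∀ s : ℕ, ¬ r ∣ s → ∀ x, ∑ a ∈ Finset.range r, (c ^ (s * a)) x = S x := by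
    intro s hs x
    rw [hSx]
    have hinj : Set.InjOn (fun a => s * a % r) ↑(Finset.range r) := fun a ha a' ha' e =>
      Nat.ModEq.eq_of_lt_of_lt (Nat.ModEq.cancel_left_of_coprime (hr.coprime_iff_not_dvd.mpr hs) e)
        (Finset.mem_range.mp ha) (Finset.mem_range.mp ha')
    have himg : (Finset.range r).image (fun a => s * a % r) = Finset.range r := by
      refine Finset.eq_of_subset_of_card_le ?_ (by rw [Finset.card_image_of_injOn hinj])
      intro b hb
      obtain ⟨a, -, rfl⟩ := Finset.mem_image.mp hb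
      exact Finset.mem_range.mpr (Nat.mod_lt _ hr.pos)
    conv_rhs => rw [← himg, Finset.sum_image hinj]
    exact Finset.sum_congr rfl fun a _ => by rw [← pow_eq_pow_mod _ hc]
  set π : ℕ → V → V := fun j x => (r : F)⁻¹ • ∑ a ∈ Finset.range r, ((c ^ j * z) ^ a) x with hπ
  have hgr : ∀ j, (c ^ j * z) ^ r = 1 := fun j => by
    rw [(hcz.pow_left j).mul_pow, hz, mul_one, ← pow_mul, mul_comm, pow_mul, hc, one_pow]
  have hπfix : ∀ j x, (c ^ j * z) (π j x) = π j x := fun j x => by
    simp only [hπ, map_smul, hrot _ (hgr j)]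
  have hScomm : ∀ g : V ≃ₗ[F] V, Commute c g → ∀ x, S (g x) = g (S x) := fun g hg x => by
    simp only [hSx, map_sum]
    exact Finset.sum_congr rfl fun a _ => by
      rw [← LinearEquiv.mul_apply, ← LinearEquiv.mul_apply, (hg.pow_left a).eq]
  have hπker : ∀ j x, S x = 0 → S (π j x) = 0 := fun j x hx => by
    simp only [hπ, map_smul, map_sum]
    rw [Finset.sum_eq_zero fun a _ => ?_, smul_zero]
    rw [hScomm _ ((((Commute.refl c).pow_right j).mul_right hcz).pow_right a), hx, map_zero]
  have hwj : ∀ j : ℕ, w ^ j * z = c ^ j * z * w ^ j := by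
    intro j
    induction j with
    | zero => simp
    | succ j ih =>
      rw [pow_succ' w, mul_assoc, ih, ← mul_assoc, ← mul_assoc, ← (hcw.pow_left j).eq, mul_assoc (c ^ j) w, hwz,
        pow_succ c]
      simp only [mul_assoc]
  let W₀ : Submodule F V := LinearMap.ker S ⊓ LinearMap.ker ((z : V →ₗ[F] V) - 1)
  have hback : ∀ (j : ℕ) x, S x = 0 → (w ^ j)⁻¹ (π j x) ∈ W₀ := fun j x hx => by
    refine ⟨?_, ?_⟩
    · rw [SetLike.mem_coe, LinearMap.mem_ker, hScomm _ (hcw.pow_right j).inv_right, hπker j x hx, map_zero]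
    · rw [SetLike.mem_coe, LinearMap.mem_ker, LinearMap.sub_apply, Module.End.one_apply, sub_eq_zero]
      refine (w ^ j).injective ?_
      show (w ^ j * z) ((w ^ j)⁻¹ (π j x)) = (w ^ j) ((w ^ j)⁻¹ (π j x))
      rw [hwj, LinearEquiv.mul_apply]
      simp only [← LinearEquiv.mul_apply (w ^ j), mul_inv_cancel, LinearEquiv.coe_one, id_eq]
      exact hπfix j x
  have hsum : ∀ x, S x = 0 → ∑ j ∈ Finset.range r, π j x = x := fun x hx => by
    simp only [hπ, ← Finset.smul_sum]
    rw [Finset.sum_comm, Finset.sum_eq_single 0]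
    · simp only [pow_zero, LinearEquiv.coe_one, id_eq, Finset.sum_const, Finset.card_range]
      rw [← Nat.cast_smul_eq_nsmul F, smul_smul, inv_mul_cancel₀ hrF, one_smul]
    · intro a ha ha0
      have hnd : ¬ r ∣ a := fun hd => by
        have := Nat.le_of_dvd (Nat.pos_of_ne_zero ha0) hd
        have := Finset.mem_range.mp ha; omega
      calc _ = ∑ j ∈ Finset.range r, (c ^ (a * j)) ((z ^ a) x) := Finset.sum_congr rfl fun j _ => by
            rw [(hcz.pow_left j).mul_pow, ← pow_mul, mul_comm a]; rfl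
        _ = 0 := by rw [hperm a hnd, hScomm _ (hcz.pow_right a), hx, map_zero]
    · intro hh; exact absurd (Finset.mem_range.mpr hr.pos) hh
  have horth : ∀ (l j : ℕ) y, l < r → j < r → y ∈ W₀ → π l ((w ^ j) y) = if l = j then (w ^ j) y else 0 := by
    intro l j y hl hj hy
    have hy1 : S y = 0 := hy.1
    have hy2 : z y = y := sub_eq_zero.mp hy.2
    set x := (w ^ j) y with hx
    have hxfix : ∀ a : ℕ, ((c ^ j * z) ^ a) x = x := fun a => by
      induction a with
      | zero => rfl
      | succ a ih =>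
        rw [pow_succ, LinearEquiv.mul_apply,
          show (c ^ j * z) x = x by rw [hx, ← LinearEquiv.mul_apply, ← hwj, LinearEquiv.mul_apply, hy2], ih]
    have hxker : S x = 0 := by rw [hx, hScomm _ (hcw.pow_right j), hy1, map_zero]
    have hpow : ∀ a : ℕ, ((c ^ l * z) ^ a) x = (c ^ ((l + r - j) * a)) x := fun a => by
      have e : c ^ l * z = c ^ (l + r - j) * (c ^ j * z) := by
        rw [← mul_assoc, ← pow_add, Nat.sub_add_cancel (by omega), pow_add, hc, mul_one]
      rw [e, ((((Commute.refl c).pow_left (l + r - j)).pow_right j).mul_right (hcz.pow_left _)).mul_pow,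
        LinearEquiv.mul_apply, hxfix, ← pow_mul]
    show (r : F)⁻¹ • _ = _
    simp only [hpow]
    split
    · next e =>
      subst e
      simp only [Nat.add_sub_cancel_left, pow_mul, hc, one_pow, LinearEquiv.coe_one, id_eq, Finset.sum_const,
        Finset.card_range]
      rw [← Nat.cast_smul_eq_nsmul F, smul_smul, inv_mul_cancel₀ hrF, one_smul]
    · next e =>
      rw [hperm _ (fun ⟨t, ht⟩ => e (by
        rcases t with _ | _ | t
        · omega
        · omega
        · exfalso; rw [Nat.mul_add, Nat.mul_add, mul_one] at ht; omega)), hxker, smul_zero]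
  let Φ : ↥(LinearMap.ker S) →ₗ[F] (Fin r → ↥W₀) :=
    { toFun := fun x j => ⟨_, hback j x x.2⟩
      map_add' := fun x y => funext fun j => Subtype.ext (by
        simp [hπ, Finset.sum_add_distrib])
      map_smul' := fun a x => funext fun j => Subtype.ext (by
        simp [hπ, ← Finset.smul_sum, smul_comm a]) }
  let Ψ : (Fin r → ↥W₀) →ₗ[F] ↥(LinearMap.ker S) :=
    { toFun := fun y => ⟨∑ j : Fin r, (w ^ (j : ℕ)) (y j : V), by
        rw [LinearMap.mem_ker, map_sum]
        exact Finset.sum_eq_zero fun j _ => by rw [hScomm _ (hcw.pow_right _), (y j).2.1, map_zero]⟩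
      map_add' := fun x y => Subtype.ext (by simp [Finset.sum_add_distrib])
      map_smul' := fun a x => Subtype.ext (by simp [Finset.smul_sum]) }
  have h1 : Ψ ∘ₗ Φ = LinearMap.id := LinearMap.ext fun x => Subtype.ext (by
    show ∑ j : Fin r, (w ^ (j : ℕ)) ((w ^ (j : ℕ))⁻¹ (π j x)) = _
    simp only [← LinearEquiv.mul_apply, mul_inv_cancel, LinearEquiv.coe_one, id_eq]
    rw [Fin.sum_univ_eq_sum_range (fun j => π j x)]
    exact hsum x x.2)
  have hπadd : ∀ l (x y : V), π l (x + y) = π l x + π l y := fun l x y => by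
    simp [hπ, Finset.sum_add_distrib]
  have h2 : Φ ∘ₗ Ψ = LinearMap.id := LinearMap.ext fun y => funext fun l => Subtype.ext (by
    show (w ^ (l : ℕ))⁻¹ (π l (∑ j : Fin r, (w ^ (j : ℕ)) (y j : V))) = _
    let πh : V →+ V := AddMonoidHom.mk' (π (l : ℕ)) (hπadd _)
    rw [show π (l : ℕ) (∑ j : Fin r, (w ^ (j : ℕ)) (y j : V)) = ∑ j : Fin r, π (l : ℕ) ((w ^ (j : ℕ)) (y j : V))
      from map_sum πh _ _]
    rw [Finset.sum_eq_single l (fun j _ hjl => by
      rw [horth _ _ _ l.2 j.2 (y j).2, if_neg (fun e => hjl (Fin.ext e.symm))]) (by simp),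
      horth _ _ _ l.2 l.2 (y l).2, if_pos rfl]
    exact (w ^ (l : ℕ)).symm_apply_apply _)
  rw [(LinearEquiv.ofLinearMap Φ Ψ h2 h1).finrank_eq, Module.finrank_pi_fintype]
  simp

end Dim

end CfsgLib.ExtFieldOrth
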