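import Mathlib

/-!
A group of linear maps of a nine-dimensional space of class two with centre generated by an element of
order three fixing a three-dimensional space has no automorphism of prime order at least five fixing
only that centre: its cosets give independent operators.
-/

set_option autoImplicit false
set_option linter.unusedSectionVars false
set_option linter.unusedVariables false
set_option maxHeartbeats 400000

namespace CfsgLib.ExtFieldOrth

open Module

variable {F V : Type*} [Field F] [AddCommGroup V] [Module F V] [FiniteDimensional F V]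
variable {X : Type*} [Group X] [Finite X] (ρ : X →* (V ≃ₗ[F] V))

private abbrev toEnd (x : X) : Module.End F V := ((ρ x : V ≃ₗ[F] V) : V →ₗ[F] V)

private lemma toEnd_mul (x y : X) : toEnd ρ (x * y) = toEnd ρ x * toEnd ρ y := by
  simp only [toEnd, map_mul]; rfl

private lemma toEnd_one : toEnd ρ 1 = 1 := by simp only [toEnd, map_one]; rfl

/-- Operators from distinct cosets with coefficients in the algebra of the central element are
independent. -/
private lemma coset_indep (h3 : (3 : F) ≠ 0) {c : X} (hc : orderOf c = 3) (T : Subgroup X)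
    (hctr : ∀ x ∈ T, Commute c x)
    (hcomm : ∀ x ∈ T, ∀ y ∈ T, x * y * x⁻¹ * y⁻¹ ∈ Subgroup.zpowers c)
    (hcen : ∀ x ∈ T, (∀ y ∈ T, x * y = y * x) → x ∈ Subgroup.zpowers c)
    {Q : Type*} (s : Q → X) (hsT : ∀ q, s q ∈ T)
    (hs : ∀ q q', q ≠ q' → (s q)⁻¹ * s q' ∉ Subgroup.zpowers c) :
    ∀ (S : Finset Q) (w : Q → Module.End F V), (∀ q, w q ∈ Algebra.adjoin F {toEnd ρ c}) →
      ∑ q ∈ S, toEnd ρ (s q) * w q * (toEnd ρ c - 1) = 0 → ∀ q ∈ S, w q * (toEnd ρ c - 1) = 0 := by
  classical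
  set C := toEnd ρ c
  set D := C - 1 with hD
  have hcomA : ∀ w ∈ Algebra.adjoin F {C}, ∀ x, Commute (toEnd ρ x) C → Commute (toEnd ρ x) w := by
    intro w hw x hx
    refine Algebra.adjoin_induction (fun a ha => ?_) (fun r => ?_) (fun a b _ _ ha hb => ha.add_right hb)
      (fun a b _ _ ha hb => ha.mul_right hb) hw
    · rw [Set.mem_singleton_iff.mp ha]; exact hx
    · exact (Algebra.commutes r _).symm
  have hinv : ∀ x, toEnd ρ x⁻¹ * toEnd ρ x = 1 := fun x => by rw [← toEnd_mul, inv_mul_cancel, toEnd_one]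
  -- vectors moved and fixed
  have hmeet : ∀ y : V, C (D y) = D y → D y = 0 := by
    intro y hy
    have hC3 : C (C (C y)) = y := by
      have : toEnd ρ (c ^ 3) = 1 := by rw [← hc, pow_orderOf_eq_one, toEnd_one]
      rw [pow_succ, pow_succ, pow_one, toEnd_mul, toEnd_mul] at this
      exact LinearMap.congr_fun this y
    simp only [hD, LinearMap.sub_apply, Module.End.one_apply, map_sub] at hy ⊢
    have h1 : (3 : F) • (C y - y) = 0 := by
      have e2 := congrArg C hy
      simp only [map_sub, hC3] at e2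
      linear_combination (norm := module) -(2 : F) • hy - e2
    exact (smul_eq_zero.mp h1).resolve_left h3
  have hgen : ∀ k ∈ Subgroup.zpowers c, k ≠ 1 → c ∈ Subgroup.zpowers k := by
    intro k hk hk1
    obtain ⟨i, rfl⟩ := hk
    have hi : ¬ (3 : ℤ) ∣ i := fun ⟨j, hj⟩ => hk1 (by
      show c ^ i = 1
      rw [hj, zpow_mul, show c ^ (3 : ℤ) = 1 by rw [show (3 : ℤ) = ((3 : ℕ) : ℤ) from rfl, zpow_natCast, ← hc,
        pow_orderOf_eq_one], one_zpow])
    have hpow : ∀ a : ℤ, c ^ a = c ^ (a % 3) := fun a => by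
      have := (zpow_mod_orderOf c a).symm; rwa [hc] at this
    rcases (show i % 3 = 1 ∨ i % 3 = 2 by omega) with h | h
    · exact ⟨1, by show (c ^ i) ^ (1 : ℤ) = c; rw [zpow_one, hpow, h, zpow_one]⟩
    · exact ⟨2, by show (c ^ i) ^ (2 : ℤ) = c; rw [← zpow_mul, hpow, show i * 2 % 3 = 1 by omega, zpow_one]⟩
  intro S
  induction S using Finset.strongInduction with
  | _ S ih =>
    intro w hw hsum q hq
    by_cases hone : S = {q}
    · subst hone
      rw [Finset.sum_singleton, mul_assoc] at hsum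
      calc w q * D = toEnd ρ (s q)⁻¹ * toEnd ρ (s q) * (w q * D) := by rw [hinv, one_mul]
        _ = 0 := by rw [mul_assoc, hsum, mul_zero]
    obtain ⟨q₀, hq₀, hne⟩ : ∃ q₀ ∈ S, q₀ ≠ q := by
      by_contra hh
      simp only [not_exists, not_and, not_not] at hh
      exact hone (Finset.eq_singleton_iff_unique_mem.mpr ⟨hq, hh⟩)
    -- a member distinguishing the two cosets
    obtain ⟨y, hy, hyne⟩ : ∃ y ∈ T, (s q₀)⁻¹ * s q * y ≠ y * ((s q₀)⁻¹ * s q) := by
      by_contra hh
      simp only [not_exists, not_and, not_not] at hh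
      exact hs q₀ q hne (hcen _ (T.mul_mem (T.inv_mem (hsT _)) (hsT _)) hh)
    let k : Q → X := fun q => y * s q * y⁻¹ * (s q)⁻¹
    have hk : ∀ q, k q ∈ Subgroup.zpowers c := fun q => hcomm y hy _ (hsT q)
    have hkc : ∀ q, ∀ x ∈ T, Commute (k q) x := fun q x hx => by
      obtain ⟨i, hi⟩ := hk q
      change c ^ i = k q at hi
      rw [← hi]; exact (hctr x hx).zpow_left i
    have hkT : ∀ q, k q ∈ T := fun q => T.mul_mem (T.mul_mem (T.mul_mem hy (hsT q)) (T.inv_mem hy)) (T.inv_mem (hsT q))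
    have hkA : ∀ q, toEnd ρ (k q) ∈ Algebra.adjoin F {C} := fun q => by
      obtain ⟨i, hi⟩ := (mem_powers_iff_mem_zpowers.mpr (hk q) : k q ∈ Submonoid.powers c)
      change c ^ i = k q at hi
      rw [← hi]
      clear hi
      induction i with
      | zero => rw [pow_zero, toEnd_one]; exact one_mem _
      | succ i ih' => rw [pow_succ, toEnd_mul]; exact mul_mem ih' (Algebra.subset_adjoin rfl)
    have hcC : ∀ x ∈ T, Commute (toEnd ρ x) C := fun x hx => by
      show toEnd ρ x * toEnd ρ c = toEnd ρ c * toEnd ρ x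
      rw [← toEnd_mul, ← toEnd_mul, (hctr x hx).eq]
    have hkk : k q ≠ k q₀ := fun e => hyne (by
      have e' : y * s q * y⁻¹ * (s q)⁻¹ = y * s q₀ * y⁻¹ * (s q₀)⁻¹ := e
      calc (s q₀)⁻¹ * s q * y = (s q₀)⁻¹ * (y * s q * y⁻¹ * (s q)⁻¹)⁻¹ * (y * s q) := by group
        _ = (s q₀)⁻¹ * (y * s q₀ * y⁻¹ * (s q₀)⁻¹)⁻¹ * (y * s q) := by rw [e']
        _ = y * ((s q₀)⁻¹ * s q) := by group)
    let w' : Q → Module.End F V := fun q => w q * (toEnd ρ (k q) - toEnd ρ (k q₀))
    have hw' : ∀ q, w' q ∈ Algebra.adjoin F {C} := fun q => mul_mem (hw q) (sub_mem (hkA q) (hkA q₀))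
    have hsum' : ∑ q ∈ S.erase q₀, toEnd ρ (s q) * w' q * D = 0 := by
      have hterm : ∀ q, toEnd ρ (s q) * w' q * D =
          toEnd ρ y * (toEnd ρ (s q) * w q * D) * toEnd ρ y⁻¹ - toEnd ρ (k q₀) * (toEnd ρ (s q) * w q * D) := by
        intro q
        have c1 : Commute (toEnd ρ y⁻¹) (w q * D) :=
          ((hcomA _ (hw q) _ (hcC _ (T.inv_mem hy))).mul_right ((hcC _ (T.inv_mem hy)).sub_right (Commute.one_right _)))
        have c2 : ∀ q', Commute (toEnd ρ (k q')) (w q) := fun q' => hcomA _ (hw q) _ (hcC _ (hkT q'))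
        have c3 : ∀ q', Commute (toEnd ρ (k q')) (toEnd ρ (s q)) := fun q' => by
          show toEnd ρ (k q') * toEnd ρ (s q) = _
          rw [← toEnd_mul, ← toEnd_mul, (hkc q' _ (hsT q)).eq]
        have cd : Commute (toEnd ρ (k q) - toEnd ρ (k q₀)) (toEnd ρ (s q) * w q) :=
          ((c3 q).sub_left (c3 q₀)).mul_right ((c2 q).sub_left (c2 q₀))
        have hks : k q * s q = y * s q * y⁻¹ := by simp only [k]; group
        calc toEnd ρ (s q) * w' q * D
            = (toEnd ρ (k q) - toEnd ρ (k q₀)) * (toEnd ρ (s q) * w q) * D := by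
              rw [cd.eq]; simp only [w', mul_assoc]
          _ = toEnd ρ (k q * s q) * (w q * D) - toEnd ρ (k q₀) * (toEnd ρ (s q) * w q * D) := by
              simp only [toEnd_mul, sub_mul, mul_assoc]
          _ = _ := by
              rw [hks]
              simp only [toEnd_mul, mul_assoc]
              rw [c1.eq, mul_assoc]
      rw [Finset.sum_erase _ (by simp [w'])]
      simp only [hterm, Finset.sum_sub_distrib, ← Finset.mul_sum, ← Finset.sum_mul, hsum, mul_zero, zero_mul, sub_zero]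
    have hq' : w' q * D = 0 := ih _ (Finset.erase_ssubset hq₀) w' hw' hsum' q (Finset.mem_erase.mpr ⟨hne.symm, hq⟩)
    have hwq : w q * D = 0 := by
      refine LinearMap.ext fun v => ?_
      have hDw : ∀ z, w q (D z) = D (w q z) := fun z => by
        have hc' := ((hcomA _ (hw q) _ (Commute.refl C)).sub_left (Commute.one_left _)).eq
        exact (LinearMap.congr_fun hc' z).symm
      show w q (D v) = 0
      rw [hDw]
      refine hmeet _ ?_
      set z := D (w q v) with hz
      have hkz : toEnd ρ ((k q₀)⁻¹ * k q) z = z := by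
        have e := LinearMap.congr_fun hq' v
        simp only [w', Module.End.mul_apply, LinearMap.sub_apply, LinearMap.zero_apply, map_sub] at e
        have hk' : ∀ q', w q (toEnd ρ (k q') (D v)) = toEnd ρ (k q') z := fun q' => by
          rw [hz, ← hDw]
          have := hcomA _ (hw q) (k q') (hcC _ (hkT q'))
          exact (LinearMap.congr_fun this.eq (D v)).symm
        rw [hk', hk', sub_eq_zero] at e
        show toEnd ρ ((k q₀)⁻¹ * k q) z = z
        rw [toEnd_mul, Module.End.mul_apply, e, ← Module.End.mul_apply, hinv]; rfl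
      obtain ⟨i, hi⟩ := hgen _ (mul_mem (inv_mem (hk q₀)) (hk q)) (fun e => hkk (inv_mul_eq_one.mp e).symm)
      change _ ^ i = c at hi
      show (ρ c) z = z
      rw [← hi, map_zpow]
      exact MulAction.mem_stabilizer_iff.mp
        (zpow_mem (MulAction.mem_stabilizer_iff.mpr hkz : ρ ((k q₀)⁻¹ * k q) ∈ MulAction.stabilizer (V ≃ₗ[F] V) z) i)
    exact hwq

/-- At most eighteen cosets. -/
private lemma two_mul_index_le (h3 : (3 : F) ≠ 0) (hdim : finrank F V = 9) {c : X} (hc : orderOf c = 3)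
    (hfix : finrank F (LinearMap.ker (toEnd ρ c - 1)) = 3)
    (hscal : ∀ l : F, ∃ x, ρ c (ρ c x - x) ≠ l • (ρ c x - x))
    (T : Subgroup X) (hctr : ∀ x ∈ T, Commute c x)
    (hcomm : ∀ x ∈ T, ∀ y ∈ T, x * y * x⁻¹ * y⁻¹ ∈ Subgroup.zpowers c)
    (hcen : ∀ x ∈ T, (∀ y ∈ T, x * y = y * x) → x ∈ Subgroup.zpowers c)
    {Q : Type*} [Fintype Q] (s : Q → X) (hsT : ∀ q, s q ∈ T)
    (hs : ∀ q q', q ≠ q' → (s q)⁻¹ * s q' ∉ Subgroup.zpowers c) : 2 * Fintype.card Q ≤ 36 := by
  classical
  have hV'dim : finrank F (LinearMap.range (toEnd ρ c - 1)) = 6 := by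
    have h := LinearMap.finrank_range_add_finrank_ker (toEnd ρ c - 1)
    rw [hdim, hfix] at h
    omega
  let op : Q → F × F →ₗ[F] Module.End F V := fun q =>
    (LinearMap.mulRight F (toEnd ρ c - 1)) ∘ₗ (LinearMap.mulLeft F (toEnd ρ (s q))) ∘ₗ
      ((LinearMap.toSpanSingleton F _ (1 : Module.End F V)).coprod (LinearMap.toSpanSingleton F _ (toEnd ρ c)))
  have hop : ∀ q a, op q a = toEnd ρ (s q) * (a.1 • 1 + a.2 • toEnd ρ c) * (toEnd ρ c - 1) := fun q a => rfl
  let Φ : (Q → F × F) →ₗ[F] Module.End F V := ∑ q, (op q).comp (LinearMap.proj q)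
  have hΦa : ∀ a, Φ a = ∑ q, op q (a q) := fun a => by simp [Φ]
  have hΦ : Function.Injective Φ := (injective_iff_map_eq_zero Φ).mpr fun a ha => by
    funext q
    rw [hΦa] at ha
    simp only [hop] at ha
    have hmem : ∀ q, (a q).1 • (1 : Module.End F V) + (a q).2 • toEnd ρ c ∈ Algebra.adjoin F {toEnd ρ c} :=
      fun q => by
        have m1 : (1 : Module.End F V) ∈ Algebra.adjoin F {toEnd ρ c} := one_mem _
        have m2 : toEnd ρ c ∈ Algebra.adjoin F {toEnd ρ c} := Algebra.subset_adjoin (Set.mem_singleton _)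
        exact add_mem (Subalgebra.smul_mem _ m1 _) (Subalgebra.smul_mem _ m2 _)
    have h1 := coset_indep ρ h3 hc T hctr hcomm hcen s hsT hs Finset.univ
      (fun q => (a q).1 • (1 : Module.End F V) + (a q).2 • toEnd ρ c) hmem ha q (Finset.mem_univ q)
    have hb : (a q).2 = 0 := by
      by_contra hb
      obtain ⟨x, hx⟩ := hscal (-((a q).1 / (a q).2))
      refine hx (smul_right_injective V hb ?_)
      have e := LinearMap.congr_fun h1 x
      change (a q).1 • (ρ c x - x) + (a q).2 • ρ c (ρ c x - x) = 0 at e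
      show (a q).2 • ρ c (ρ c x - x) = (a q).2 • ((-((a q).1 / (a q).2)) • (ρ c x - x))
      rw [smul_smul, mul_neg, mul_div_cancel₀ _ hb, neg_smul]
      exact eq_neg_of_add_eq_zero_right e
    have ha1 : (a q).1 = 0 := by
      by_contra ha1
      obtain ⟨x, hx⟩ := hscal 0
      refine hx ?_
      have e := LinearMap.congr_fun h1 x
      change (a q).1 • (ρ c x - x) + (a q).2 • ρ c (ρ c x - x) = 0 at e
      rw [hb, zero_smul, add_zero, smul_eq_zero] at e
      rw [e.resolve_left ha1, map_zero, smul_zero]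
    exact Prod.ext ha1 hb
  let L : (LinearMap.range (toEnd ρ c - 1) →ₗ[F] LinearMap.range (toEnd ρ c - 1)) →ₗ[F] Module.End F V :=
    (LinearMap.llcomp F V _ V (LinearMap.range (toEnd ρ c - 1)).subtype) ∘ₗ
      LinearMap.lcomp F _ (toEnd ρ c - 1).rangeRestrict
  have hrange : LinearMap.range Φ ≤ LinearMap.range L := by
    rintro _ ⟨a, rfl⟩
    rw [hΦa]
    refine sum_mem fun q _ => ?_
    set Y := toEnd ρ (s q) * ((a q).1 • 1 + (a q).2 • toEnd ρ c) with hY
    have hc1 : Commute (toEnd ρ c - 1) Y := by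
      refine Commute.sub_left (Commute.mul_right ?_ ?_) (Commute.one_left _)
      · show toEnd ρ c * toEnd ρ (s q) = _
        rw [← toEnd_mul, ← toEnd_mul, (hctr _ (hsT q)).eq]
      · exact ((Commute.one_right _).smul_right _).add_right ((Commute.refl _).smul_right _)
    have hmaps : ∀ v ∈ LinearMap.range (toEnd ρ c - 1), Y v ∈ LinearMap.range (toEnd ρ c - 1) := by
      rintro _ ⟨y, rfl⟩
      exact ⟨Y y, LinearMap.congr_fun hc1.eq y⟩
    exact ⟨Y.restrict hmaps, LinearMap.ext fun v => rfl⟩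
  have h1 := LinearMap.finrank_range_of_inj hΦ
  have h2 := (Submodule.finrank_mono hrange).trans (LinearMap.finrank_range_le L)
  rw [h1, Module.finrank_pi_fintype] at h2
  simp only [Module.finrank_prod, Module.finrank_self, Module.finrank_linearMap, hV'dim, Finset.sum_const,
    Finset.card_univ, smul_eq_mul] at h2
  omega

/-- See the module docstring. -/
theorem le_zpowers_of_fixed_free (hρ : Function.Injective ρ) (h3 : (3 : F) ≠ 0) (hdim : finrank F V = 9) {c : X}
    (hc : orderOf c = 3) (hfix : finrank F (LinearMap.ker (((ρ c : V ≃ₗ[F] V) : V →ₗ[F] V) - 1)) = 3)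
    (hscal : ∀ l : F, ∃ x, ρ c (ρ c x - x) ≠ l • (ρ c x - x))
    (T : Subgroup X) (hT : IsPGroup 3 T) (hcT : c ∈ T) (hctr : ∀ x ∈ T, Commute c x)
    (hcomm : ∀ x ∈ T, ∀ y ∈ T, x * y * x⁻¹ * y⁻¹ ∈ Subgroup.zpowers c)
    (hcen : ∀ x ∈ T, (∀ y ∈ T, x * y = y * x) → x ∈ Subgroup.zpowers c)
    {f : X} {p : ℕ} [Fact p.Prime] (hp5 : 5 ≤ p) (hfp : f ^ p = 1) (hfT : ∀ x ∈ T, f * x * f⁻¹ ∈ T)
    (hfc : Commute f c) (hfixT : ∀ x ∈ T, f * x = x * f → x ∈ Subgroup.zpowers c) :
    T ≤ Subgroup.zpowers c := by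
  classical
  haveI : Fact (Nat.Prime 3) := ⟨Nat.prime_three⟩
  set Γ := Subgroup.zpowers c with hΓ
  haveI hN' : (Γ.subgroupOf T).Normal := ⟨fun n hn x => by
    obtain ⟨i, hi⟩ := Subgroup.mem_subgroupOf.mp hn
    change c ^ i = _ at hi
    have e : x * n * x⁻¹ = n := Subtype.ext (by
      show (x : X) * n * (x : X)⁻¹ = n
      rw [← hi, ← ((hctr x x.2).zpow_left i).eq, mul_inv_cancel_right])
    rw [e]; exact hn⟩
  have hΓT : Γ ≤ T := Subgroup.zpowers_le.mpr hcT
  have hΓcard : Nat.card Γ = 3 := (Nat.card_zpowers c).trans hc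
  -- the index
  set N := Nat.card (↥T ⧸ Γ.subgroupOf T) with hN
  have hTN : Nat.card T = N * 3 := by
    rw [Subgroup.card_eq_card_quotient_mul_card_subgroup (Γ.subgroupOf T),
      Nat.card_congr (Subgroup.subgroupOfEquivOfLe hΓT).toEquiv, hΓcard]
  suffices hN1 : N = 1 by
    intro x hx
    have hsub : Subsingleton (↥T ⧸ Γ.subgroupOf T) := (Nat.card_eq_one_iff_unique.mp hN1).1
    have : ((⟨x, hx⟩ : ↥T) : ↥T ⧸ Γ.subgroupOf T) = ((1 : ↥T) : ↥T ⧸ Γ.subgroupOf T) := Subsingleton.elim _ _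
    have h' := QuotientGroup.eq.mp this
    rw [mul_one, Subgroup.inv_mem_iff] at h'
    exact Subgroup.mem_subgroupOf.mp h'
  -- orbits of `f`
  have hfn : ∀ (n : ℕ), ∀ x ∈ T, f ^ n * x * (f ^ n)⁻¹ ∈ T := by
    intro n
    induction n with
    | zero => intro x hx; simpa using hx
    | succ n ih =>
      intro x hx
      have := hfT _ (ih x hx)
      simpa [pow_succ', mul_assoc] using this
  have hmem : ∀ a ∈ Subgroup.zpowers f, ∀ x ∈ T, a * x * a⁻¹ ∈ T := fun a ha x hx => by
    obtain ⟨n, rfl⟩ := (mem_powers_iff_mem_zpowers.mpr ha : a ∈ Submonoid.powers f)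
    exact hfn n x hx
  letI : MulAction ↥(Subgroup.zpowers f) ↥T :=
    { smul := fun a x => ⟨a.1 * x.1 * a.1⁻¹, hmem a.1 a.2 x.1 x.2⟩
      one_smul := fun x => Subtype.ext (by show (1 : X) * x.1 * 1⁻¹ = x.1; simp)
      mul_smul := fun a b x => Subtype.ext (by
        show (a.1 * b.1) * x.1 * (a.1 * b.1)⁻¹ = a.1 * (b.1 * x.1 * b.1⁻¹) * a.1⁻¹
        group) }
  have hP : IsPGroup p ↥(Subgroup.zpowers f) := fun a => ⟨1, Subtype.ext (by
    obtain ⟨i, hi⟩ := a.2
    change f ^ i = _ at hi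
    rw [pow_one, Subgroup.coe_pow, ← hi, ← zpow_natCast, zpow_comm, zpow_natCast, hfp, one_zpow]; rfl)⟩
  have hfixed : Nat.card (MulAction.fixedPoints ↥(Subgroup.zpowers f) ↥T) = 3 := by
    rw [← hΓcard]
    refine Nat.card_congr ⟨fun x => ⟨x.1.1, hfixT _ x.1.2 ?_⟩, fun x => ⟨⟨x.1, hΓT x.2⟩, fun a => ?_⟩,
      fun x => rfl, fun x => rfl⟩
    · have h1 := congrArg Subtype.val (x.2 ⟨f, Subgroup.mem_zpowers f⟩)
      exact mul_inv_eq_iff_eq_mul.mp h1
    · refine Subtype.ext ?_
      show a.1 * x.1 * a.1⁻¹ = x.1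
      obtain ⟨i, hi⟩ := a.2
      change f ^ i = _ at hi
      obtain ⟨j, hj⟩ := x.2
      change c ^ j = _ at hj
      rw [← hi, ← hj, ((hfc.zpow_right j).zpow_left i).eq, mul_inv_cancel_right]
  have hmod := hP.card_modEq_card_fixedPoints ↥T
  rw [hfixed, hTN] at hmod
  -- at most eighteen cosets
  haveI := Fintype.ofFinite (↥T ⧸ Γ.subgroupOf T)
  have hle : 2 * N ≤ 36 := by
    rw [hN, Nat.card_eq_fintype_card]
    exact two_mul_index_le ρ h3 hdim hc hfix hscal T hctr hcomm hcen (fun q => q.out.1) (fun q => q.out.2)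
      fun q q' hne hmemΓ => hne (by
        rw [← q.out_eq', ← q'.out_eq']
        exact QuotientGroup.eq.mpr (Subgroup.mem_subgroupOf.mpr hmemΓ))
  obtain ⟨n, hn⟩ := (hT.to_quotient (Γ.subgroupOf T)).exists_card_eq
  rw [← hN] at hn
  have hn2 : n ≤ 2 := by
    by_contra hh
    have : 3 ^ 3 ≤ N := hn ▸ Nat.pow_le_pow_right (by norm_num) (by omega)
    omega
  have hpp : p.Prime := Fact.out
  have h3N : 3 ≤ N * 3 := by have : 0 < N := hn ▸ pow_pos (by norm_num) n; omega
  have hdvd : p ∣ N * 3 - 3 := (Nat.modEq_iff_dvd' h3N).mp hmod.symm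
  interval_cases n
  · simpa using hn
  all_goals
    exfalso
    rw [hn] at hdvd
    norm_num at hdvd
    have := Nat.le_of_dvd (by norm_num) hdvd
    interval_cases p <;> first | (norm_num at hpp; done) | (norm_num at hdvd)

end CfsgLib.ExtFieldOrth
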