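import Mathlib
import Cfsg.Agent.Lib.ExtFieldOrth.Lines

/-!
Dimension three: members of `G` fixing a singular line pointwise act `K`-linearly on its orthogonal
space, and the structure of the stabiliser of a singular line in the stabiliser of a singular vector.
-/

set_option autoImplicit false
set_option linter.unusedSectionVars false
set_option linter.style.haveILetI false
set_option linter.unusedVariables false
set_option linter.unusedSimpArgs false

namespace CfsgLib.ExtFieldOrth

open Module

variable {F K V : Type*} [Field F] [Field K] [Algebra F K] [AddCommGroup V] [Module F V]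
  [Module K V] [IsScalarTower F K V]

/-- The standing hypotheses in dimension three. -/
structure Hyp3 (B : V →ₗ[K] V →ₗ[K] K) (G : Subgroup (AutV F V)) : Prop where
  hyp : Hyp B G
  dim : finrank K V = 3
  three_le : 3 ≤ finrank F K
  only : ∀ u, u ≠ 0 → B u u = 0 → OnlyMul B G u

/-- A hyperbolic pair and an orthogonal non-singular vector. -/
structure IsFrame (B : V →ₗ[K] V →ₗ[K] K) (u v w : V) : Prop where
  u0 : u ≠ 0
  uu : B u u = 0
  vv : B v v = 0
  uv : B u v = 1
  uw : B u w = 0
  vw : B v w = 0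
  ww : B w w ≠ 0

/-- `g` fixes the line of `u` pointwise and its orthogonal space modulo the line. -/
def InQ (B : V →ₗ[K] V →ₗ[K] K) (G : Subgroup (AutV F V)) (u : V) (g : AutV F V) : Prop :=
  g ∈ G ∧ (∀ k : K, g (k • u) = k • u) ∧ ∀ x, B u x = 0 → g x - x ∈ K ∙ u

variable {B : V →ₗ[K] V →ₗ[K] K} {G : Subgroup (AutV F V)}

lemma not_isSquare_algebraMap [FiniteDimensional F K] (hr : Odd (finrank F K)) {ν : F} (hν : ¬ IsSquare ν) :
    ¬ IsSquare (algebraMap F K ν) := by
  rintro ⟨k, hk⟩
  have h1 := congrArg (Algebra.norm F) hk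
  rw [Algebra.norm_algebraMap, map_mul] at h1
  obtain ⟨j, hj⟩ := hr
  rw [hj] at h1
  refine hν ⟨Algebra.norm F k / ν ^ j, ?_⟩
  rcases eq_or_ne ν 0 with rfl | h0
  · exact absurd (IsSquare.zero) hν
  · field_simp
    linear_combination h1

lemma tau_neg_fixed [FiniteDimensional F K] (hr : Odd (finrank F K)) (h2 : (2 : K) ≠ 0) [Fintype F]
    {τ : K ≃ₐ[F] K} {x : K} (hx : τ x = -x) : x = 0 := by
  obtain ⟨j, hj⟩ := hr
  have hpow : ∀ n : ℕ, (τ ^ n) x = (-1) ^ n * x := by
    intro n
    induction n with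
    | zero => simp
    | succ n ih => rw [pow_succ', AlgEquiv.mul_apply, ih, map_mul, map_pow, map_neg, map_one, hx]; ring
  haveI : Finite K := Module.finite_of_finite F
  have h1 := hpow (Nat.card (K ≃ₐ[F] K))
  rw [pow_card_eq_one', AlgEquiv.one_apply, IsGalois.card_aut_eq_finrank, hj, pow_succ, pow_mul] at h1
  simp at h1
  exact (mul_eq_zero.mp (show (2 : K) * x = 0 by linear_combination h1)).resolve_left h2

namespace Hyp3

variable [Fintype F] [FiniteDimensional F K] [Algebra.IsSeparable F K] [FiniteDimensional F V]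
variable (h : Hyp3 B G)
include h

lemma finK : FiniteDimensional K V := Module.Finite.of_restrictScalars_finite F K V

lemma odd_deg : Odd (finrank F K) :=
  h.hyp.prime.odd_of_ne_two (by have := h.three_le; omega)

lemma exists_frame {u : V} (hu0 : u ≠ 0) (hu : B u u = 0) : ∃ v w, IsFrame B u v w := by
  haveI := h.finK
  obtain ⟨v, hv, huv⟩ := h.hyp.exists_dual hu0 hu
  obtain ⟨w, h1, h2, h3⟩ := h.hyp.exists_perp_two (u := u) (v := v) (by simp [huv]) hu hv
  exact ⟨v, w, hu0, hu, hv, huv, h1, h2, h3⟩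

/-- Coordinates in a frame. -/
lemma expand {u v w : V} (fr : IsFrame B u v w) (x : V) :
    x = B x v • u + B x u • v + (B x w / B w w) • w := by
  haveI := h.finK
  let L : V →ₗ[K] K × K × K := (B.flip v).prod ((B.flip u).prod (B.flip w))
  have hL : ∀ t, L t = (B t v, B t u, B t w) := fun t => rfl
  have hvu : B v u = 1 := by rw [h.hyp.symm, fr.uv]
  have hwu : B w u = 0 := by rw [h.hyp.symm, fr.uw]
  have hwv : B w v = 0 := by rw [h.hyp.symm, fr.vw]
  have hsurj : Function.Surjective L := by
    rintro ⟨a, b, c⟩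
    refine ⟨a • u + b • v + (c / B w w) • w, ?_⟩
    simp [hL, fr.uu, fr.vv, fr.uv, fr.uw, fr.vw, hvu, hwu, hwv, div_mul_cancel₀ _ fr.ww]
  have hinj : Function.Injective L := (LinearMap.injective_iff_surjective_of_finrank_eq_finrank
    (by rw [h.dim, Module.finrank_prod, Module.finrank_prod, Module.finrank_self])).mpr hsurj
  refine hinj ?_
  simp [hL, fr.uu, fr.vv, fr.uv, fr.uw, fr.vw, hvu, hwu, hwv, div_mul_cancel₀ _ fr.ww]

lemma expand_perp {u v w : V} (fr : IsFrame B u v w) {x : V} (hx : B u x = 0) :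
    x = B x v • u + (B x w / B w w) • w := by
  conv_lhs => rw [h.expand fr x]
  rw [h.hyp.symm x u, hx, zero_smul, add_zero]

/-- An image of a line has no non-singular vector with two orthogonal vectors of equal values orthogonal
to it. -/
theorem no_pair {u : V} (hu0 : u ≠ 0) (hu : B u u = 0) {g : AutV F V} (hg : g ∈ G) {k₁ : K}
    (ha : B (g (k₁ • u)) (g (k₁ • u)) ≠ 0) {e₁ e₂ : V} (h1 : B e₁ (g (k₁ • u)) = 0)
    (h2 : B e₂ (g (k₁ • u)) = 0) (he : B e₁ e₁ ≠ 0) (heq : B e₂ e₂ = B e₁ e₁) (horth : B e₁ e₂ = 0) :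
    False := by
  haveI := h.finK
  set a := g (k₁ • u) with hadef
  let c : K →ₗ[F] K :=
    ((B a).restrictScalars F) ∘ₗ g.toLinearMap ∘ₗ (LinearMap.toSpanSingleton K V u).restrictScalars F
  have htr : ∀ k, Algebra.trace F K (c k) = 0 := fun k => by
    show Algebra.trace F K (B (g (k₁ • u)) (g (k • u))) = 0
    rw [h.hyp.isom g hg]; simp [hu]
  obtain ⟨k₂, hk₂, hck⟩ : ∃ k₂ : K, k₂ ≠ 0 ∧ c k₂ = 0 := by
    by_contra hh
    have hinj : Function.Injective c := (injective_iff_map_eq_zero c).mpr fun x hx => by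
      by_contra hx0; exact hh ⟨x, hx0, hx⟩
    obtain ⟨x, hx⟩ := Algebra.trace_surjective F K 1
    obtain ⟨y, rfl⟩ := LinearMap.injective_iff_surjective.mp hinj x
    rw [htr] at hx; exact zero_ne_one hx
  set b := g (k₂ • u) with hbdef
  have hab : B a b = 0 := hck
  obtain ⟨y, hy, hyx⟩ := h.hyp.exists_halfturn he heq horth
  have hya : y a = a := by rw [hyx, h.hyp.symm a e₁, h.hyp.symm a e₂, h1, h2]; simp
  have hyb : y b = -b := by
    let L : V →ₗ[K] K × K × K := (B.flip a).prod ((B.flip e₁).prod (B.flip e₂))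
    have hL : ∀ t, L t = (B t a, B t e₁, B t e₂) := fun t => rfl
    have he₂ : B e₂ e₂ ≠ 0 := heq ▸ he
    have h21 : B e₂ e₁ = 0 := by rw [h.hyp.symm, horth]
    have ha1 : B a e₁ = 0 := by rw [h.hyp.symm, h1]
    have ha2 : B a e₂ = 0 := by rw [h.hyp.symm, h2]
    have hsurj : Function.Surjective L := by
      rintro ⟨p, q, s⟩
      refine ⟨(p / B a a) • a + (q / B e₁ e₁) • e₁ + (s / B e₂ e₂) • e₂, ?_⟩
      simp [hL, h1, h2, ha1, ha2, horth, h21, div_mul_cancel₀ _ ha, div_mul_cancel₀ _ he, div_mul_cancel₀ _ he₂]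
    have hinj : Function.Injective L := (LinearMap.injective_iff_surjective_of_finrank_eq_finrank
      (by rw [h.dim, Module.finrank_prod, Module.finrank_prod, Module.finrank_self])).mpr hsurj
    refine hinj ?_
    have hba : B b a = 0 := by rw [h.hyp.symm, hab]
    rw [hyx]
    simp [hL, hba, h1, h2, horth, h21, heq]
    field_simp
    constructor <;> ring
  obtain ⟨τ, d, hd, e1, e2⟩ := h.hyp.semi_of_stab hu0 hu (h.only u hu0 hu) hg hy k₁ k₂
    (by rw [hya]; exact Submodule.subset_span (by simp [hadef]))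
    (by rw [hyb]; exact Submodule.neg_mem _ (Submodule.subset_span (by simp [hbdef])))
  rw [hya, hadef] at e1
  rw [hyb, hbdef, ← map_neg g, ← neg_smul] at e2
  have e1' : k₁ = d * τ k₁ := smul_left_injective K hu0 (g.injective e1)
  have e2' : -k₂ = d * τ k₂ := smul_left_injective K hu0 (g.injective e2)
  have hk₁ : k₁ ≠ 0 := fun e => ha (by simp [hadef, e])
  have hτ1 : τ k₁ ≠ 0 := by simpa using hk₁
  refine div_ne_zero hk₂ hk₁ (tau_neg_fixed h.odd_deg h.hyp.two_ne (τ := τ) ?_)
  rw [map_div₀]
  field_simp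
  apply mul_left_cancel₀ hd
  linear_combination (-k₁) * e2' - k₂ * e1'

omit [Fintype F] [Algebra.IsSeparable F K] [FiniteDimensional F V] in
lemma inQ_perp {u : V} {g : AutV F V} (hg : InQ B G u g) (hu : B u u = 0) {x : V} (hx : B u x = 0) :
    B u (g x) = 0 := by
  obtain ⟨k, hk⟩ := Submodule.mem_span_singleton.mp (hg.2.2 x hx)
  rw [show g x = k • u + x by rw [hk]; abel, map_add, map_smul, hu, hx, smul_zero, add_zero]

lemma pairing {u : V} {g : AutV F V} (hg : g ∈ G) (hfix : ∀ k : K, g (k • u) = k • u) (x : V) :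
    B u (g x) = B u x := by
  refine sub_eq_zero.mp ((traceForm_nondegenerate F K).1 _ fun k => ?_)
  rw [Algebra.traceForm_apply, sub_mul, map_sub, mul_comm, mul_comm (B u x)]
  have := h.hyp.isom g hg (k • u) x
  rw [hfix] at this
  simp only [map_smul, LinearMap.smul_apply, smul_eq_mul] at this
  rw [this, sub_self]

/-- A member fixing the line pointwise and its orthogonal space modulo it is `K`-linear on the latter,
with its action on the whole space determined by one scalar modulo the line. -/
theorem exists_delta {u v w : V} (fr : IsFrame B u v w) {g : AutV F V} (hg : InQ B G u g) :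
    ∃ d : K, (∀ k : K, g (k • w) = k • w + (k * d) • u) ∧
      ∀ l : K, ∃ η : K, g (l • v) = l • v - (l * d / B w w) • w + η • u := by
  classical
  have : Finite K := Module.finite_of_finite F
  set β := B w w with hβ
  have hwu : B w u = 0 := by rw [h.hyp.symm, fr.uw]
  have hvu : B v u = 1 := by rw [h.hyp.symm, fr.uv]
  have hwv : B w v = 0 := by rw [h.hyp.symm, fr.vw]
  have hwl : ∀ k : K, B u (k • w) = 0 := fun k => by simp [fr.uw]
  have hδe : ∀ k : K, ∃ d, g (k • w) = k • w + d • u := fun k => by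
    obtain ⟨d, hd⟩ := Submodule.mem_span_singleton.mp (hg.2.2 _ (hwl k))
    exact ⟨d, by rw [hd]; abel⟩
  choose δ hδ using hδe
  have hve : ∀ l : K, ∃ p q : K, g (l • v) = l • v + p • w + q • u := fun l => by
    have e : B u (g (l • v) - l • v) = 0 := by rw [map_sub, h.pairing hg.1 hg.2.1, sub_self]
    exact ⟨B (g (l • v) - l • v) w / β, B (g (l • v) - l • v) v, by
      rw [add_assoc, add_comm ((_ : K) • w), ← h.expand_perp fr e]; abel⟩
  choose ξ η hξ using hve
  have hrel : ∀ k l : K, Algebra.trace F K (k * ξ l * β) + Algebra.trace F K (δ k * l) = 0 := fun k l => by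
    have e := h.hyp.isom g hg.1 (k • w) (l • v)
    rw [hδ, hξ] at e
    simp [fr.uu, fr.uv, fr.uw, fr.vw, hwu, hvu, hwv, ← hβ] at e
    rw [mul_assoc]; exact e
  -- residual maps
  have hA : ∀ m : K, ∃ z ∈ G, (∀ x, B u x = 0 → z x = x) ∧
      ∀ l, z (l • v) = l • v + (-(δ (m * l)) - m * β * ξ l) • u := by
    intro m
    have hmw : B u (m • w) = 0 := hwl m
    set t := res F (sieg B h.hyp.symm h.hyp.two_ne fr.uu hmw) with ht
    have htk : ∀ k : K, t (k • w) = k • w + (k * m * β) • u := fun k => by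
      simp [ht, siegMap_apply, hwu, ← hβ, mul_assoc, mul_comm m, smul_smul]
    have htu : ∀ k : K, t (k • u) = k • u := fun k => by simp [ht, siegMap_apply, fr.uu, hwl, fr.uw]
    have htv : ∀ l : K, t (l • v) = l • v - (l * m) • w - (m * m * β / 2 * l) • u := fun l => by
      simp [ht, siegMap_apply, hvu, fr.vw, ← hβ]
      module
    refine ⟨g * t * g⁻¹ * t⁻¹, G.mul_mem (G.mul_mem (G.mul_mem hg.1 (h.hyp.sieg_mem _ _)) (G.inv_mem hg.1))
      (G.inv_mem (h.hyp.sieg_mem _ _)), ?_, ?_⟩
    · have hcomm : ∀ x, B u x = 0 → g (t x) = t (g x) := fun x hx => by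
        rw [h.expand_perp fr hx]
        simp only [map_add, hδ, htu, hg.2.1, htk]
        abel
      intro x hx
      have hsurj : ∃ y, B u y = 0 ∧ t (g y) = x := by
        refine ⟨g.symm (t.symm x), ?_, by rw [g.apply_symm_apply, t.apply_symm_apply]⟩
        have e1 := h.pairing hg.1 hg.2.1 (g.symm (t.symm x))
        rw [g.apply_symm_apply] at e1
        have e2 := h.pairing (h.hyp.sieg_mem fr.uu hmw) htu (t.symm x)
        rw [← ht, t.apply_symm_apply] at e2
        rw [← e1, ← e2, hx]
      obtain ⟨y, hy, rfl⟩ := hsurj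
      show g (t (g.symm (t.symm (t (g y))))) = _
      rw [t.symm_apply_apply, g.symm_apply_apply, hcomm y hy]
    · intro l
      have hE : g (t (l • v)) = t (g (l • v)) + (-(δ (m * l)) - m * β * ξ l) • u := by
        rw [htv, hξ]
        simp only [map_add, map_sub, hξ, hδ, hg.2.1, htv, htk, htu, mul_comm l m]
        module
      obtain ⟨y, hy⟩ : ∃ y, l • v = t (g y) := ⟨g.symm (t.symm (l • v)), by
        rw [g.apply_symm_apply, t.apply_symm_apply]⟩
      show g (t (g.symm (t.symm (l • v)))) = _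
      have hfixu : ∀ k : K, g (t (g.symm (t.symm (k • u)))) = k • u := fun k => by
        rw [show t.symm (k • u) = k • u from t.symm_apply_eq.mpr (htu k).symm,
          show g.symm (k • u) = k • u from g.symm_apply_eq.mpr (hg.2.1 k).symm, htu, hg.2.1]
      have hperp : ∀ x, B u x = 0 → g (t (g.symm (t.symm x))) = x := fun x hx => by
        have e1 := h.pairing hg.1 hg.2.1 (g.symm (t.symm x))
        rw [g.apply_symm_apply] at e1
        have e2 := h.pairing (h.hyp.sieg_mem fr.uu hmw) htu (t.symm x)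
        rw [← ht, t.apply_symm_apply] at e2
        have hy' : B u (g.symm (t.symm x)) = 0 := by rw [← e1, ← e2, hx]
        generalize hyg : g.symm (t.symm x) = y at hy' ⊢
        have hxy : x = t (g y) := by rw [← hyg, g.apply_symm_apply, t.apply_symm_apply]
        rw [hxy, h.expand_perp fr hy']
        simp only [map_add, hδ, htu, hg.2.1, htk]
        abel
      have hdiff : B u (t (g (l • v)) - l • v) = 0 := by
        rw [map_sub, h.pairing (h.hyp.sieg_mem fr.uu hmw) htu, h.pairing hg.1 hg.2.1, sub_self]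
      have e3 := hperp _ hdiff
      simp only [map_sub] at e3
      rw [t.symm_apply_apply, g.symm_apply_apply, hE] at e3
      linear_combination (norm := module) -e3
  -- the class trick
  have hA0 : ∀ m l : K, -(δ (m * l)) - m * β * ξ l = 0 := by
    obtain ⟨ν, hν⟩ : ∃ ν : F, ¬ IsSquare ν := FiniteField.exists_nonsquare fun e => h.hyp.two_ne (by
      haveI : CharP F 2 := e ▸ ringChar.charP F
      haveI : CharP K 2 := charP_of_injective_algebraMap (algebraMap F K).injective 2
      exact_mod_cast CharP.cast_eq_zero K 2)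
    set νK := algebraMap F K ν with hνK
    have hν0 : νK ≠ 0 := by
      rw [hνK, ne_eq, map_eq_zero_iff _ (algebraMap F K).injective]; exact fun e => hν (e ▸ IsSquare.zero)
    have hadd : ∀ a b : K, δ (a + b) = δ a + δ b := fun a b => smul_left_injective K fr.u0 (by
      have := hδ (a + b)
      rw [add_smul, map_add, hδ, hδ] at this
      show δ (a + b) • u = (δ a + δ b) • u
      rw [add_smul]
      linear_combination (norm := module) -this)
    have hsm : ∀ (c : F) (a : K), δ (c • a) = c • δ a := fun c a => smul_left_injective K fr.u0 (by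
      have := hδ (c • a)
      rw [smul_assoc, map_smul, hδ, smul_add] at this
      show δ (c • a) • u = (c • δ a) • u
      rw [smul_assoc]
      exact (add_left_cancel this).symm)
    intro m₀ l₀
    set A : K → K → K := fun m l => -(δ (m * l)) - m * β * ξ l with hAdef
    have hAν : ∀ l, A (νK * m₀) l = νK * A m₀ l := fun l => by
      simp only [hAdef, hνK, mul_assoc, ← Algebra.smul_def]
      rw [smul_mul_assoc, hsm, smul_sub, smul_neg, smul_mul_assoc]
    by_contra hne
    obtain ⟨x, hx⟩ : ∃ x, x * A m₀ x ≠ 0 := by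
      by_contra hh
      simp only [not_exists, not_not] at hh
      rcases eq_or_ne l₀ 0 with rfl | hl0
      · obtain ⟨z, -, -, hz⟩ := hA m₀
        refine smul_ne_zero hne fr.u0 ?_
        have := hz 0
        simpa using this.symm
      · exact hne ((mul_eq_zero.mp (hh l₀)).resolve_left hl0)
    -- pick the multiple of the right class
    obtain ⟨m, σ, hσ0, hσ⟩ : ∃ m σ : K, σ ≠ 0 ∧ -(2 * (x * A m x)) = β * (σ * σ) := by
      have h0 : -(2 * (x * A m₀ x)) / β ≠ 0 :=
        div_ne_zero (neg_ne_zero.mpr (mul_ne_zero h.hyp.two_ne hx)) fr.ww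
      by_cases hsq : IsSquare (-(2 * (x * A m₀ x)) / β)
      · obtain ⟨σ, hσ⟩ := hsq
        refine ⟨m₀, σ, fun e => h0 (by rw [hσ, e, mul_zero]), ?_⟩
        rw [← hσ, mul_div_cancel₀ _ fr.ww]
      · haveI := Fintype.ofFinite K
        obtain ⟨σ, hσ⟩ : IsSquare (νK * (-(2 * (x * A m₀ x)) / β)) := by
          have hK2 : ringChar K ≠ 2 := fun e => h.hyp.two_ne (by
            haveI := ringChar.charP K
            haveI : CharP K 2 := e ▸ inferInstance
            exact_mod_cast CharP.cast_eq_zero K 2)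
          rw [← quadraticChar_one_iff_isSquare (mul_ne_zero hν0 h0), map_mul,
            quadraticChar_neg_one_iff_not_isSquare.mpr (not_isSquare_algebraMap h.odd_deg hν),
            quadraticChar_neg_one_iff_not_isSquare.mpr hsq]
          rfl
        refine ⟨νK * m₀, σ, fun e => mul_ne_zero hν0 h0 (by rw [hσ, e, mul_zero]), ?_⟩
        rw [← hσ, hAν]
        field_simp [show β ≠ 0 from fr.ww]
    obtain ⟨z, hz, -, hzv⟩ := hA m
    have hv0 : v ≠ 0 := fun e => by simpa [e] using fr.uv
    have hxA : z (x • v) = x • v + A m x • u := hzv x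
    refine h.no_pair hv0 fr.vv hz (k₁ := x) (e₁ := σ • w) (e₂ := x • v - A m x • u) ?_ ?_ ?_ ?_ ?_ ?_
    · rw [hxA]
      simp [fr.uu, fr.vv, fr.uv, hvu]
      intro e
      refine mul_ne_zero fr.ww (mul_ne_zero hσ0 hσ0) ?_
      rw [← hσ]; linear_combination -e
    · rw [hxA]; simp [hwu, hwv]
    · rw [hxA]; simp [fr.uu, fr.vv, fr.uv, hvu]; ring
    · simp [← hβ, show β ≠ 0 from fr.ww, hσ0]
    · simp [fr.uu, fr.vv, fr.uv, hvu, ← hβ]
      linear_combination hσ
    · simp [hwu, hwv]
  have hξd : ∀ l, δ l = -(β * ξ l) := fun l => by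
    have := hA0 1 l
    rw [one_mul, one_mul] at this
    linear_combination -this
  have hlin : ∀ m l, δ (m * l) = m * δ l := fun m l => by
    linear_combination -(hA0 m l) - m * hξd l
  have hd : ∀ k, δ k = k * δ 1 := fun k => by simpa using hlin k 1
  refine ⟨δ 1, fun k => by rw [hδ, hd], fun l => ⟨η l, ?_⟩⟩
  rw [hξ, sub_eq_add_neg, ← neg_smul]
  congr 2
  rw [← hd, hξd]
  field_simp [fr.ww]
  rw [mul_div_cancel_left₀ _ (show β ≠ 0 from fr.ww)]

end Hyp3

end CfsgLib.ExtFieldOrth
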