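import Mathlib
import Cfsg.Agent.Lib.ExtFieldOrth.Three

/-!
Dimension three: the stabiliser of a singular line in the stabiliser of a singular vector, its normal
abelian subgroup of exponent `p`, and the fixed vectors of their members.
-/

set_option autoImplicit false
set_option linter.unusedSectionVars false
set_option linter.style.haveILetI false
set_option linter.unusedVariables false
set_option linter.unusedSimpArgs false

namespace CfsgLib.ExtFieldOrth

open Module

variable {F K V : Type*} [Field F] [Field K] [Algebra F K] [AddCommGroup V] [Module F V]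
  [Module K V] [IsScalarTower F K V]
variable {B : V →ₗ[K] V →ₗ[K] K} {G : Subgroup (AutV F V)}

/-- An endomorphism `f` with `(f - 1) ^ 3 = 0` has order dividing the odd characteristic. -/
lemma pow_char_eq_one [Nontrivial V] {p : ℕ} (hp : p.Prime) [CharP F p] (h3 : 3 ≤ p) {f : Module.End F V}
    (hf : (f - 1) ^ 3 = 0) : f ^ p = 1 := by
  haveI := Fact.mk hp
  haveI : CharP (Module.End F V) p := charP_of_injective_algebraMap
    (FaithfulSMul.algebraMap_injective F (Module.End F V)) p
  have e : f = 1 + (f - 1) := (add_sub_cancel _ _).symm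
  rw [e, add_pow_char_of_commute p (Commute.one_left _), one_pow,
    show p = 3 + (p - 3) by omega, pow_add, hf, zero_mul, add_zero]

lemma det_eq_one_of_unipotent [Nontrivial V] {p : ℕ} (hp : p.Prime) [CharP F p] (h3 : 3 ≤ p)
    {f : Module.End F V} (hf : (f - 1) ^ 3 = 0) : LinearMap.det f = 1 := by
  haveI := Fact.mk hp
  have h1 := congrArg LinearMap.det (pow_char_eq_one hp h3 hf)
  rw [map_pow, map_one] at h1
  have : (LinearMap.det f - 1) ^ p = 0 := by rw [sub_pow_char, h1, one_pow, sub_self]
  exact sub_eq_zero.mp ((pow_eq_zero_iff hp.ne_zero).mp this)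

variable (B) in
/-- The functional of a member fixing the line pointwise: `g w = w + del g • u`. -/
def del (v w : V) (g : AutV F V) : K := B (g w) v

namespace Hyp3

variable [Fintype F] [FiniteDimensional F K] [Algebra.IsSeparable F K] [FiniteDimensional F V]
variable (h : Hyp3 B G)
include h

lemma char_ge (p : ℕ) [Fact p.Prime] [CharP F p] : 3 ≤ p := by
  have hp : p.Prime := Fact.out
  have := hp.two_le
  rcases eq_or_ne p 2 with rfl | hne
  · haveI : CharP K 2 := charP_of_injective_algebraMap (algebraMap F K).injective 2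
    exact absurd (by exact_mod_cast CharP.cast_eq_zero K 2) h.hyp.two_ne
  · omega

/-- The members of `G` fixing the line pointwise and its orthogonal space modulo it. -/
def qSub {u : V} (hu : B u u = 0) : Subgroup (AutV F V) where
  carrier := {g | InQ B G u g}
  one_mem' := ⟨G.one_mem, fun k => rfl, fun x _ => by simp⟩
  mul_mem' := by
    rintro a b ha hb
    refine ⟨G.mul_mem ha.1 hb.1, fun k => by rw [LinearEquiv.mul_apply, hb.2.1, ha.2.1], fun x hx => ?_⟩
    rw [LinearEquiv.mul_apply, show a (b x) - x = (a (b x) - b x) + (b x - x) by abel]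
    exact Submodule.add_mem _ (ha.2.2 _ (h.inQ_perp hb hu hx)) (hb.2.2 x hx)
  inv_mem' := by
    rintro a ha
    refine ⟨G.inv_mem ha.1, fun k => a.symm_apply_eq.mpr (ha.2.1 k).symm, fun x hx => ?_⟩
    have hy : B u (a.symm x) = 0 := by rw [← h.pairing ha.1 ha.2.1, a.apply_symm_apply, hx]
    have := Submodule.neg_mem _ (ha.2.2 _ hy)
    rw [a.apply_symm_apply, neg_sub] at this
    exact this

lemma mem_qSub {u : V} (hu : B u u = 0) {g : AutV F V} : g ∈ h.qSub hu ↔ InQ B G u g := Iff.rfl

lemma sieg_inQ {u x : V} (hu : B u u = 0) (hx : B u x = 0) :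
    InQ B G u (res F (sieg B h.hyp.symm h.hyp.two_ne hu hx)) := by
  refine ⟨h.hyp.sieg_mem hu hx, fun k => by simp [siegMap_apply, hu, hx], fun y hy => ?_⟩
  refine Submodule.mem_span_singleton.mpr ⟨B y x, ?_⟩
  simp [siegMap_apply, h.hyp.symm y u, hy]

lemma rootGroup_le_qSub {u : V} (hu : B u u = 0) : h.hyp.rootGroup hu ≤ h.qSub hu := by
  rintro _ ⟨w, -, rfl⟩
  exact h.sieg_inQ hu _

lemma unipotent {u : V} (hu : B u u = 0) {g : AutV F V} (hg : InQ B G u g) :
    ((g : V →ₗ[F] V) - 1 : Module.End F V) ^ 3 = 0 := by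
  refine LinearMap.ext fun x => ?_
  obtain ⟨j, hj⟩ := Submodule.mem_span_singleton.mp
    (hg.2.2 (g x - x) (by rw [map_sub, h.pairing hg.1 hg.2.1, sub_self]))
  simp only [pow_succ', pow_zero, mul_one, Module.End.mul_apply, LinearMap.sub_apply, LinearEquiv.coe_coe,
    Module.End.one_apply, LinearMap.zero_apply]
  rw [← hj, hg.2.1, sub_self]

lemma pow_p {u : V} (hu0 : u ≠ 0) (hu : B u u = 0) (p : ℕ) [Fact p.Prime] [CharP F p] {g : AutV F V}
    (hg : InQ B G u g) : g ^ p = 1 := by
  haveI : Nontrivial V := nontrivial_of_ne u 0 hu0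
  have h1 := pow_char_eq_one Fact.out (h.char_ge p) (h.unipotent hu hg)
  refine LinearEquiv.ext fun x => ?_
  have h2 : ∀ n : ℕ, ∀ y, (g ^ n : AutV F V) y = (((g : V →ₗ[F] V) : Module.End F V) ^ n) y := by
    intro n
    induction n with
    | zero => exact fun y => rfl
    | succ n ih => intro y; rw [pow_succ', pow_succ', LinearEquiv.mul_apply, ih]; rfl
  rw [h2, h1]; rfl

lemma qSub_isPGroup {u : V} (hu0 : u ≠ 0) (hu : B u u = 0) (p : ℕ) [Fact p.Prime] [CharP F p] :
    IsPGroup p (h.qSub hu) :=
  fun g => ⟨1, Subtype.ext (by rw [pow_one, Subgroup.coe_pow]; exact h.pow_p hu0 hu p g.2)⟩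

lemma inQ_apply_w {u v w : V} (fr : IsFrame B u v w) {g : AutV F V} (hg : InQ B G u g) (k : K) :
    g (k • w) = k • w + (k * del B v w g) • u := by
  obtain ⟨d, hd, -⟩ := h.exists_delta fr hg
  have h1 := hd 1
  rw [one_smul, one_mul] at h1
  have : del B v w g = d := by
    simp [del, h1, h.hyp.symm w v, fr.vw, fr.uv]
  rw [this]; exact hd k

lemma inQ_apply_v {u v w : V} (fr : IsFrame B u v w) {g : AutV F V} (hg : InQ B G u g) (l : K) :
    ∃ η : K, g (l • v) = l • v - (l * del B v w g / B w w) • w + η • u := by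
  obtain ⟨d, hd, hv⟩ := h.exists_delta fr hg
  have h1 := hd 1
  rw [one_smul, one_mul] at h1
  have : del B v w g = d := by
    simp [del, h1, h.hyp.symm w v, fr.vw, fr.uv]
  rw [this]; exact hv l

lemma del_sieg {u v w : V} (fr : IsFrame B u v w) (m : K) :
    del B v w (res F (sieg B h.hyp.symm h.hyp.two_ne fr.uu
      (show B u (m • w) = 0 by simp [fr.uw]))) = m * B w w := by
  simp [del, siegMap_apply, h.hyp.symm w u, h.hyp.symm w v, fr.uw, fr.vw, fr.uv]

/-- Members fixing the line pointwise commute. -/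
lemma inQ_comm {u v w : V} (fr : IsFrame B u v w) {g t : AutV F V} (hg : InQ B G u g)
    (ht : InQ B G u t) : g * t = t * g := by
  refine LinearEquiv.ext fun x => ?_
  obtain ⟨e1, he1⟩ := h.inQ_apply_v fr hg (B x u)
  obtain ⟨e2, he2⟩ := h.inQ_apply_v fr ht (B x u)
  rw [h.expand fr x, LinearEquiv.mul_apply, LinearEquiv.mul_apply]
  simp only [map_add, map_sub, hg.2.1, ht.2.1, h.inQ_apply_w fr hg, h.inQ_apply_w fr ht, he1, he2]
  match_scalars <;> ring

/-- A member moving `w` fixes nothing outside the line. -/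
lemma fixed_mem {u v w : V} (fr : IsFrame B u v w) {g : AutV F V} (hg : InQ B G u g)
    (hd : del B v w g ≠ 0) {x : V} (hx : g x = x) : x ∈ K ∙ u := by
  obtain ⟨η, hη⟩ := h.inQ_apply_v fr hg (B x u)
  have e0 : g (B x v • u + B x u • v + (B x w / B w w) • w) = B x v • u + B x u • v + (B x w / B w w) • w := by
    rw [← h.expand fr x, hx]
  simp only [map_add, hg.2.1, h.inQ_apply_w fr hg, hη] at e0
  have hu1 := congrArg (fun y => B y w) e0
  have hwu : B w u = 0 := by rw [h.hyp.symm, fr.uw]
  have hwv : B w v = 0 := by rw [h.hyp.symm, fr.vw]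
  simp [fr.uw, fr.vw, fr.ww, hd] at hu1
  have hη0 : η = 0 := by
    have := hη; simp [hu1] at this
    simpa [fr.u0] using this.symm
  have hv1 := congrArg (fun y => B y v) e0
  simp [fr.uv, fr.vv, hwv, hu1, hd, fr.ww, hη0] at hv1
  rw [h.expand fr x, hu1]
  simp [hv1, Submodule.smul_mem, Submodule.mem_span_singleton_self]

/-- A member acting on the line through an automorphism acts on the orthogonal space modulo the line
semilinearly, and transports the members fixing the line pointwise. -/
theorem conj_action {u v w : V} (fr : IsFrame B u v w) {g : AutV F V} (hg : g ∈ G) {τ : K ≃ₐ[F] K}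
    (hτ : ∀ k : K, g (k • u) = τ k • u) :
    ∃ c : K, c ≠ 0 ∧ (∀ k : K, ∃ e : K, g (k • w) = (c * τ k) • w + e • u) ∧
      ∀ f, InQ B G u f → InQ B G u (g * f * g⁻¹) ∧ del B v w (g * f * g⁻¹) = c⁻¹ * τ (del B v w f) := by
  have hL : ∀ k : K, g (k • u) ∈ K ∙ u := fun k => by
    rw [hτ]; exact Submodule.smul_mem _ _ (Submodule.mem_span_singleton_self u)
  have hinv : ∀ k : K, g.symm (k • u) = τ.symm k • u := fun k =>
    g.symm_apply_eq.mpr (by rw [hτ, τ.apply_symm_apply])
  have hLi : ∀ k : K, (g⁻¹ : AutV F V) (k • u) ∈ K ∙ u := fun k => by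
    show g.symm (k • u) ∈ K ∙ u
    rw [hinv]; exact Submodule.smul_mem _ _ (Submodule.mem_span_singleton_self u)
  have hconj : ∀ f, InQ B G u f → InQ B G u (g * f * g⁻¹) := by
    intro f hf
    refine ⟨G.mul_mem (G.mul_mem hg hf.1) (G.inv_mem hg), fun k => ?_, fun x hx => ?_⟩
    · show g (f (g.symm (k • u))) = k • u
      rw [hinv, hf.2.1, hτ, τ.apply_symm_apply]
    · obtain ⟨j, hj⟩ := Submodule.mem_span_singleton.mp
        (hf.2.2 _ (h.hyp.map_perp fr.u0 (G.inv_mem hg) hLi hx))
      have e := congrArg g hj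
      rw [hτ, map_sub, show g ((g⁻¹ : AutV F V) x) = x from g.apply_symm_apply x] at e
      refine Submodule.mem_span_singleton.mpr ⟨τ j, ?_⟩
      rw [e]; rfl
  have hex : ∀ k : K, ∃ a e : K, g (k • w) = a • w + e • u := fun k => by
    refine ⟨B (g (k • w)) w / B w w, B (g (k • w)) v, ?_⟩
    conv_lhs => rw [h.expand_perp fr (h.hyp.map_perp fr.u0 hg hL (show B u (k • w) = 0 by simp [fr.uw]))]
    rw [add_comm]
  choose χ e hχ using hex
  have key : ∀ f, InQ B G u f → ∀ k, χ k * del B v w (g * f * g⁻¹) = τ (k * del B v w f) := by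
    intro f hf k
    have e1 : (g * f * g⁻¹) (g (k • w)) = g (k • w) + τ (k * del B v w f) • u := by
      show g (f (g.symm (g (k • w)))) = _
      rw [g.symm_apply_apply, h.inQ_apply_w fr hf, map_add, hτ]
    rw [hχ, map_add, h.inQ_apply_w fr (hconj f hf), (hconj f hf).2.1, add_right_comm, add_right_inj] at e1
    exact smul_left_injective K fr.u0 e1
  set t := res F (sieg B h.hyp.symm h.hyp.two_ne fr.uu (show B u ((1 : K) • w) = 0 by simp [fr.uw]))
  have htd : del B v w t = B w w := (h.del_sieg fr 1).trans (one_mul _)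
  have htQ : InQ B G u t := h.sieg_inQ _ _
  set d' := del B v w (g * t * g⁻¹)
  have hτβ : τ (B w w) ≠ 0 := by simpa using fr.ww
  have hd' : d' ≠ 0 := fun e0 => hτβ (by
    have := key t htQ 1
    rw [show del B v w (g * t * g⁻¹) = d' from rfl, e0, mul_zero, htd, one_mul] at this
    exact this.symm)
  have hχc : ∀ k, χ k = τ (B w w) / d' * τ k := fun k => by
    have := key t htQ k
    rw [show del B v w (g * t * g⁻¹) = d' from rfl, htd, map_mul] at this
    field_simp
    linear_combination this
  have hc : τ (B w w) / d' ≠ 0 := div_ne_zero hτβ hd'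
  refine ⟨_, hc, fun k => ⟨e k, by rw [hχ, hχc]⟩, fun f hf => ⟨hconj f hf, ?_⟩⟩
  have := key f hf 1
  rw [hχc, map_one, mul_one, one_mul] at this
  rw [← this, inv_mul_cancel_left₀ hc]

/-- A member fixing a singular line pointwise fixes its orthogonal space modulo it. -/
theorem inQ_of_fix {u v w : V} (fr : IsFrame B u v w) {g : AutV F V} (hg : g ∈ G)
    (hfix : ∀ k : K, g (k • u) = k • u) : InQ B G u g := by
  classical
  obtain ⟨c, hc, hcw, -⟩ := h.conj_action fr hg (τ := AlgEquiv.refl) (fun k => hfix k)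
  choose e he using hcw
  simp only [AlgEquiv.coe_refl, id_eq] at he
  have hwu : B w u = 0 := by rw [h.hyp.symm, fr.uw]
  have hc2 : c * c = 1 := by
    have h0 : c * c * B w w - B w w = 0 := (traceForm_nondegenerate F K).1 _ fun k => by
      have := h.hyp.isom g hg (k • w) ((1 : K) • w)
      rw [he, he] at this
      simp [fr.uu, fr.uw, hwu] at this
      rw [Algebra.traceForm_apply, sub_mul, map_sub]
      rw [show c * c * B w w * k = c * k * (c * B w w) by ring, mul_comm (B w w), this, sub_self]
    exact mul_right_cancel₀ fr.ww (by linear_combination h0)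
  have hc1 : c = 1 := by
    rcases mul_self_eq_one_iff.mp hc2 with hc1 | hc1
    · exact hc1
    exfalso
    obtain ⟨p, hp⟩ := CharP.exists F
    haveI := Fact.mk (CharP.char_is_prime F p)
    haveI : Nontrivial V := nontrivial_of_ne u 0 fr.u0
    haveI := h.finK
    set R := refl B h.hyp.symm fr.ww with hR
    set M : Module.End F V := ((res F R : AutV F V) : V →ₗ[F] V) * (g : V →ₗ[F] V) with hM
    have hMa : ∀ x, M x = R (g x) := fun x => rfl
    have hMu : ∀ k : K, M (k • u) = k • u := fun k => by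
      rw [hMa, hfix]; simp [hR, fr.uw]
    have hMw : ∀ k : K, M (k • w) = k • w + e k • u := fun k => by
      rw [hMa, he, hc1, map_add]
      simp [hR, fr.uw]
      field_simp [fr.ww]
      module
    have hnil : (M - 1) ^ 3 = 0 := by
      refine LinearMap.ext fun x => ?_
      have h1 : B u ((M - 1) x) = 0 := by
        rw [LinearMap.sub_apply, Module.End.one_apply, map_sub, hMa]
        simp [hR, fr.uw, h.pairing hg hfix x]
      obtain ⟨a, b, hab⟩ : ∃ a b : K, (M - 1) x = a • u + b • w := ⟨_, _, h.expand_perp fr h1⟩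
      simp only [pow_succ', pow_zero, mul_one, Module.End.mul_apply, LinearMap.zero_apply]
      rw [hab]
      simp [hMu, hMw]
    have hdM := det_eq_one_of_unipotent (CharP.char_is_prime F p) (h.char_ge p) hnil
    have hdR : LinearMap.det ((res F R : AutV F V) : V →ₗ[F] V) = -1 := by
      show LinearMap.det ((R : V →ₗ[K] V).restrictScalars F) = -1
      have e1 : (R : V →ₗ[K] V) = LinearMap.transvection (-(2 / B w w) • B.flip w) w := by
        refine LinearMap.ext fun x => ?_
        simp [hR, LinearMap.transvection.apply, sub_eq_add_neg, neg_smul, mul_div_assoc, mul_comm]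
        ring_nf
      rw [LinearMap.det_restrictScalars, e1, LinearMap.transvection.det]
      have : (1 : K) + (-(2 / B w w) • B.flip w) w = algebraMap F K (-1) := by
        simp [div_mul_cancel₀ _ fr.ww]; norm_num
      rw [this, Algebra.norm_algebraMap, h.odd_deg.neg_one_pow]
    rw [hM, map_mul, hdR, h.hyp.det_one g hg, mul_one] at hdM
    refine h.hyp.two_ne ?_
    have := congrArg (algebraMap F K) hdM
    rw [map_neg, map_one] at this
    linear_combination -this
  refine ⟨hg, hfix, fun x hx => ?_⟩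
  rw [h.expand_perp fr hx, map_add, hfix, he, hc1, one_mul]
  refine Submodule.mem_span_singleton.mpr ⟨e (B x w / B w w), ?_⟩
  abel

/-- A member acting on the line through a non-trivial automorphism fixes at most a space of dimension
three. -/
theorem fixed_small {u v w : V} (fr : IsFrame B u v w) {g : AutV F V} (hg : g ∈ G) {τ : K ≃ₐ[F] K}
    (hτ : ∀ k : K, g (k • u) = τ k • u) (hτ1 : τ ≠ 1) :
    finrank F (LinearMap.ker ((g : V →ₗ[F] V) - 1)) ≤ 3 := by
  classical
  haveI : Finite K := Module.finite_of_finite F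
  haveI := Fact.mk h.hyp.prime
  obtain ⟨c, hc, hcw, -⟩ := h.conj_action fr hg hτ
  choose e he using hcw
  have hfixF : ∀ x : K, τ x = x → x ∈ (F ∙ (1 : K)) := by
    intro x hx
    have hx' : x ∈ AlgHom.equalizer τ.toAlgHom (AlgHom.id F K) := hx
    rcases (Subalgebra.isSimpleOrder_of_finrank_prime F K h.hyp.prime).eq_bot_or_eq_top
        (AlgHom.equalizer τ.toAlgHom (AlgHom.id F K)) with e0 | e0
    · rw [e0] at hx'
      obtain ⟨a, rfl⟩ := Algebra.mem_bot.mp hx'
      exact Submodule.mem_span_singleton.mpr ⟨a, by rw [Algebra.algebraMap_eq_smul_one]⟩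
    · refine absurd (AlgEquiv.ext fun y => ?_) hτ1
      have : y ∈ AlgHom.equalizer τ.toAlgHom (AlgHom.id F K) := e0 ▸ Algebra.mem_top
      exact this
  have hpu : ∀ x, B u (g x) = τ (B u x) := fun x => by
    refine sub_eq_zero.mp ((traceForm_nondegenerate F K).1 _ fun k => ?_)
    obtain ⟨j, rfl⟩ := τ.surjective k
    have := h.hyp.isom g hg (j • u) x
    rw [hτ] at this
    simp only [map_smul, LinearMap.smul_apply, smul_eq_mul] at this
    rw [Algebra.traceForm_apply, sub_mul, map_sub, ← map_mul τ, Algebra.trace_eq_of_algEquiv, mul_comm, this,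
      mul_comm, sub_self]
  -- the fixed points of a twisted action
  obtain ⟨y₀, hy₀⟩ : ∃ y₀ : K, ∀ y : K, c * τ y = y → y ∈ (F ∙ y₀) := by
    by_cases hex : ∃ y₀ : K, y₀ ≠ 0 ∧ c * τ y₀ = y₀
    · obtain ⟨y₀, h0, h0c⟩ := hex
      refine ⟨y₀, fun y hy => ?_⟩
      have h1 : τ (y / y₀) = y / y₀ := by
        rw [map_div₀, div_eq_div_iff (by simpa using h0) h0]
        apply mul_left_cancel₀ hc
        linear_combination y₀ * hy - y * h0c
      obtain ⟨a, ha⟩ := Submodule.mem_span_singleton.mp (hfixF _ h1)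
      refine Submodule.mem_span_singleton.mpr ⟨a, ?_⟩
      have e1 := congrArg (· * y₀) ha
      simp only [smul_mul_assoc, one_mul, div_mul_cancel₀ _ h0] at e1
      exact e1
    · refine ⟨0, fun y hy => ?_⟩
      rw [show y = 0 by by_contra h0; exact hex ⟨y, h0, hy⟩]
      exact Submodule.zero_mem _
  set W := LinearMap.ker ((g : V →ₗ[F] V) - 1)
  have hW : ∀ x : W, g (x : V) = x := fun x => sub_eq_zero.mp (LinearMap.mem_ker.mp x.2)
  let φ₁ : W →ₗ[F] K := ((B u).restrictScalars F) ∘ₗ W.subtype
  have hr1 : LinearMap.range φ₁ ≤ F ∙ (1 : K) := by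
    rintro _ ⟨x, rfl⟩
    refine hfixF _ ?_
    show τ (B u (x : V)) = B u (x : V)
    rw [← hpu, hW]
  let φ₂ : ↥(LinearMap.ker φ₁) →ₗ[F] K :=
    ((B w w)⁻¹ • B.flip w).restrictScalars F ∘ₗ W.subtype ∘ₗ (LinearMap.ker φ₁).subtype
  have hdec : ∀ x : ↥(LinearMap.ker φ₁), ((x : W) : V) = B ((x : W) : V) v • u + φ₂ x • w := fun x => by
    refine (h.expand_perp fr (LinearMap.mem_ker.mp x.2)).trans ?_
    congr 2
    simp [φ₂, div_eq_inv_mul]
  have hr2 : LinearMap.range φ₂ ≤ F ∙ y₀ := by
    rintro _ ⟨x, rfl⟩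
    refine hy₀ _ ?_
    have e1 := hW (x : W)
    rw [hdec x, map_add, hτ, he] at e1
    have := congrArg (fun y => B y w) e1
    simpa [fr.uw, fr.ww] using this
  let φ₃ : ↥(LinearMap.ker φ₂) →ₗ[F] K :=
    (B.flip v).restrictScalars F ∘ₗ W.subtype ∘ₗ (LinearMap.ker φ₁).subtype ∘ₗ (LinearMap.ker φ₂).subtype
  have hdec3 : ∀ x : ↥(LinearMap.ker φ₂), (((x : ↥(LinearMap.ker φ₁)) : W) : V) = φ₃ x • u := fun x => by
    rw [hdec, LinearMap.mem_ker.mp x.2, zero_smul, add_zero]; rfl
  have hr3 : LinearMap.range φ₃ ≤ F ∙ (1 : K) := by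
    rintro _ ⟨x, rfl⟩
    refine hfixF _ (smul_left_injective K fr.u0 ?_)
    have e1 := hW ((x : ↥(LinearMap.ker φ₁)) : W)
    rw [hdec3, hτ] at e1
    exact e1
  have h1 := LinearMap.finrank_range_add_finrank_ker φ₁
  have h2 := LinearMap.finrank_range_add_finrank_ker φ₂
  have hinj3 : Function.Injective φ₃ := fun a b hab =>
    Subtype.ext (Subtype.ext (Subtype.ext (by rw [hdec3 a, hdec3 b, hab])))
  have h3 := LinearMap.finrank_range_of_inj hinj3
  have hs : ∀ z : K, finrank F (F ∙ z) ≤ 1 := fun z => by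
    rcases eq_or_ne z 0 with rfl | hz
    · rw [Submodule.span_zero_singleton, finrank_bot]; omega
    · exact (finrank_span_singleton hz).le
  have := (Submodule.finrank_mono hr1).trans (hs _)
  have := (Submodule.finrank_mono hr2).trans (hs _)
  have := (Submodule.finrank_mono hr3).trans (hs _)
  omega

omit [Fintype F] [Algebra.IsSeparable F K] [FiniteDimensional F V] in
/-- A member fixing a line pointwise fixes a space of dimension at least the degree. -/
lemma fixed_big [FiniteDimensional F V] {u : V} (hu0 : u ≠ 0) {g : AutV F V}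
    (hfix : ∀ k : K, g (k • u) = k • u) :
    finrank F K ≤ finrank F (LinearMap.ker ((g : V →ₗ[F] V) - 1)) := by
  refine LinearMap.finrank_le_finrank_of_injective (f :=
    ((LinearMap.toSpanSingleton K V u).restrictScalars F).codRestrict _ fun k => ?_) ?_
  · simp [hfix k]
  · intro a b hab
    exact smul_left_injective K hu0 (congrArg Subtype.val hab)

/-- A member acting through a non-trivial automorphism is not conjugate to one fixing a line pointwise. -/
theorem not_conj {u v w : V} (fr : IsFrame B u v w) {g : AutV F V} (hg : g ∈ G) {τ : K ≃ₐ[F] K}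
    (hτ : ∀ k : K, g (k • u) = τ k • u) {u' : V} (hu' : u' ≠ 0) {f x : AutV F V}
    (hf : ∀ k : K, f (k • u') = k • u') (hgx : g = x * f * x⁻¹) (h5 : 3 < finrank F K) : τ = 1 := by
  by_contra hne
  have h1 := h.fixed_small fr hg hτ hne
  have hbig : finrank F K ≤ finrank F (LinearMap.ker ((g : V →ₗ[F] V) - 1)) := by
    refine LinearMap.finrank_le_finrank_of_injective (f :=
      ((x : V →ₗ[F] V) ∘ₗ (LinearMap.toSpanSingleton K V u').restrictScalars F).codRestrict _ fun k => ?_) ?_
    · subst hgx
      simp only [LinearMap.mem_ker, LinearMap.sub_apply, LinearMap.comp_apply, LinearMap.coe_restrictScalars,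
        LinearMap.toSpanSingleton_apply, LinearEquiv.coe_coe, Module.End.one_apply]
      show x (f (x.symm (x (k • u')))) - x (k • u') = 0
      rw [x.symm_apply_apply, hf, sub_self]
    · intro a b hab
      exact smul_left_injective K hu' (x.injective (congrArg Subtype.val hab))
  omega

end Hyp3

end CfsgLib.ExtFieldOrth
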