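import Mathlib
import Cfsg.Agent.Lib.ExtFieldOrth.ThreeStab
import Cfsg.Agent.Lib.Solvable.CoprimeMulAction

/-!
Dimension three: the stabiliser of a singular vector and, inside it, the stabiliser of its line; a normal
subgroup meeting the latter in the abelian `p`-part forces the two to coincide.
-/

set_option autoImplicit false
set_option linter.unusedSectionVars false
set_option linter.style.haveILetI false
set_option linter.unusedVariables false
set_option linter.unusedSimpArgs false

namespace CfsgLib.ExtFieldOrth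

open Module

variable {F K V : Type*} [Field F] [Field K] [Algebra F K] [AddCommGroup V] [Module F V]
  [Module K V] [IsScalarTower F K V]

/-- The members of `G` fixing `u`. -/
def fixer (G : Subgroup (AutV F V)) (u : V) : Subgroup (AutV F V) where
  carrier := {g | g ∈ G ∧ g u = u}
  one_mem' := ⟨G.one_mem, rfl⟩
  mul_mem' := by
    rintro a b ha hb
    exact ⟨G.mul_mem ha.1 hb.1, by rw [LinearEquiv.mul_apply, hb.2, ha.2]⟩
  inv_mem' := by
    rintro a ha
    exact ⟨G.inv_mem ha.1, a.symm_apply_eq.mpr ha.2.symm⟩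

variable (K) in
/-- Inside it, those stabilising the line. -/
def lineStab (G : Subgroup (AutV F V)) (u : V) : Subgroup ↥(fixer G u) where
  carrier := {g | ∀ y, (g : AutV F V) y ∈ K ∙ u ↔ y ∈ K ∙ u}
  one_mem' y := Iff.rfl
  mul_mem' := by
    rintro a b ha hb y
    exact (ha _).trans (hb y)
  inv_mem' := by
    rintro a ha y
    have := ha ((a : AutV F V).symm y)
    rw [(a : AutV F V).apply_symm_apply] at this
    exact this.symm

variable {B : V →ₗ[K] V →ₗ[K] K} {G : Subgroup (AutV F V)}

namespace Hyp3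

variable [Fintype F] [FiniteDimensional F K] [Algebra.IsSeparable F K] [FiniteDimensional F V]
variable (h : Hyp3 B G)
include h

lemma finG : Finite (AutV F V) := by
  haveI : Finite V := Module.finite_of_finite F
  exact Finite.of_injective (fun e : AutV F V => (e : V → V)) DFunLike.coe_injective

lemma mem_lineStab {u : V} (hu0 : u ≠ 0) {g : ↥(fixer G u)}
    (hg : ∀ k : K, (g : AutV F V) (k • u) ∈ K ∙ u) : g ∈ lineStab K G u := by
  haveI : Finite V := Module.finite_of_finite F
  have hline : ∀ y ∈ K ∙ u, (g : AutV F V) y ∈ K ∙ u := fun y hy => by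
    obtain ⟨k, rfl⟩ := Submodule.mem_span_singleton.mp hy
    exact hg k
  intro y
  refine ⟨fun hy => ?_, hline y⟩
  obtain ⟨⟨z, hz⟩, hzy⟩ := (Finite.injective_iff_surjective
    (f := fun z : ↥(K ∙ u) => (⟨(g : AutV F V) z, hline _ z.2⟩ : ↥(K ∙ u)))).mp
    (fun a b e => Subtype.ext ((g : AutV F V).injective (congrArg Subtype.val e))) ⟨_, hy⟩
  rw [← (g : AutV F V).injective (congrArg Subtype.val hzy)]
  exact hz

variable {u v w : V}

/-- The members fixing the line pointwise. -/
def qIn (fr : IsFrame B u v w) : Subgroup ↥(fixer G u) := (h.qSub fr.uu).subgroupOf (fixer G u)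

lemma mem_qIn (fr : IsFrame B u v w) {g : ↥(fixer G u)} : g ∈ h.qIn fr ↔ InQ B G u g := Iff.rfl

lemma qIn_le (fr : IsFrame B u v w) : h.qIn fr ≤ lineStab K G u := fun g hg =>
  h.mem_lineStab fr.u0 fun k => by
    rw [show (g : AutV F V) (k • u) = k • u from (hg : InQ B G u g).2.1 k]; exact Submodule.smul_mem _ _ (Submodule.mem_span_singleton_self u)

lemma qIn_comm (fr : IsFrame B u v w) {g t : ↥(fixer G u)} (hg : g ∈ h.qIn fr) (ht : t ∈ h.qIn fr) :
    g * t = t * g := Subtype.ext (h.inQ_comm fr hg ht)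

lemma qIn_pow (fr : IsFrame B u v w) (p : ℕ) [Fact p.Prime] [CharP F p] {g : ↥(fixer G u)}
    (hg : g ∈ h.qIn fr) : g ^ p = 1 := Subtype.ext (by rw [Subgroup.coe_pow]; exact h.pow_p fr.u0 fr.uu p hg)

lemma qIn_isPGroup (fr : IsFrame B u v w) (p : ℕ) [Fact p.Prime] [CharP F p] : IsPGroup p ↥(h.qIn fr) :=
  fun g => ⟨1, Subtype.ext (by rw [pow_one, Subgroup.coe_pow]; exact h.qIn_pow fr p g.2)⟩

/-- Siegel maps in the frame. -/
def rootW (fr : IsFrame B u v w) : Multiplicative K →* ↥(fixer G u) where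
  toFun m := ⟨res F (sieg B h.hyp.symm h.hyp.two_ne fr.uu
      (show B u (Multiplicative.toAdd m • w) = 0 by simp [fr.uw])),
    h.hyp.sieg_mem _ _, by simp [siegMap_apply, fr.uu, fr.uw]⟩
  map_one' := Subtype.ext (LinearEquiv.ext fun x => by simp [siegMap_apply])
  map_mul' a b := Subtype.ext (LinearEquiv.ext fun x => by
    show siegMap B u ((Multiplicative.toAdd a + Multiplicative.toAdd b) • w) x =
      siegMap B u (Multiplicative.toAdd a • w) (siegMap B u (Multiplicative.toAdd b • w) x)
    rw [siegMap_add h.hyp.symm fr.uu h.hyp.two_ne (by simp [fr.uw]) (by simp [fr.uw]), add_smul])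

lemma rootW_mem (fr : IsFrame B u v w) (m : Multiplicative K) : h.rootW fr m ∈ h.qIn fr :=
  h.sieg_inQ _ _

lemma del_rootW (fr : IsFrame B u v w) (m : K) :
    del B v w (h.rootW fr (Multiplicative.ofAdd m) : AutV F V) = m * B w w :=
  h.del_sieg fr m

lemma del_mul (fr : IsFrame B u v w) {g t : AutV F V} (hg : InQ B G u g) (ht : InQ B G u t) :
    del B v w (g * t) = del B v w g + del B v w t := by
  have h1 := h.inQ_apply_w fr hg 1
  have h2 := h.inQ_apply_w fr ht 1
  rw [one_smul, one_mul] at h1 h2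
  show B (g (t w)) v = del B v w g + del B v w t
  rw [h2, map_add, hg.2.1, h1]
  simp [h.hyp.symm w v, fr.vw, fr.uv]

/-- An element carrying a member moving `w` back among those fixing the line pointwise stabilises the
line. -/
lemma mem_lineStab_of_conj (fr : IsFrame B u v w) {f x : ↥(fixer G u)} (hf : f ∈ h.qIn fr)
    (hd : del B v w (f : AutV F V) ≠ 0) (hx : x⁻¹ * f * x ∈ h.qIn fr) : x ∈ lineStab K G u := by
  refine h.mem_lineStab fr.u0 fun k => h.fixed_mem fr hf hd ?_
  have := congrArg (x : AutV F V) ((hx : InQ B G u _).2.1 k)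
  simpa using this

lemma del_rootW_ne (fr : IsFrame B u v w) {m : K} (hm : m ≠ 0) :
    del B v w (h.rootW fr (Multiplicative.ofAdd m) : AutV F V) ≠ 0 := by
  rw [h.del_rootW fr]; exact mul_ne_zero hm fr.ww

lemma mem_lineStab_of_comm (fr : IsFrame B u v w) {f x : ↥(fixer G u)} (hf : f ∈ h.qIn fr)
    (hd : del B v w (f : AutV F V) ≠ 0) (hx : f * x = x * f) : x ∈ lineStab K G u :=
  h.mem_lineStab_of_conj fr hf hd (by rw [mul_assoc, hx, inv_mul_cancel_left]; exact hf)

/-- A `p`-subgroup containing the members fixing the line pointwise stabilises the line. -/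
lemma pGroup_le (fr : IsFrame B u v w) (p : ℕ) [Fact p.Prime] [CharP F p] (S : Subgroup ↥(fixer G u))
    (hS : IsPGroup p S) (hle : h.qIn fr ≤ S) : S ≤ lineStab K G u := by
  intro x hx
  refine h.mem_lineStab fr.u0 fun k =>
    h.hyp.pfix p fr.u0 fr.uu (h.only u fr.u0 fr.uu) (S.map (fixer G u).subtype)
      ((Subgroup.map_subtype_le S).trans fun y hy => hy.1) (hS.map _) ?_ _ (Subgroup.mem_map_of_mem _ hx) k
  intro t ht
  have htQ : InQ B G u t := h.rootGroup_le_qSub fr.uu ht
  exact ⟨⟨t, htQ.1, by simpa using htQ.2.1 1⟩, hle htQ, rfl⟩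

lemma exists_theta (fr : IsFrame B u v w) (g : ↥(lineStab K G u)) :
    ∃ τ : K ≃ₐ[F] K, ∀ k : K, ((g : ↥(fixer G u)) : AutV F V) (k • u) = τ k • u := by
  obtain ⟨τ, c, hc, hτ⟩ := h.hyp.semi_on_line fr.u0 fr.uu (h.only u fr.u0 fr.uu) g.1.2.1
    fun k => (g.2 _).mpr (Submodule.smul_mem _ _ (Submodule.mem_span_singleton_self u))
  refine ⟨τ, fun k => ?_⟩
  have h1 := hτ 1
  rw [one_smul, g.1.2.2, map_one, mul_one] at h1
  have hc1 : c = 1 := smul_left_injective K fr.u0 (by simpa using h1.symm)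
  rw [hτ, hc1, one_mul]

/-- The automorphism of the line. -/
noncomputable def theta (fr : IsFrame B u v w) : ↥(lineStab K G u) →* (K ≃ₐ[F] K) :=
  MonoidHom.mk' (fun g => (h.exists_theta fr g).choose) fun a b => AlgEquiv.ext fun k =>
    smul_left_injective K fr.u0 (by
      show (h.exists_theta fr (a * b)).choose k • u =
        (h.exists_theta fr a).choose ((h.exists_theta fr b).choose k) • u
      rw [← (h.exists_theta fr (a * b)).choose_spec, ← (h.exists_theta fr a).choose_spec,
        ← (h.exists_theta fr b).choose_spec]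
      rfl)

lemma theta_apply (fr : IsFrame B u v w) (g : ↥(lineStab K G u)) (k : K) :
    ((g : ↥(fixer G u)) : AutV F V) (k • u) = h.theta fr g k • u :=
  (h.exists_theta fr g).choose_spec k

lemma theta_eq_one_iff (fr : IsFrame B u v w) (g : ↥(lineStab K G u)) :
    h.theta fr g = 1 ↔ (g : ↥(fixer G u)) ∈ h.qIn fr := by
  refine ⟨fun e => h.inQ_of_fix fr g.1.2.1 fun k => (h.theta_apply fr g k).trans (by rw [e]; rfl),
    fun hg => AlgEquiv.ext fun k => smul_left_injective K fr.u0 ?_⟩
  exact (h.theta_apply fr g k).symm.trans ((hg : InQ B G u _).2.1 k)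

/-- A normal subgroup meeting the stabiliser of the line in the members fixing it pointwise forces every
member fixing `u` to stabilise its line. -/
theorem all_of_normal (fr : IsFrame B u v w) (p : ℕ) [Fact p.Prime] [CharP F p]
    (N : Subgroup ↥(fixer G u)) (hN : N.Normal) (hQN : h.qIn fr ≤ N)
    (hNP : N ⊓ lineStab K G u ≤ h.qIn fr) : lineStab K G u = ⊤ := by
  classical
  haveI := h.finG
  haveI : Finite K := Module.finite_of_finite F
  haveI : CharP K p := charP_of_injective_algebraMap (algebraMap F K).injective p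
  have hone := h.rootW_mem fr (Multiplicative.ofAdd 1)
  have hd1 := h.del_rootW_ne fr (one_ne_zero (α := K))
  suffices hNQ : N = h.qIn fr by
    refine eq_top_iff.mpr fun x _ => h.mem_lineStab_of_conj fr hone hd1 ?_
    have h1 := hN.conj_mem _ (hQN hone) x⁻¹
    rw [inv_inv] at h1
    rwa [← hNQ]
  let P : Sylow p ↥N :=
    { toSubgroup := (h.qIn fr).subgroupOf N
      isPGroup' := (h.qIn_isPGroup fr p).comap_subtype
      is_maximal' := fun {S} hS hle => by
        refine le_antisymm (fun x hx => ?_) hle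
        refine Subgroup.mem_subgroupOf.mpr (hNP ⟨x.2, ?_⟩)
        refine h.pGroup_le fr p (S.map N.subtype) (hS.map _) ?_ (Subgroup.mem_map_of_mem _ hx)
        exact fun y hy => ⟨⟨y, hQN hy⟩, hle hy, rfl⟩ }
  have hP : Subgroup.normalizer ((P : Subgroup ↥N) : Set ↥N) ≤ Subgroup.centralizer (P : Set ↥N) := by
    intro y hy z hz
    have h1 : y⁻¹ * ⟨_, hQN hone⟩ * y ∈ (P : Subgroup ↥N) := (Subgroup.mem_normalizer_iff''.mp hy _).mp hone
    have hyQ : (y : ↥(fixer G u)) ∈ h.qIn fr :=
      hNP ⟨y.2, h.mem_lineStab_of_conj fr hone hd1 (Subgroup.mem_subgroupOf.mp h1)⟩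
    exact Subtype.ext (h.qIn_comm fr hz hyQ)
  set L := (MonoidHom.transferSylow P hP).ker with hLdef
  have hL := MonoidHom.ker_transferSylow_isComplement' P hP
  have hLp : ¬ p ∣ Nat.card L := MonoidHom.not_dvd_card_ker_transferSylow P hP
  haveI : L.Normal := MonoidHom.normal_ker _
  let ι : Multiplicative K →* ↥N :=
    { toFun := fun m => ⟨h.rootW fr m, hQN (h.rootW_mem fr m)⟩
      map_one' := Subtype.ext (map_one _)
      map_mul' := fun a b => Subtype.ext (map_mul (h.rootW fr) a b) }
  letI : MulDistribMulAction (Multiplicative K) ↥L := MulDistribMulAction.compHom _ ((MulAut.conjNormal (H := L)).comp ι)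
  have hcard : Nat.card (Multiplicative K) = Nat.card F ^ finrank F K :=
    (Nat.card_congr Multiplicative.toAdd).trans Module.natCard_eq_pow_finrank
  obtain ⟨n, -, hn⟩ := FiniteField.card F p
  have hnc : ¬ IsCyclic (Multiplicative K) := fun hc => by
    have h1 := hc.exponent_eq_card
    have h2 : Monoid.exponent (Multiplicative K) ∣ p := Monoid.exponent_dvd_of_forall_pow_eq_one fun m => by
      show Multiplicative.ofAdd (p • Multiplicative.toAdd m) = 1
      rw [← Nat.cast_smul_eq_nsmul K, CharP.cast_eq_zero, zero_smul]; rfl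
    rw [h1] at h2
    have h3 := Nat.le_of_dvd (Fact.out : p.Prime).pos h2
    have h4 := h.hyp.lt_card p
    change Nat.card K ≤ p at h3
    omega
  have hcop : (Nat.card (Multiplicative K)).Coprime (Nat.card L) := by
    rw [hcard, Nat.card_eq_fintype_card, hn, ← pow_mul]
    exact (((Fact.out : p.Prime).coprime_iff_not_dvd).mpr hLp).pow_left _
  have hLbot : (⊥ : Subgroup ↥L) = ⊤ := CfsgLib.Solvable.eq_top_of_smul_fixed_mem hnc hcop ⊥ fun a ha k hk => by
    have e : ι a * (k : ↥N) * (ι a)⁻¹ = (k : ↥N) := congrArg Subtype.val hk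
    rw [mul_inv_eq_iff_eq_mul] at e
    have hm : Multiplicative.toAdd a ≠ 0 := fun e0 => ha (congrArg Multiplicative.ofAdd e0)
    have hk' := h.mem_lineStab_of_comm fr (h.rootW_mem fr a) (h.del_rootW_ne fr hm)
      (x := ((k : ↥N) : ↥(fixer G u))) (congrArg Subtype.val e)
    have hkP : (k : ↥N) ∈ (P : Subgroup ↥N) := Subgroup.mem_subgroupOf.mpr (hNP ⟨(k : ↥N).2, hk'⟩)
    exact Subgroup.mem_bot.mpr (Subtype.ext (hL.disjoint.le_bot ⟨k.2, hkP⟩ : (k : ↥N) = 1))
  refine le_antisymm (fun x hx => ?_) hQN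
  obtain ⟨⟨l, q⟩, hlq, -⟩ := hL.existsUnique ⟨x, hx⟩
  have hl : (l : ↥L) ∈ (⊥ : Subgroup ↥L) := hLbot ▸ Subgroup.mem_top _
  rw [Subgroup.mem_bot] at hl
  simp only [hl, Subgroup.coe_one, one_mul] at hlq
  have : (⟨x, hx⟩ : ↥N) ∈ (P : Subgroup ↥N) := hlq ▸ q.2
  exact this

/-- A member of the stabiliser of the line commutes with a subgroup of the members fixing it pointwise
isomorphic to the additive group of `F` and moving `w`. -/
theorem exists_central (fr : IsFrame B u v w) (γ : ↥(lineStab K G u)) (hγ : h.theta fr γ ≠ 1) :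
    ∃ φ : Multiplicative F →* ↥(fixer G u), (∀ a, φ a ∈ h.qIn fr) ∧
      (∀ a, φ a * (γ : ↥(fixer G u)) = (γ : ↥(fixer G u)) * φ a) ∧
      ∀ a, a ≠ 1 → del B v w (φ a : AutV F V) ≠ 0 := by
  classical
  haveI : Finite K := Module.finite_of_finite F
  haveI := Fact.mk h.hyp.prime
  set τ := h.theta fr γ with hτdef
  set r := finrank F K with hr
  obtain ⟨c, hc, -, hconj⟩ := h.conj_action fr γ.1.2.1 (h.theta_apply fr γ)
  letI iQ : CommGroup ↥(h.qIn fr) :=
    { (inferInstance : Group ↥(h.qIn fr)) with mul_comm := fun a b => Subtype.ext (h.qIn_comm fr a.2 b.2) }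
  let cγ : ↥(h.qIn fr) →* ↥(h.qIn fr) :=
    { toFun := fun f => ⟨(γ : ↥(fixer G u)) * f * (γ : ↥(fixer G u))⁻¹, (hconj _ f.2).1⟩
      map_one' := Subtype.ext (by simp)
      map_mul' := fun a b => Subtype.ext (by simp [mul_assoc]) }
  have hiter : ∀ (i : ℕ) (f : ↥(h.qIn fr)), ((cγ^[i] f : ↥(h.qIn fr)) : ↥(fixer G u)) =
      (γ : ↥(fixer G u)) ^ i * f * ((γ : ↥(fixer G u)) ^ i)⁻¹ := by
    intro i f
    induction i with
    | zero => simp
    | succ i ih =>
      rw [Function.iterate_succ_apply']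
      show (γ : ↥(fixer G u)) * _ * _ = _
      rw [ih, pow_succ']
      group
  have hτr : τ ^ r = 1 := by
    rw [hr, ← IsGalois.card_aut_eq_finrank F K]; exact pow_card_eq_one'
  have hγr : ((γ : ↥(fixer G u)) ^ r) ∈ h.qIn fr := by
    have := (h.theta_eq_one_iff fr (γ ^ r)).mp (by rw [map_pow]; exact hτr)
    simpa using this
  have hper : ∀ f, cγ^[r] f = f := fun f => Subtype.ext (by
    rw [hiter, h.qIn_comm fr hγr f.2, mul_inv_cancel_right])
  let T : ↥(h.qIn fr) → ↥(h.qIn fr) := fun f => ∏ i ∈ Finset.range r, cγ^[i] f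
  have hT1 : T 1 = 1 := Finset.prod_eq_one fun i _ => iterate_map_one cγ i
  have hTmul : ∀ a b, T (a * b) = T a * T b := fun a b => by
    simp only [T, iterate_map_mul, Finset.prod_mul_distrib]
  have hTfix : ∀ f, cγ (T f) = T f := fun f => by
    have e : cγ (T f) * cγ^[0] f = T f * cγ^[r] f := by
      show cγ (∏ i ∈ Finset.range r, cγ^[i] f) * _ = _
      rw [map_prod, ← Finset.prod_range_succ (fun i => cγ^[i] f), Finset.prod_range_succ']
      simp only [Function.iterate_succ_apply']
    rw [hper, Function.iterate_zero, id] at e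
    exact mul_right_cancel e
  let D : ↥(h.qIn fr) → K := fun f => del B v w ((f : ↥(fixer G u)) : AutV F V)
  have hDmul : ∀ a b, D (a * b) = D a + D b := fun a b => h.del_mul fr a.2 b.2
  let Dh : ↥(h.qIn fr) →* Multiplicative K := MonoidHom.mk' (fun f => Multiplicative.ofAdd (D f))
    fun a b => by rw [hDmul]; rfl
  let co : ℕ → K := fun i => Nat.rec 1 (fun _ x => c⁻¹ * τ x) i
  have hDiter : ∀ (i : ℕ) f, D (cγ^[i] f) = co i * (τ ^ i) (D f) := by
    intro i f
    induction i with
    | zero => simp [co]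
    | succ i ih =>
      rw [Function.iterate_succ_apply']
      refine ((hconj _ (cγ^[i] f).2).2).trans ?_
      show c⁻¹ * τ (D (cγ^[i] f)) = _
      rw [ih, map_mul, pow_succ', AlgEquiv.mul_apply]
      show _ = c⁻¹ * τ (co i) * _
      ring
  have hDT : ∀ f, D (T f) = ∑ i ∈ Finset.range r, co i * (τ ^ i) (D f) := fun f => by
    have := map_prod Dh (fun i => cγ^[i] f) (Finset.range r)
    simp only [← hDiter]
    exact congrArg Multiplicative.toAdd this
  have hord : orderOf τ = r := by
    have h1 : orderOf τ ∣ r := orderOf_dvd_of_pow_eq_one hτr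
    exact ((Nat.dvd_prime h.hyp.prime).mp h1).resolve_left (fun e => hγ (orderOf_eq_one_iff.mp e))
  obtain ⟨d, hd⟩ : ∃ d : K, ∑ i ∈ Finset.range r, co i * (τ ^ i) d ≠ 0 := by
    by_contra hh
    simp only [not_exists, not_not] at hh
    have hli : LinearIndependent K (fun i : Fin r => (τ ^ (i : ℕ)).toLinearMap) :=
      (linearIndependent_toLinearMap F K K).comp (fun i : Fin r => (τ ^ (i : ℕ)).toAlgHom) fun i j e => by
        refine Fin.ext (pow_injOn_Iio_orderOf (x := τ) (by simp [hord]) (by simp [hord]) ?_)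
        exact AlgEquiv.ext fun x => DFunLike.congr_fun e x
    have h0 := Fintype.linearIndependent_iff.mp hli (fun i => co i) (LinearMap.ext fun x => by
      simp only [LinearMap.sum_apply, LinearMap.smul_apply, AlgEquiv.toLinearMap_apply, smul_eq_mul,
        LinearMap.zero_apply]
      rw [Fin.sum_univ_eq_sum_range (fun i => co i * (τ ^ i) x)]
      exact hh x) ⟨0, h.hyp.prime.pos⟩
    exact one_ne_zero (α := K) h0
  let m : F → K := fun a => a • (d / B w w)
  let t : F → ↥(h.qIn fr) := fun a => ⟨h.rootW fr (Multiplicative.ofAdd (m a)), h.rootW_mem fr _⟩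
  have htmul : ∀ a b : F, t (a + b) = t a * t b := fun a b => Subtype.ext (by
    show h.rootW fr (Multiplicative.ofAdd (m (a + b))) = _
    rw [show m (a + b) = m a + m b from add_smul a b _, ofAdd_add, map_mul]; rfl)
  refine ⟨MonoidHom.mk' (fun a => (T (t (Multiplicative.toAdd a)) : ↥(fixer G u))) fun a b => ?_,
    fun a => (T _).2, fun a => ?_, fun a ha => ?_⟩
  · rw [toAdd_mul, htmul, hTmul]; rfl
  · have e := congrArg Subtype.val (hTfix (t (Multiplicative.toAdd a)))
    change (γ : ↥(fixer G u)) * _ * _ = _ at e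
    rw [mul_inv_eq_iff_eq_mul] at e
    exact e.symm
  · show D (T (t _)) ≠ 0
    rw [hDT]
    have ha0 : Multiplicative.toAdd a ≠ 0 := fun e0 => ha (congrArg Multiplicative.ofAdd e0)
    have e : D (t (Multiplicative.toAdd a)) = Multiplicative.toAdd a • d := by
      refine (h.del_rootW fr _).trans ?_
      show (_ • (d / B w w)) * B w w = _
      rw [smul_mul_assoc, div_mul_cancel₀ _ fr.ww]
    simp only [e, map_smul, mul_smul_comm, ← Finset.smul_sum]
    exact smul_ne_zero ha0 hd

/-- No member of the stabiliser of the line acting non-trivially on it is conjugate to one fixing it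
pointwise, unless both the degree and the field are three. -/
lemma mem_qIn_of_conj (fr : IsFrame B u v w) (hbig : 3 < finrank F K ∨ 3 < Nat.card F)
    {g f x : ↥(fixer G u)} (hg : g ∈ lineStab K G u)
    (hf : f ∈ h.qIn fr) (he : g = x * f * x⁻¹) : g ∈ h.qIn fr := by
  classical
  by_cases h5 : 3 < finrank F K
  · exact (h.theta_eq_one_iff fr ⟨g, hg⟩).mp (h.not_conj fr g.2.1 (h.theta_apply fr ⟨g, hg⟩) fr.u0
      (hf : InQ B G u f).2.1 (congrArg Subtype.val he) h5)
  by_contra hgQ
  have hθ : h.theta fr ⟨g, hg⟩ ≠ 1 := fun e => hgQ ((h.theta_eq_one_iff fr ⟨g, hg⟩).mp e)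
  haveI := h.finG
  haveI : Finite K := Module.finite_of_finite F
  have hd : del B v w (f : AutV F V) ≠ 0 := by
    intro hd
    let L : K × K →ₗ[F] V := ((x : AutV F V) : V →ₗ[F] V) ∘ₗ
      ((LinearMap.toSpanSingleton K V u).coprod (LinearMap.toSpanSingleton K V w)).restrictScalars F
    have hL : ∀ a, L a = (x : AutV F V) (a.1 • u + a.2 • w) := fun a => rfl
    have hinj : Function.Injective L := (injective_iff_map_eq_zero L).mpr fun a ha => by
      rw [hL, LinearEquiv.map_eq_zero_iff] at ha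
      have h2 : a.2 = 0 := by
        have := congrArg (fun y => B y w) ha
        simpa [fr.uw, fr.ww] using this
      rw [h2, zero_smul, add_zero, smul_eq_zero] at ha
      exact Prod.ext (ha.resolve_right fr.u0) h2
    have hle : LinearMap.range L ≤ LinearMap.ker (((g : AutV F V) : V →ₗ[F] V) - 1) := by
      rintro _ ⟨a, rfl⟩
      refine LinearMap.mem_ker.mpr (sub_eq_zero.mpr ?_)
      show (g : AutV F V) (L a) = L a
      rw [he, hL]
      show (x : AutV F V) ((f : AutV F V) ((x : AutV F V).symm ((x : AutV F V) (a.1 • u + a.2 • w)))) = _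
      have hfQ : InQ B G u (f : AutV F V) := hf
      rw [LinearEquiv.symm_apply_apply, map_add, hfQ.2.1,
        h.inQ_apply_w fr hfQ, hd, mul_zero, zero_smul, add_zero]
    have h1 := (Submodule.finrank_mono hle).trans (h.fixed_small fr g.2.1 (h.theta_apply fr ⟨g, hg⟩) hθ)
    rw [LinearMap.finrank_range_of_inj hinj, Module.finrank_prod] at h1
    have := h.three_le
    omega
  -- the members commuting with `g` are carried into the stabiliser of the line
  obtain ⟨φ, hφQ, hφc, hφd⟩ := h.exists_central fr ⟨g, hg⟩ hθ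
  have hP : ∀ a, x⁻¹ * φ a * x ∈ lineStab K G u := fun a => by
    refine h.mem_lineStab_of_comm fr hf hd ?_
    have e := hφc a
    change φ a * g = g * φ a at e
    rw [he] at e
    calc f * (x⁻¹ * φ a * x) = x⁻¹ * (x * f * x⁻¹ * φ a) * x := by group
      _ = x⁻¹ * (φ a * (x * f * x⁻¹)) * x := by rw [e]
      _ = x⁻¹ * φ a * x * f := by group
  obtain ⟨a, b, hab, hne⟩ : ∃ a b : Multiplicative F,
      h.theta fr ⟨_, hP a⟩ = h.theta fr ⟨_, hP b⟩ ∧ a ≠ b := by
    by_contra hh
    simp only [not_exists, not_and, not_not] at hh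
    have h1 := Nat.card_le_card_of_injective (fun a : Multiplicative F => h.theta fr ⟨_, hP a⟩)
      fun a b e => hh a b e
    rw [Nat.card_congr Multiplicative.toAdd, IsGalois.card_aut_eq_finrank] at h1
    have := hbig.resolve_left h5
    omega
  have hker : x⁻¹ * φ (a * b⁻¹) * x ∈ h.qIn fr := by
    have e : (⟨_, hP (a * b⁻¹)⟩ : ↥(lineStab K G u)) = ⟨_, hP a⟩ * ⟨_, hP b⟩⁻¹ := Subtype.ext (by
      show x⁻¹ * φ (a * b⁻¹) * x = x⁻¹ * φ a * x * (x⁻¹ * φ b * x)⁻¹
      rw [map_mul, map_inv]; group)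
    exact (h.theta_eq_one_iff fr ⟨_, hP (a * b⁻¹)⟩).mp (by rw [e, map_mul, map_inv, hab, mul_inv_cancel])
  have hx : x ∈ lineStab K G u := h.mem_lineStab_of_conj fr (hφQ _)
    (hφd _ fun e => hne (mul_inv_eq_one.mp e)) hker
  refine hθ ?_
  have e : (⟨g, hg⟩ : ↥(lineStab K G u)) = ⟨x, hx⟩ * ⟨f, h.qIn_le fr hf⟩ * ⟨x, hx⟩⁻¹ := Subtype.ext he
  rw [e, map_mul, map_mul, map_inv, (h.theta_eq_one_iff fr ⟨f, h.qIn_le fr hf⟩).mpr hf, mul_one, mul_inv_cancel]

end Hyp3

end CfsgLib.ExtFieldOrth
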