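import Mathlib
import Cfsg.Agent.Lib.ExtFieldOrth.ThreePointBase
import Cfsg.Agent.Lib.ExtFieldOrth.ThreeCosets
import Cfsg.Agent.Lib.ExtFieldOrth.ThreeAux

/-!
Dimension three, away from the field with three elements: a member of `G` fixing a singular vector
stabilises its line.
-/

set_option autoImplicit false
set_option linter.unusedSectionVars false
set_option linter.style.haveILetI false
set_option linter.unusedVariables false
set_option linter.unusedSimpArgs false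

namespace CfsgLib.ExtFieldOrth

open Module

/-- Powers of a product when the commutator is central. -/
lemma mul_pow_of_central {X : Type*} [Group X] {x y c : X} (hc : y * x = c * x * y) (hcx : Commute c x)
    (hcy : Commute c y) (n : ℕ) : (x * y) ^ n = x ^ n * y ^ n * c ^ n.choose 2 := by
  have hyn : ∀ k : ℕ, y ^ k * x = x * y ^ k * c ^ k := by
    intro k
    induction k with
    | zero => simp
    | succ k ih =>
      rw [pow_succ y k, mul_assoc, hc, mul_assoc c, hcx.left_comm, ← mul_assoc (y ^ k), ih]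
      rw [hcy.eq, pow_succ c]
      simp only [mul_assoc]
      rw [← mul_assoc y, ← (hcy.pow_left k).eq, mul_assoc (c ^ k)]
  induction n with
  | zero => simp
  | succ n ih =>
    rw [pow_succ, ih, mul_assoc (x ^ n * y ^ n), ((hcx.pow_left _).mul_right (hcy.pow_left _)).eq,
      ← mul_assoc, ← mul_assoc, mul_assoc (x ^ n), hyn, pow_succ x, pow_succ y]
    rw [show n.succ.choose 2 = n + n.choose 2 by rw [Nat.choose_succ_succ, Nat.choose_one_right], pow_add]
    simp only [mul_assoc]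
    rw [← mul_assoc (c ^ n) y, (hcy.pow_left n).eq, mul_assoc]

variable {F K V : Type*} [Field F] [Field K] [Algebra F K] [AddCommGroup V] [Module F V]
  [Module K V] [IsScalarTower F K V]
variable {B : V →ₗ[K] V →ₗ[K] K} {G : Subgroup (AutV F V)}

namespace Hyp3

variable [Fintype F] [FiniteDimensional F K] [Algebra.IsSeparable F K] [FiniteDimensional F V]
variable (h : Hyp3 B G)
include h

variable {u v w : V}

lemma exists_zpow_mul (fr : IsFrame B u v w) (γ : ↥(lineStab K G u)) (hγ : h.theta fr γ ≠ 1)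
    {x : ↥(fixer G u)} (hx : x ∈ lineStab K G u) :
    ∃ i : ℤ, ((γ : ↥(fixer G u)) ^ i)⁻¹ * x ∈ h.qIn fr := by
  haveI : Finite K := Module.finite_of_finite F
  haveI := Fact.mk h.hyp.prime
  obtain ⟨i, hi⟩ := mem_zpowers_of_prime_card (g' := h.theta fr ⟨x, hx⟩) (p := finrank F K)
    (IsGalois.card_aut_eq_finrank F K) hγ
  refine ⟨i, ?_⟩
  have := (h.theta_eq_one_iff fr ((γ ^ i)⁻¹ * ⟨x, hx⟩)).mp (by
    rw [map_mul, map_inv, map_zpow]; exact inv_mul_eq_one.mpr hi)
  simpa using this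

/-- The case of equal primes. -/
theorem point_eq (fr : IsFrame B u v w) (p : ℕ) [Fact p.Prime] [CharP F p] (hpr : p = finrank F K)
    (hq : 5 ≤ p ∨ ¬ (Nat.card F).Prime) :
    lineStab K G u = ⊤ := by
  classical
  haveI := h.finG
  haveI : Finite K := Module.finite_of_finite F
  haveI := Fact.mk h.hyp.prime
  have hcard : Nat.card (K ≃ₐ[F] K) = p := by rw [hpr]; exact IsGalois.card_aut_eq_finrank F K
  letI : CommGroup (K ≃ₐ[F] K) :=
    haveI := isCyclic_of_prime_card hcard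
    IsCyclic.commGroup
  set P1 := lineStab K G u with hP1
  haveI : P1.FiniteIndex := ⟨Subgroup.index_ne_zero_of_finite⟩
  have hpe : ∀ a : K ≃ₐ[F] K, a ^ p = 1 := fun a => by rw [← hcard]; exact pow_card_eq_one'
  set φ : ↥P1 →* (K ≃ₐ[F] K) := h.theta fr with hφ
  set Tr := MonoidHom.transfer φ with hTr
  have hdeg : 3 < finrank F K ∨ 3 < Nat.card F := by
    rcases hq with h5 | hnp
    · exact Or.inl (by omega)
    refine Or.inr ?_
    obtain ⟨e, -, he⟩ := FiniteField.card F p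
    rw [Nat.card_eq_fintype_card, he] at hnp ⊢
    have h3 := h.char_ge p
    have he2 : 2 ≤ (e : ℕ) := by
      rcases Nat.lt_or_ge (e : ℕ) 2 with h1 | h1
      · exact absurd (by rw [show (e : ℕ) = 1 by have := e.pos; omega, pow_one]; exact Fact.out) hnp
      · exact h1
    calc 3 < 3 ^ 2 := by norm_num
      _ ≤ p ^ 2 := Nat.pow_le_pow_left h3 2
      _ ≤ p ^ (e : ℕ) := Nat.pow_le_pow_right (by omega) he2
  have hone : ∀ (x f : ↥(fixer G u)) (hx : x⁻¹ * f * x ∈ P1), f ∈ h.qIn fr → φ ⟨_, hx⟩ = 1 := fun x f hx hf =>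
    (h.theta_eq_one_iff fr ⟨_, hx⟩).mpr (h.mem_qIn_of_conj fr hdeg hx hf (x := x⁻¹) (by simp))
  have key : ∀ g : ↥P1, Tr (g : ↥(fixer G u)) = φ g := by
    intro g
    letI := Fintype.ofFinite (Quotient (MulAction.orbitRel (Subgroup.zpowers (g : ↥(fixer G u))) (↥(fixer G u) ⧸ P1)))
    rw [hTr, MonoidHom.transfer_eq_prod_quotient_orbitRel_zpowers_quot]
    set val : (Quotient (MulAction.orbitRel (Subgroup.zpowers (g : ↥(fixer G u))) (↥(fixer G u) ⧸ P1))) → (K ≃ₐ[F] K) := fun q =>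
      φ ⟨q.out.out⁻¹ * (g : ↥(fixer G u)) ^ Function.minimalPeriod ((g : ↥(fixer G u)) • ·) q.out * q.out.out,
        QuotientGroup.out_conj_pow_minimalPeriod_mem P1 (g : ↥(fixer G u)) q.out⟩ with hval
    show ∏ q, val q = φ g
    by_cases hg : φ g = 1
    · rw [hg]
      exact Finset.prod_eq_one fun q _ =>
        hone _ _ _ ((h.qIn fr).pow_mem ((h.theta_eq_one_iff fr g).mp hg) _)
    obtain ⟨ψ₀, hψQ, hψc, hψd⟩ := h.exists_central fr g hg
    set f₀ := ψ₀ (Multiplicative.ofAdd (1 : F)) with hf₀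
    have hf₀Q : f₀ ∈ h.qIn fr := hψQ _
    have hf₀d : del B v w (f₀ : AutV F V) ≠ 0 := hψd _ (fun e => one_ne_zero (α := F) (congrArg Multiplicative.toAdd e))
    have hgp : (g : ↥(fixer G u)) ^ p ∈ h.qIn fr := by
      have := (h.theta_eq_one_iff fr (g ^ p)).mp (by rw [map_pow]; exact hpe _)
      simpa using this
    have hgpp : (g : ↥(fixer G u)) ^ (p ^ 2) = 1 := by
      rw [pow_two, pow_mul]; exact h.qIn_pow fr p hgp
    have hper : ∀ c : ↥(fixer G u) ⧸ P1, Function.minimalPeriod ((g : ↥(fixer G u)) • ·) c = 1 ∨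
        p ∣ Function.minimalPeriod ((g : ↥(fixer G u)) • ·) c := by
      intro c
      have hd : Function.minimalPeriod ((g : ↥(fixer G u)) • ·) c ∣ p ^ 2 := by
        refine Function.IsPeriodicPt.minimalPeriod_dvd ?_
        show ((g : ↥(fixer G u)) • ·)^[p ^ 2] c = c
        rw [smul_iterate, hgpp]; exact one_smul ↥(fixer G u) c
      obtain ⟨j, -, hj⟩ := (Nat.dvd_prime_pow Fact.out).mp hd
      rcases j with _ | j
      · exact Or.inl (by rw [hj, pow_zero])
      · exact Or.inr (by rw [hj]; exact dvd_pow_self p j.succ_ne_zero)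
    have hlong : ∀ q, Function.minimalPeriod ((g : ↥(fixer G u)) • ·) (Quotient.out q : ↥(fixer G u) ⧸ P1) ≠ 1 → val q = 1 := by
      intro q hq
      obtain ⟨t, ht⟩ := (hper _).resolve_left hq
      refine hone _ _ _ ?_
      rw [ht, pow_mul]
      exact (h.qIn fr).pow_mem hgp t
    have hfix : ∀ c : ↥(fixer G u) ⧸ P1, (g : ↥(fixer G u)) • c = c → c.out⁻¹ * (g : ↥(fixer G u)) * c.out ∈ P1 := fun c hc => by
      rw [mul_assoc, ← QuotientGroup.eq, QuotientGroup.out_eq']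
      conv_lhs => rw [← hc, ← QuotientGroup.out_eq' c]
      rfl
    let S := {c : ↥(fixer G u) ⧸ P1 // (g : ↥(fixer G u)) • c = c}
    let ψ : S → (K ≃ₐ[F] K) := fun c => φ ⟨_, hfix c.1 c.2⟩
    letI := Fintype.ofFinite (↥(fixer G u) ⧸ P1)
    have h1 : ∏ q, val q = ∏ c : S, ψ c := by
      have hzero : ∀ c : ↥(fixer G u) ⧸ P1, (g : ↥(fixer G u)) • c = c →
          (Quotient.mk'' c : Quotient (MulAction.orbitRel (Subgroup.zpowers (g : ↥(fixer G u))) (↥(fixer G u) ⧸ P1))).out = c := by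
        intro c hc
        obtain ⟨⟨k, ⟨n, rfl⟩⟩, hk⟩ := MulAction.orbitRel_apply.mp (Quotient.exact'
          (Quotient.out_eq' (Quotient.mk'' c : Quotient (MulAction.orbitRel (Subgroup.zpowers (g : ↥(fixer G u))) (↥(fixer G u) ⧸ P1)))))
        rw [← hk]
        exact MulAction.mem_stabilizer_iff.mp
          (zpow_mem (MulAction.mem_stabilizer_iff.mpr hc : (g : ↥(fixer G u)) ∈ MulAction.stabilizer ↥(fixer G u) c) n)
      rw [← Finset.prod_filter_of_ne (p := fun q => Function.minimalPeriod ((g : ↥(fixer G u)) • ·) (Quotient.out q : ↥(fixer G u) ⧸ P1) = 1)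
        (fun q _ hne => by by_contra hh; exact hne (hlong q hh))]
      refine Finset.prod_bij'
        (fun q hq => (⟨q.out, Function.minimalPeriod_eq_one_iff_isFixedPt.mp (Finset.mem_filter.mp hq).2⟩ : S))
        (fun c _ => Quotient.mk'' c.1) (fun q _ => Finset.mem_univ _) (fun c _ => ?_) (fun q _ => Quotient.out_eq' q)
        (fun c _ => Subtype.ext (hzero c.1 c.2)) (fun q hq => ?_)
      · refine Finset.mem_filter.mpr ⟨Finset.mem_univ _, ?_⟩
        rw [Function.minimalPeriod_eq_one_iff_isFixedPt]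
        show (g : ↥(fixer G u)) • _ = _
        rw [hzero c.1 c.2, c.2]
      · simp only [hval, ψ]
        congr 1
        ext1
        simp only [(Finset.mem_filter.mp hq).2, pow_one]
    set base : ↥(fixer G u) ⧸ P1 := ((1 : ↥(fixer G u)) : ↥(fixer G u) ⧸ P1) with hbase
    have hbasefix : (g : ↥(fixer G u)) • base = base := by
      show (((g : ↥(fixer G u)) * 1 : ↥(fixer G u)) : ↥(fixer G u) ⧸ P1) = ((1 : ↥(fixer G u)) : ↥(fixer G u) ⧸ P1)
      rw [mul_one, eq_comm, QuotientGroup.eq, inv_one, one_mul]; exact g.2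
    have hσ : ∀ c : ↥(fixer G u) ⧸ P1, (g : ↥(fixer G u)) • c = c → (g : ↥(fixer G u)) • (f₀ • c) = f₀ • c := fun c hc => by
      rw [← mul_smul, ← hψc, mul_smul, hc]
    have hmove : ∀ c : ↥(fixer G u) ⧸ P1, f₀ • c = c → c = base := fun c hc => by
      have h2 : c.out⁻¹ * f₀ * c.out ∈ P1 := by
        rw [mul_assoc, ← QuotientGroup.eq, QuotientGroup.out_eq']
        conv_lhs => rw [← hc, ← QuotientGroup.out_eq' c]
        rfl
      have h3 := h.mem_lineStab_of_conj fr hf₀Q hf₀d (h.mem_qIn_of_conj fr hdeg h2 hf₀Q (x := c.out⁻¹) (by simp))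
      rw [← QuotientGroup.out_eq' c, hbase, eq_comm, QuotientGroup.eq, inv_one, one_mul]
      exact h3
    have hbase0 : f₀ • base = base := by
      show ((f₀ * 1 : ↥(fixer G u)) : ↥(fixer G u) ⧸ P1) = ((1 : ↥(fixer G u)) : ↥(fixer G u) ⧸ P1)
      rw [mul_one, eq_comm, QuotientGroup.eq, inv_one, one_mul]
      exact h.qIn_le fr hf₀Q
    have hcomm : ∀ (a : ↥P1) (b : ↥P1), φ (b⁻¹ * a * b) = φ a := fun a b => by
      rw [map_mul, map_mul, map_inv, mul_comm, ← mul_assoc, mul_inv_cancel, one_mul]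
    rw [h1, ← Fintype.prod_subtype_mul_prod_subtype (fun c : S => c.1 = base) ψ]
    have hA : ∏ c : {c : S // c.1 = base}, ψ c = φ g := by
      letI : Unique {c : S // c.1 = base} :=
        ⟨⟨⟨⟨base, hbasefix⟩, rfl⟩⟩, fun c => Subtype.ext (Subtype.ext c.2)⟩
      rw [Fintype.prod_unique]
      have hmem : base.out ∈ P1 := by
        have := QuotientGroup.out_eq' base
        rw [hbase, eq_comm, QuotientGroup.eq, inv_one, one_mul] at this
        exact this
      show φ ⟨_, hfix base hbasefix⟩ = φ g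
      rw [← hcomm g ⟨base.out, hmem⟩]
      congr 1
    have hB : ∏ c : {c : S // ¬ c.1 = base}, ψ c = 1 := by
      let σ : Equiv.Perm {c : S // ¬ c.1 = base} :=
        { toFun := fun c => ⟨⟨f₀ • c.1.1, hσ _ c.1.2⟩, fun e => c.2 (MulAction.injective f₀ (e.trans hbase0.symm))⟩
          invFun := fun c => ⟨⟨f₀⁻¹ • c.1.1, by
              rw [← mul_smul, ← (show Commute f₀ (g : ↥(fixer G u)) from hψc _).inv_left.eq, mul_smul, c.1.2]⟩,
            fun e => c.2 ((inv_smul_eq_iff.mp e).trans hbase0)⟩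
          left_inv := fun c => Subtype.ext (Subtype.ext (inv_smul_smul _ _))
          right_inv := fun c => Subtype.ext (Subtype.ext (smul_inv_smul _ _)) }
      have hpow : ∀ (n : ℕ) c, (((σ ^ n) c).1).1 = f₀ ^ n • c.1.1 := by
        intro n
        induction n with
        | zero => intro c; simp
        | succ n ih =>
          intro c
          rw [pow_succ', pow_succ', mul_smul, ← ih]; rfl
      refine prod_eq_one_of_perm σ ?_ (fun c e => c.2 (hmove _ (congrArg (fun d => d.1.1) e))) (fun c => ψ c.1)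
        (fun c => ?_) (fun c => hpe _)
      · refine Equiv.ext fun c => Subtype.ext (Subtype.ext ?_)
        rw [hpow, h.qIn_pow fr p hf₀Q, one_smul]; rfl
      · set c₀ := c.1.1 with hc₀
        have hb : (f₀ * c₀.out)⁻¹ * (f₀ • c₀).out ∈ P1 := by
          rw [← QuotientGroup.eq, QuotientGroup.out_eq']
          conv_rhs => rw [← QuotientGroup.out_eq' c₀]
          rfl
        show φ ⟨_, hfix (f₀ • c₀) (hσ _ c.1.2)⟩ = φ ⟨_, hfix c₀ c.1.2⟩
        rw [← hcomm ⟨_, hfix c₀ c.1.2⟩ ⟨_, hb⟩]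
        congr 1
        ext1
        push_cast
        rw [show c₀.out⁻¹ * (g : ↥(fixer G u)) * c₀.out = (f₀ * c₀.out)⁻¹ * (g : ↥(fixer G u)) * (f₀ * c₀.out) by
          rw [mul_inv_rev, mul_assoc (c₀.out⁻¹ * f₀⁻¹), ← mul_assoc (g : ↥(fixer G u)) f₀, ← hψc]
          rw [← hf₀]; group]
        group
    rw [hA, hB, mul_one]
  refine h.all_of_normal fr p Tr.ker (MonoidHom.normal_ker _) (fun x hx => ?_) fun x hx => ?_
  · show Tr x = 1
    exact (key ⟨x, h.qIn_le fr hx⟩).trans ((h.theta_eq_one_iff fr ⟨x, h.qIn_le fr hx⟩).mpr hx)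
  · exact (h.theta_eq_one_iff fr ⟨x, hx.2⟩).mp ((key ⟨x, hx.2⟩).symm.trans hx.1)

/-- An `r`-group of members commuting with a Galois element, normalised by a member moving `w` that
centralises nothing more, is generated by that element. -/
theorem rGroup_le (fr : IsFrame B u v w) (p : ℕ) [Fact p.Prime] [CharP F p] (hp5 : 5 ≤ p)
    (hpr : p ≠ finrank F K) (γ : ↥(lineStab K G u)) (hγ : h.theta fr γ ≠ 1)
    (hγr : (γ : ↥(fixer G u)) ^ finrank F K = 1) {f₀ : ↥(fixer G u)} (hf₀ : f₀ ∈ h.qIn fr)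
    (R : Subgroup ↥(fixer G u)) (hR : IsPGroup (finrank F K) R)
    (hγR : (γ : ↥(fixer G u)) ∈ R) (hcγ : ∀ x ∈ R, Commute (γ : ↥(fixer G u)) x)
    (hfR : ∀ x ∈ R, f₀ * x * f₀⁻¹ ∈ R) (hfγ : Commute f₀ (γ : ↥(fixer G u)))
    (hfix : ∀ x ∈ R, f₀ * x = x * f₀ → x ∈ Subgroup.zpowers (γ : ↥(fixer G u))) :
    R ≤ Subgroup.zpowers (γ : ↥(fixer G u)) := by
  classical
  haveI := h.finG
  haveI : Finite K := Module.finite_of_finite F
  set r := finrank F K with hr
  haveI := Fact.mk h.hyp.prime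
  set Γ := Subgroup.zpowers (γ : ↥(fixer G u)) with hΓ
  have hΓR : Γ ≤ R := Subgroup.zpowers_le.mpr hγR
  have hcΓ : ∀ c ∈ Γ, ∀ x ∈ R, Commute c x := by
    rintro _ ⟨i, rfl⟩ x hx; exact (hcγ x hx).zpow_left i
  have hΓr : ∀ c ∈ Γ, c ^ r = 1 := by
    rintro _ ⟨i, rfl⟩
    show ((γ : ↥(fixer G u)) ^ i) ^ r = 1
    rw [← zpow_natCast, zpow_comm, zpow_natCast, hγr, one_zpow]
  have hordγ : orderOf (γ : ↥(fixer G u)) = r := orderOf_eq_prime hγr fun e => hγ (by
    rw [show γ = 1 from Subtype.ext e, map_one])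
  have hcardΓ : Nat.card Γ = r := (Nat.card_zpowers _).trans hordγ
  by_contra hne
  let T : Set ↥(fixer G u) := {x | x ∈ R ∧ x ^ r ∈ Γ ∧ ∀ y ∈ R, x * y * x⁻¹ * y⁻¹ ∈ Γ}
  -- T exceeds Γ
  obtain ⟨x₁, hx₁, hx₁Γ⟩ : ∃ x, x ∈ T ∧ x ∉ Γ := by
    haveI hN : (Γ.subgroupOf R).Normal := ⟨fun n hn x => by
      have e : x * n * x⁻¹ = n := by
        rw [← (show Commute n x from Subtype.ext (hcΓ _ hn x x.2).eq).eq, mul_inv_cancel_right]
      rw [e]; exact hn⟩
    have hQ : IsPGroup r (↥R ⧸ Γ.subgroupOf R) := hR.to_quotient _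
    haveI : Nontrivial (↥R ⧸ Γ.subgroupOf R) := QuotientGroup.nontrivial_iff.mpr
      fun e => hne (Subgroup.subgroupOf_eq_top.mp e)
    haveI := hQ.center_nontrivial
    obtain ⟨n, hn0, hn⟩ := (hQ.to_subgroup (Subgroup.center _)).nontrivial_iff_card.mp ‹_›
    obtain ⟨z, hz⟩ := exists_prime_orderOf_dvd_card' (G := Subgroup.center (↥R ⧸ Γ.subgroupOf R)) r
      (hn ▸ dvd_pow_self r hn0.ne')
    obtain ⟨x, hx⟩ := QuotientGroup.mk_surjective (z : ↥R ⧸ Γ.subgroupOf R)
    refine ⟨x, ⟨x.2, ?_, fun y hy => ?_⟩, fun hxΓ => ?_⟩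
    · have : ((x ^ r : ↥R) : ↥R ⧸ Γ.subgroupOf R) = 1 := by
        rw [QuotientGroup.mk_pow, hx, ← Subgroup.coe_pow, ← hz, pow_orderOf_eq_one]; rfl
      simpa using Subgroup.mem_subgroupOf.mp ((QuotientGroup.eq_one_iff _).mp this)
    · have : ((x * ⟨y, hy⟩ * x⁻¹ * ⟨y, hy⟩⁻¹ : ↥R) : ↥R ⧸ Γ.subgroupOf R) = 1 := by
        rw [QuotientGroup.mk_mul, QuotientGroup.mk_mul, QuotientGroup.mk_mul, QuotientGroup.mk_inv,
          QuotientGroup.mk_inv, hx, ← Subgroup.mem_center_iff.mp z.2, mul_assoc _ (z : ↥R ⧸ Γ.subgroupOf R),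
          mul_inv_cancel, mul_one, mul_inv_cancel]
      simpa using Subgroup.mem_subgroupOf.mp ((QuotientGroup.eq_one_iff _).mp this)
    · have : ((x : ↥R) : ↥R ⧸ Γ.subgroupOf R) = 1 := (QuotientGroup.eq_one_iff _).mpr hxΓ
      rw [hx] at this
      rw [show z = 1 from Subtype.ext this, orderOf_one] at hz
      exact h.hyp.prime.ne_one hz.symm
  by_cases hab : ∀ a ∈ T, ∀ b ∈ T, a * b = b * a
  · set A := Subgroup.closure T with hA
    have hAR : A ≤ R := (Subgroup.closure_le R).mpr fun x hx => hx.1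
    have hAcomm : ∀ a ∈ A, ∀ b ∈ A, a * b = b * a := by
      have h1 : A ≤ Subgroup.centralizer T := (Subgroup.closure_le _).mpr fun a ha b hb => hab b hb a ha
      intro a ha b hb
      have h2 : A ≤ Subgroup.centralizer (A : Set ↥(fixer G u)) := by
        rw [hA, Subgroup.centralizer_closure]
        exact (Subgroup.closure_le _).mpr fun a ha => fun b hb => hab b hb a ha
      exact (h2 hb a ha)
    let ι : ↥(fixer G u) →* AutV F V := (fixer G u).subtype
    have hconjT : ∀ x ∈ T, f₀ * x * f₀⁻¹ ∈ T := by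
      rintro x ⟨hxR, hxr, hxc⟩
      refine ⟨hfR x hxR, ?_, fun y hy => ?_⟩
      · obtain ⟨i, hi⟩ := hxr
        refine ⟨i, ?_⟩
        change (γ : ↥(fixer G u)) ^ i = x ^ r at hi
        show (γ : ↥(fixer G u)) ^ i = _
        rw [conj_pow, ← hi, (hfγ.zpow_right i).eq, mul_inv_cancel_right]
      · obtain ⟨⟨y', hy'⟩, hyy⟩ := (Finite.injective_iff_surjective
          (f := fun a : R => (⟨f₀ * a * f₀⁻¹, hfR a a.2⟩ : R))).mp
          (fun a b e => Subtype.ext (by simpa using congrArg Subtype.val e)) ⟨y, hy⟩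
        have hy2 : f₀ * y' * f₀⁻¹ = y := congrArg Subtype.val hyy
        obtain ⟨i, hi⟩ := hxc y' hy'
        refine ⟨i, ?_⟩
        change (γ : ↥(fixer G u)) ^ i = _ at hi
        show (γ : ↥(fixer G u)) ^ i = _
        rw [← hy2, show f₀ * x * f₀⁻¹ * (f₀ * y' * f₀⁻¹) * (f₀ * x * f₀⁻¹)⁻¹ * (f₀ * y' * f₀⁻¹)⁻¹ =
          f₀ * (x * y' * x⁻¹ * y'⁻¹) * f₀⁻¹ by group, ← hi, (hfγ.zpow_right i).eq, mul_inv_cancel_right]
    have hAf : ∀ a ∈ A, f₀ * a * f₀⁻¹ ∈ A := by
      have : A ≤ A.comap (MulAut.conj f₀).toMonoidHom :=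
        (Subgroup.closure_le _).mpr fun x hx => Subgroup.subset_closure (hconjT x hx)
      exact fun a ha => this ha
    obtain ⟨n, hn⟩ := (hR.to_le hAR).exists_card_eq
    have hcom := commute_of_unipotent (F := F) (V := V) (Fact.out : p.Prime) hp5 (f := (f₀ : AutV F V))
      (h.unipotent fr.uu hf₀) (A.map ι)
      (by rintro _ ⟨a, ha, rfl⟩ _ ⟨b, hb, rfl⟩; rw [← map_mul, hAcomm a ha b hb, map_mul])
      (by
        rw [Subgroup.card_map_of_injective (fixer G u).subtype_injective, hn]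
        exact ((Nat.coprime_primes h.hyp.prime Fact.out).mpr (Ne.symm hpr)).pow_left n)
      (by rintro _ ⟨a, ha, rfl⟩; exact ⟨_, hAf a ha, by simp [ι]⟩)
    have hx1A : x₁ ∈ A := Subgroup.subset_closure hx₁
    exact hx₁Γ (hfix x₁ hx₁.1 (Subtype.ext (hcom _ (Subgroup.mem_map_of_mem ι hx1A))))
  simp only [not_forall] at hab
  obtain ⟨a, ha, b, hb, hne'⟩ := hab
  obtain ⟨z, w', hzR, hwR, hzr, hz1, hzc⟩ : ∃ z w', z ∈ R ∧ w' ∈ R ∧ z ^ r = 1 ∧
      w' * z * w'⁻¹ * z⁻¹ ≠ 1 ∧ w' * z * w'⁻¹ * z⁻¹ ∈ Γ := by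
    have hne2 : a * b * a⁻¹ * b⁻¹ ≠ 1 := fun e => hne' (by
      rw [mul_inv_eq_one, mul_inv_eq_iff_eq_mul] at e; exact e)
    by_cases har : a ^ r = 1
    · refine ⟨a, b, ha.1, hb.1, har, fun e => hne' ?_, hb.2.2 a ha.1⟩
      rw [mul_inv_eq_one, mul_inv_eq_iff_eq_mul] at e
      exact e.symm
    · have hgen : ∀ c ∈ Γ, c ∈ Subgroup.zpowers (a ^ r) := fun c hc => by
        obtain ⟨k, hk⟩ := mem_zpowers_of_prime_card (g := (⟨a ^ r, ha.2.1⟩ : Γ)) (g' := ⟨c, hc⟩) hcardΓ
          (fun e => har (congrArg Subtype.val e))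
        exact ⟨k, by simpa using congrArg Subtype.val hk⟩
      obtain ⟨t, ht⟩ := hgen _ hb.2.1
      change (a ^ r) ^ t = b ^ r at ht
      refine ⟨a ^ (-t) * b, a, R.mul_mem (R.zpow_mem ha.1 _) hb.1, ha.1, ?_, ?_, ?_⟩
      · set c := b * a ^ (-t) * b⁻¹ * (a ^ (-t))⁻¹ with hc
        have hcΓ' : c ∈ Γ := hb.2.2 _ (R.zpow_mem ha.1 _)
        rw [mul_pow_of_central (c := c) (by rw [hc]; group) (hcΓ _ hcΓ' _ (R.zpow_mem ha.1 _))
          (hcΓ _ hcΓ' _ hb.1)]
        obtain ⟨j, hj⟩ := h.hyp.prime.dvd_choose_self (k := 2) two_ne_zero (by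
          have := h.three_le; omega)
        rw [hj, pow_mul, hΓr c hcΓ', one_pow, mul_one, ← zpow_natCast (a ^ (-t)), ← zpow_mul, mul_comm (-t),
          zpow_mul, zpow_natCast, zpow_neg, ← ht, inv_mul_cancel]
      · have e : a * (a ^ (-t) * b) * a⁻¹ * (a ^ (-t) * b)⁻¹ = a ^ (-t) * (a * b * a⁻¹ * b⁻¹) * (a ^ (-t))⁻¹ := by
          group
        rw [e]
        intro e1
        rw [mul_inv_eq_one, mul_eq_left] at e1
        exact hne2 e1
      · have e : a * (a ^ (-t) * b) * a⁻¹ * (a ^ (-t) * b)⁻¹ = a ^ (-t) * (a * b * a⁻¹ * b⁻¹) * (a ^ (-t))⁻¹ := by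
          group
        rw [e, ← (hcΓ _ (ha.2.2 b hb.1) _ (R.zpow_mem ha.1 (-t))).eq, mul_inv_cancel_right]
        exact ha.2.2 b hb.1
  set c := w' * z * w'⁻¹ * z⁻¹ with hc
  let ι : ↥(fixer G u) →* AutV F V := (fixer G u).subtype
  have hrF : (r : F) ≠ 0 := fun e => hpr
    ((Nat.prime_dvd_prime_iff_eq Fact.out h.hyp.prime).mp ((CharP.cast_eq_zero_iff F p r).mp e))
  have hd := dvd_finrank_ker_sum (V := V) h.hyp.prime hrF (c := ι c) (z := ι z) (w := ι w')
    (by rw [← map_pow, hΓr c hzc, map_one]) (by rw [← map_pow, hzr, map_one])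
    ((hcΓ c hzc z hzR).map ι) ((hcΓ c hzc w' hwR).map ι)
    (by rw [← map_mul, ← map_mul, ← map_mul]; congr 1; rw [hc]; group)
  have hsum := finrank_ker_sum_add (V := V) hrF (c := ι c) (by rw [← map_pow, hΓr c hzc, map_one])
  -- the fixed space
  have hdim : finrank F V = r * 3 := by
    rw [← Module.finrank_mul_finrank F K V, h.dim]
  have hγc : (γ : ↥(fixer G u)) ∈ Subgroup.zpowers c := by
    obtain ⟨k, hk⟩ := mem_zpowers_of_prime_card (g := (⟨c, hzc⟩ : Γ))
      (g' := ⟨(γ : ↥(fixer G u)), Subgroup.mem_zpowers _⟩) hcardΓ (fun e => hz1 (congrArg Subtype.val e))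
    exact ⟨k, by simpa using congrArg Subtype.val hk⟩
  have hle : LinearMap.ker (((ι c : AutV F V) : V →ₗ[F] V) - 1) ≤
      LinearMap.ker (((ι (γ : ↥(fixer G u)) : AutV F V) : V →ₗ[F] V) - 1) := by
    intro x hx
    have hcx : ι c x = x := sub_eq_zero.mp (LinearMap.mem_ker.mp hx)
    obtain ⟨k, hk⟩ := hγc
    change c ^ k = (γ : ↥(fixer G u)) at hk
    refine LinearMap.mem_ker.mpr (sub_eq_zero.mpr ?_)
    show ι (γ : ↥(fixer G u)) x = x
    rw [← hk, map_zpow]
    exact MulAction.mem_stabilizer_iff.mp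
      (zpow_mem (MulAction.mem_stabilizer_iff.mpr hcx : ι c ∈ MulAction.stabilizer (AutV F V) x) k)
  have h3 := (Submodule.finrank_mono hle).trans (h.fixed_small fr γ.1.2.1 (h.theta_apply fr γ) hγ)
  have h1 : 1 ≤ finrank F (LinearMap.ker (((ι c : AutV F V) : V →ₗ[F] V) - 1)) := by
    refine Submodule.one_le_finrank_iff.mpr fun e => fr.u0 ((Submodule.eq_bot_iff _).mp e u ?_)
    exact LinearMap.mem_ker.mpr (sub_eq_zero.mpr c.2.2)
  rw [hdim] at hsum
  have h4 : r ∣ finrank F (LinearMap.ker (((ι c : AutV F V) : V →ₗ[F] V) - 1)) :=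
    (Nat.dvd_add_right hd).mp (hsum ▸ dvd_mul_right r 3)
  have h5 := Nat.le_of_dvd h1 h4
  have hr3 : r = 3 := by have := h.three_le; omega
  have hk3 : finrank F (LinearMap.ker (((ι c : AutV F V) : V →ₗ[F] V) - 1)) = 3 := by omega
  -- degree three: the elements of `T` form a group with too few cosets
  have hc1 : c ≠ 1 := hz1
  have hordc : orderOf c = 3 := hr3 ▸ orderOf_eq_prime (hΓr c hzc) hc1
  have hΓc : Γ = Subgroup.zpowers c :=
    le_antisymm (Subgroup.zpowers_le.mpr hγc) (Subgroup.zpowers_le.mpr hzc)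
  have hcommuteΓ : ∀ x ∈ R, ∀ y ∈ R, x * y * x⁻¹ * y⁻¹ ∈ Γ → ∃ d ∈ Γ, x * y = d * y * x := fun x hx y hy hxy =>
    ⟨_, hxy, by group⟩
  let T' : Subgroup ↥(fixer G u) :=
    { carrier := T
      one_mem' := ⟨R.one_mem, by rw [one_pow]; exact Γ.one_mem, fun y hy => by simp⟩
      mul_mem' := by
        rintro a b ⟨ha, har, hac⟩ ⟨hb, hbr, hbc⟩
        refine ⟨R.mul_mem ha hb, ?_, fun y hy => ?_⟩
        · obtain ⟨d, hd, hd'⟩ := hcommuteΓ b hb a ha (hbc a ha)
          rw [mul_pow_of_central hd' (hcΓ d hd a ha) (hcΓ d hd b hb)]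
          exact Γ.mul_mem (Γ.mul_mem har hbr) (Γ.pow_mem hd _)
        · have e : a * b * y * (a * b)⁻¹ * y⁻¹ = a * (b * y * b⁻¹ * y⁻¹) * a⁻¹ * (a * y * a⁻¹ * y⁻¹) := by group
          rw [e, ← (hcΓ _ (hbc y hy) a ha).eq, mul_inv_cancel_right]
          exact Γ.mul_mem (hbc y hy) (hac y hy)
      inv_mem' := by
        rintro a ⟨ha, har, hac⟩
        refine ⟨R.inv_mem ha, by rw [inv_pow]; exact Γ.inv_mem har, fun y hy => ?_⟩
        have e : a⁻¹ * y * a⁻¹⁻¹ * y⁻¹ = a⁻¹ * (a * y * a⁻¹ * y⁻¹)⁻¹ * a := by group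
        rw [e, ← (hcΓ _ (Γ.inv_mem (hac y hy)) _ (R.inv_mem ha)).eq, inv_mul_cancel_right]
        exact Γ.inv_mem (hac y hy) }
  have hconjR : ∀ y ∈ R, ∃ y' ∈ R, f₀ * y' * f₀⁻¹ = y := fun y hy => by
    obtain ⟨⟨y', hy'⟩, hyy⟩ := (Finite.injective_iff_surjective
      (f := fun a : R => (⟨f₀ * a * f₀⁻¹, hfR a a.2⟩ : R))).mp
      (fun a b e => Subtype.ext (by simpa using congrArg Subtype.val e)) ⟨y, hy⟩
    exact ⟨y', hy', congrArg Subtype.val hyy⟩
  have hfΓ : ∀ d ∈ Γ, f₀ * d * f₀⁻¹ = d := by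
    rintro _ ⟨i, rfl⟩
    rw [(hfγ.zpow_right i).eq, mul_inv_cancel_right]
  have hfT : ∀ x ∈ T', f₀ * x * f₀⁻¹ ∈ T' := by
    rintro x ⟨hxR, hxr, hxc⟩
    refine ⟨hfR x hxR, ?_, fun y hy => ?_⟩
    · rw [conj_pow, hfΓ _ hxr]; exact hxr
    · obtain ⟨y', hy', rfl⟩ := hconjR y hy
      have e : f₀ * x * f₀⁻¹ * (f₀ * y' * f₀⁻¹) * (f₀ * x * f₀⁻¹)⁻¹ * (f₀ * y' * f₀⁻¹)⁻¹ =
          f₀ * (x * y' * x⁻¹ * y'⁻¹) * f₀⁻¹ := by group
      rw [e, hfΓ _ (hxc y' hy')]; exact hxc y' hy'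
  have hT'R : T' ≤ R := fun x hx => hx.1
  refine hx₁Γ (hΓc ▸ le_zpowers_of_fixed_free ι (fixer G u).subtype_injective
    (by intro e; apply hrF; rw [hr3]; exact_mod_cast e) (by rw [hdim, hr3]) hordc hk3
    ?_ T' (hr3 ▸ hR.to_le hT'R) ?_ (fun x hx => hcΓ c hzc x hx.1)
    (fun x hx y hy => hΓc ▸ hx.2.2 y hy.1) ?_ hp5 (h.qIn_pow fr p hf₀) hfT ?_
    (fun x hx e => hΓc ▸ hfix x hx.1 e) hx₁)
  · -- the scalar case would make the moved space totally isotropic
    intro l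
    by_contra hl
    simp only [not_exists, not_not] at hl
    set C : AutV F V := ι c with hC
    let φ : V → V → F := fun a b => Algebra.trace F K (B a b)
    have hφC : ∀ a b, φ (C a) (C b) = φ a b := h.hyp.isom _ c.2.1
    have hC3 : ∀ x, C (C (C x)) = x := fun x => by
      have e : C ^ 3 = 1 := by rw [hC, ← map_pow, ← hr3, hΓr c hzc, map_one]
      exact LinearMap.congr_fun (congrArg (fun g : AutV F V => (g : V →ₗ[F] V)) e) x
    obtain ⟨x, hx⟩ : ∃ x, C x - x ≠ 0 := by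
      by_contra hh
      simp only [not_exists, not_not] at hh
      exact hc1 ((fixer G u).subtype_injective ((LinearEquiv.ext fun x => sub_eq_zero.mp (hh x)).trans (map_one ι).symm))
    have hl3 : l * l * l = 1 := by
      refine smul_left_injective F hx ?_
      show (l * l * l) • (C x - x) = (1 : F) • (C x - x)
      rw [one_smul, mul_smul, mul_smul, ← hl, ← map_smul, ← hl, ← map_smul, ← map_smul, ← hl, hC3]
    have hl1 : l ≠ 1 := fun e => hx (by
      have e1 : C (C x - x) = C x - x := by rw [hl, e, one_smul]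
      have e2 : C (C (C x - x)) = C x - x := by rw [e1, e1]
      have h3 : (3 : F) • (C x - x) = 0 := by
        rw [map_sub] at e1
        rw [map_sub, map_sub, hC3] at e2
        linear_combination (norm := module) -e1 - e2
      refine (smul_eq_zero.mp h3).resolve_left fun e3 => hrF ?_
      rw [hr3]; exact_mod_cast e3)
    have hl2 : l * l ≠ 1 := fun e => hl1 (by rwa [e, one_mul] at hl3)
    have hsub : ∀ a b c', φ a (b - c') = φ a b - φ a c' := fun a b c' => by simp [φ]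
    have hsmul : ∀ a b (t : F), φ (t • a) b = t * φ a b := fun a b t => by
      simp [φ, LinearMap.map_smul_of_tower]
    have hsmul' : ∀ a b (t : F), φ a (t • b) = t * φ a b := fun a b t => by
      simp [φ, LinearMap.map_smul_of_tower]
    have hiso : ∀ y, φ (C x - x) (C y - y) = 0 := fun y => by
      have e := hφC (C x - x) (C y - y)
      rw [hl, hl, hsmul, hsmul', ← mul_assoc] at e
      have : (l * l - 1) * φ (C x - x) (C y - y) = 0 := by linear_combination e
      exact (mul_eq_zero.mp this).resolve_left (sub_ne_zero.mpr hl2)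
    refine hx (h.hyp.nondeg _ fun z => ?_)
    refine (traceForm_nondegenerate F K).1 _ fun m => ?_
    have hz : φ (C x - x) (m • z) = 0 := by
      have e := hφC (C x - x) (m • z)
      have e2 := hiso (m • z)
      rw [hsub] at e2
      rw [hl, hsmul] at e
      have : (l - 1) * φ (C x - x) (m • z) = 0 := by linear_combination e - l * e2
      exact (mul_eq_zero.mp this).resolve_left (sub_ne_zero.mpr hl1)
    simp only [φ, map_smul, smul_eq_mul] at hz
    rw [Algebra.traceForm_apply, mul_comm]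
    exact hz
  · exact ⟨hΓR hzc, by rw [hΓr c hzc]; exact Γ.one_mem, fun y hy => by
      rw [(hcΓ c hzc y hy).eq, mul_inv_cancel_right, mul_inv_cancel]; exact Γ.one_mem⟩
  · -- the centre
    intro x hx hxc
    set Z := Subgroup.closure {x | x ∈ T' ∧ ∀ y ∈ T', x * y = y * x} with hZ
    have hZmem : ∀ {a}, a ∈ Z → a ∈ T' ∧ ∀ y ∈ T', a * y = y * a := fun {a} ha => by
      induction ha using Subgroup.closure_induction with
      | mem a ha => exact ha
      | one => exact ⟨T'.one_mem, fun y _ => by rw [one_mul, mul_one]⟩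
      | mul a b _ _ ha hb =>
        exact ⟨T'.mul_mem ha.1 hb.1, fun y hy =>
          ((show Commute a y from ha.2 y hy).mul_left (show Commute b y from hb.2 y hy)).eq⟩
      | inv a _ ha => exact ⟨T'.inv_mem ha.1, fun y hy => (show Commute a y from ha.2 y hy).inv_left.eq⟩
    have hZf : ∀ a ∈ Z, f₀ * a * f₀⁻¹ ∈ Z := fun a ha => by
      refine Subgroup.subset_closure ⟨hfT a (hZmem ha).1, fun y hy => ?_⟩
      obtain ⟨⟨y', hy'⟩, hyy⟩ := (Finite.injective_iff_surjective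
        (f := fun a : T' => (⟨f₀ * a * f₀⁻¹, hfT a a.2⟩ : T'))).mp
        (fun a b e => Subtype.ext (by simpa using congrArg Subtype.val e)) ⟨y, hy⟩
      have hyy' : f₀ * y' * f₀⁻¹ = y := congrArg Subtype.val hyy
      subst hyy'
      calc f₀ * a * f₀⁻¹ * (f₀ * y' * f₀⁻¹) = f₀ * (a * y') * f₀⁻¹ := by group
        _ = f₀ * (y' * a) * f₀⁻¹ := by rw [(hZmem ha).2 y' hy']
        _ = f₀ * y' * f₀⁻¹ * (f₀ * a * f₀⁻¹) := by group
    have hZR : Z ≤ R := fun a ha => hT'R (hZmem ha).1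
    obtain ⟨n, hn⟩ := (hR.to_le hZR).exists_card_eq
    have hcom := commute_of_unipotent (F := F) (V := V) (Fact.out : p.Prime) hp5 (f := (f₀ : AutV F V))
      (h.unipotent fr.uu hf₀) (Z.map ι)
      (by rintro _ ⟨a, ha, rfl⟩ _ ⟨b, hb, rfl⟩; rw [← map_mul, (hZmem ha).2 b (hZmem hb).1, map_mul])
      (by
        rw [Subgroup.card_map_of_injective (fixer G u).subtype_injective, hn]
        exact ((Nat.coprime_primes h.hyp.prime Fact.out).mpr (Ne.symm hpr)).pow_left n)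
      (by rintro _ ⟨a, ha, rfl⟩; exact ⟨_, hZf a ha, by simp [ι]⟩)
    rw [← hΓc]
    exact hfix x hx.1 (Subtype.ext (hcom _ (Subgroup.mem_map_of_mem ι (Subgroup.subset_closure ⟨hx, hxc⟩))))
  · obtain ⟨i, hi⟩ := hzc
    change (γ : ↥(fixer G u)) ^ i = c at hi
    rw [← hi]; exact hfγ.zpow_right i

set_option maxHeartbeats 1200000 in
set_option synthInstance.maxHeartbeats 80000 in
/-- The case of different primes. -/
theorem point_ne (fr : IsFrame B u v w) (p : ℕ) [Fact p.Prime] [CharP F p]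
    (hq : 5 ≤ p ∨ ¬ (Nat.card F).Prime) (hpr : p ≠ finrank F K) (γ₀ : ↥(lineStab K G u))
    (hγ₀ : h.theta fr γ₀ ≠ 1) : lineStab K G u = ⊤ := by
  classical
  haveI := h.finG
  haveI : Finite K := Module.finite_of_finite F
  haveI := Fact.mk h.hyp.prime
  set r := finrank F K with hr
  have hpp : p.Prime := Fact.out
  have hrp : r.Coprime p := (Nat.coprime_primes h.hyp.prime hpp).mpr (Ne.symm hpr)
  have hθr : ∀ g : ↥(lineStab K G u), h.theta fr g ^ r = 1 := fun g => by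
    rw [hr, ← IsGalois.card_aut_eq_finrank F K]; exact pow_card_eq_one'
  obtain ⟨γ, hγdef⟩ : ∃ γ, γ = γ₀ ^ p := ⟨_, rfl⟩
  have hγ : h.theta fr γ ≠ 1 := fun e => hγ₀ (by
    rw [hγdef] at e
    rw [map_pow] at e
    exact orderOf_eq_one_iff.mp (Nat.eq_one_of_dvd_coprimes hrp (orderOf_dvd_of_pow_eq_one (hθr γ₀))
      (orderOf_dvd_of_pow_eq_one e)))
  have hγr : (γ : ↥(fixer G u)) ^ r = 1 := by
    rw [hγdef, Subgroup.coe_pow, ← pow_mul, mul_comm, pow_mul]
    refine h.qIn_pow fr p ?_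
    have := (h.theta_eq_one_iff fr (γ₀ ^ r)).mp (by rw [map_pow]; exact hθr γ₀)
    simpa using this
  have hordγ : orderOf (γ : ↥(fixer G u)) = r := orderOf_eq_prime hγr fun e => hγ (by
    rw [show γ = 1 from Subtype.ext e, map_one])
  obtain ⟨φ, hφQ, hφc, hφd⟩ := h.exists_central fr γ hγ
  set f₀ := φ (Multiplicative.ofAdd (1 : F)) with hf₀
  have hf₀d : del B v w (f₀ : AutV F V) ≠ 0 :=
    hφd _ (fun e => one_ne_zero (α := F) (congrArg Multiplicative.toAdd e))
  set C : Subgroup ↥(fixer G u) := Subgroup.centralizer {(γ : ↥(fixer G u))} with hC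
  have hCmem : ∀ {x : ↥(fixer G u)}, x ∈ C ↔ Commute (γ : ↥(fixer G u)) x := fun {x} =>
    ⟨fun hx => (hx (γ : ↥(fixer G u)) rfl), fun hx y hy => by rw [Set.mem_singleton_iff.mp hy]; exact hx⟩
  have hφC : ∀ a, φ a ∈ C := fun a => hCmem.mpr (hφc a).symm
  -- the Sylow subgroup of the centraliser
  have hQw : ∀ x : ↥(fixer G u), x ∈ lineStab K G u → (∃ n, x ^ p ^ n = 1) → x ∈ h.qIn fr := by
    rintro x hx ⟨n, hn⟩
    refine (h.theta_eq_one_iff fr ⟨x, hx⟩).mp (orderOf_eq_one_iff.mp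
      (Nat.eq_one_of_dvd_coprimes (hrp.pow_right n) (orderOf_dvd_of_pow_eq_one (hθr _))
        (orderOf_dvd_of_pow_eq_one ?_)))
    rw [← map_pow, show (⟨x, hx⟩ : ↥(lineStab K G u)) ^ p ^ n = 1 from Subtype.ext (by simpa using hn), map_one]
  let P : Sylow p ↥C :=
    { toSubgroup := (h.qIn fr).subgroupOf C
      isPGroup' := (h.qIn_isPGroup fr p).comap_subtype
      is_maximal' := fun {S} hS hle => by
        refine le_antisymm (le_of_normalizer_le hS hle fun x hxS hx => ?_) hle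
        have h1 : (x : ↥(fixer G u)) * f₀ * (x : ↥(fixer G u))⁻¹ ∈ h.qIn fr :=
          Subgroup.mem_subgroupOf.mp (hx ⟨f₀, hφC _⟩ (hφQ _))
        have h2 := h.mem_lineStab_of_conj fr (hφQ _) hf₀d (x := (x : ↥(fixer G u))⁻¹) (by rwa [inv_inv])
        obtain ⟨n, hn⟩ := hS ⟨x, hxS⟩
        exact hQw x ((lineStab K G u).inv_mem_iff.mp h2) ⟨n, by simpa using congrArg (fun t : S => ((t : ↥C) : ↥(fixer G u))) hn⟩ }
  have hP : Subgroup.normalizer ((P : Subgroup ↥C) : Set ↥C) ≤ Subgroup.centralizer (P : Set ↥C) := by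
    intro y hy z hz
    have h1 : y⁻¹ * ⟨f₀, hφC _⟩ * y ∈ (P : Subgroup ↥C) :=
      (Subgroup.mem_normalizer_iff''.mp hy _).mp (Subgroup.mem_subgroupOf.mpr (hφQ _))
    obtain ⟨i, hi⟩ := h.exists_zpow_mul fr γ hγ (h.mem_lineStab_of_conj fr (hφQ _) hf₀d (Subgroup.mem_subgroupOf.mp h1))
    refine Subtype.ext ?_
    have c1 : Commute (z : ↥(fixer G u)) (γ : ↥(fixer G u)) := (hCmem.mp z.2).symm
    have c2 : Commute (z : ↥(fixer G u)) (((γ : ↥(fixer G u)) ^ i)⁻¹ * y) := h.qIn_comm fr hz hi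
    have := (c1.zpow_right i).mul_right c2
    rw [mul_inv_cancel_left] at this
    exact this
  set L := (MonoidHom.transferSylow P hP).ker with hL
  have hLc := MonoidHom.ker_transferSylow_isComplement' P hP
  have hLp : ¬ p ∣ Nat.card L := MonoidHom.not_dvd_card_ker_transferSylow P hP
  haveI : L.Normal := MonoidHom.normal_ker _
  have hLr : ∀ (y : ↥C) (n : ℕ), y ^ r ^ n = 1 → y ∈ L := fun y n hy => by
    rw [hL, MonoidHom.mem_ker]
    set t := MonoidHom.transferSylow P hP y with ht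
    obtain ⟨m, hm⟩ := P.isPGroup' t
    refine orderOf_eq_one_iff.mp (Nat.eq_one_of_dvd_coprimes ((hrp.pow_left n).pow_right m)
      (orderOf_dvd_of_pow_eq_one (by rw [ht, ← map_pow, hy, map_one])) (orderOf_dvd_of_pow_eq_one hm))
  have hγC : (γ : ↥(fixer G u)) ∈ C := hCmem.mpr rfl
  have hγL : (⟨(γ : ↥(fixer G u)), hγC⟩ : ↥C) ∈ L := hLr _ 1 (Subtype.ext (by simpa using hγr))
  set γL : ↥L := ⟨⟨(γ : ↥(fixer G u)), hγC⟩, hγL⟩ with hγLdef
  have hLP1 : ∀ k : ↥L, ((k : ↥C) : ↥(fixer G u)) ∈ lineStab K G u → k ∈ Subgroup.zpowers γL := by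
    intro k hk
    obtain ⟨i, hi⟩ := h.exists_zpow_mul fr γ hγ hk
    refine ⟨i, (inv_mul_eq_one.mp ?_)⟩
    have h2 : (((γL ^ i)⁻¹ * k : ↥L) : ↥C) ∈ (P : Subgroup ↥C) :=
      Subgroup.mem_subgroupOf.mpr (by simpa [γL] using hi)
    exact Subtype.ext (hLc.disjoint.le_bot ⟨((γL ^ i)⁻¹ * k).2, h2⟩)
  let ι : Multiplicative F →* ↥C :=
    { toFun := fun a => ⟨φ a, hφC a⟩
      map_one' := Subtype.ext (map_one φ)
      map_mul' := fun a b => Subtype.ext (map_mul φ a b) }
  letI : MulDistribMulAction (Multiplicative F) ↥L := MulDistribMulAction.compHom _ ((MulAut.conjNormal (H := L)).comp ι)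
  have hsmul : ∀ a (k : ↥L), (((a • k : ↥L) : ↥C) : ↥(fixer G u)) = φ a * ((k : ↥C) : ↥(fixer G u)) * (φ a)⁻¹ := fun a k => rfl
  obtain ⟨e, -, he⟩ := FiniteField.card F p
  have hcardA : Nat.card (Multiplicative F) = p ^ (e : ℕ) := by
    rw [Nat.card_congr Multiplicative.toAdd, Nat.card_eq_fintype_card, he]
  have hcop : (Nat.card (Multiplicative F)).Coprime (Nat.card L) := by
    rw [hcardA]; exact ((hpp.coprime_iff_not_dvd).mpr hLp).pow_left _
  have hfixL : ∀ a : Multiplicative F, a ≠ 1 → ∀ k : ↥L, a • k = k → k ∈ Subgroup.zpowers γL := fun a ha k hk => by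
    refine hLP1 k (h.mem_lineStab_of_comm fr (hφQ a) (hφd a ha) ?_)
    have := congrArg (fun t : ↥L => ((t : ↥C) : ↥(fixer G u))) hk
    simp only [hsmul] at this
    rwa [mul_inv_eq_iff_eq_mul] at this
  have hγfix : ∀ a, a • γL = γL := fun a => Subtype.ext (Subtype.ext (by
    rw [hsmul]
    show φ a * (γ : ↥(fixer G u)) * (φ a)⁻¹ = (γ : ↥(fixer G u))
    rw [hφc a, mul_inv_cancel_right]))
  have hγLr : γL ^ r = 1 := Subtype.ext (Subtype.ext (by simpa [γL] using hγr))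
  have hΓpg : IsPGroup r (Subgroup.zpowers γL) := fun x => ⟨1, Subtype.ext (by
    obtain ⟨i, hi⟩ := x.2
    change γL ^ i = _ at hi
    rw [pow_one, Subgroup.coe_pow, ← hi, ← zpow_natCast, zpow_comm, zpow_natCast, hγLr, one_zpow]; rfl)⟩
  have hΓinv : ∀ (a : Multiplicative F), ∀ x ∈ Subgroup.zpowers γL, a • x ∈ Subgroup.zpowers γL := by
    rintro a _ ⟨i, rfl⟩
    exact ⟨i, by rw [smul_zpow', hγfix]⟩
  obtain ⟨R, hΓR, hRinv⟩ := CfsgLib.Solvable.exists_smul_invariant_sylow hcop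
    (Or.inl inferInstance) r hΓpg hΓinv
  have hRΓ : (R : Subgroup ↥L) ≤ Subgroup.zpowers γL := by
    by_cases hnp : (Nat.card F).Prime
    · have hp5 : 5 ≤ p := hq.resolve_right (not_not_intro hnp)
      let j : ↥L →* ↥(fixer G u) := C.subtype.comp L.subtype
      have hjinj : Function.Injective j := fun a b e => Subtype.ext (Subtype.ext e)
      have hjγ : j γL = (γ : ↥(fixer G u)) := rfl
      have h1 := h.rGroup_le fr p hp5 hpr γ hγ hγr (hφQ (Multiplicative.ofAdd 1))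
        ((R : Subgroup ↥L).map j) (R.isPGroup'.map j)
        ⟨γL, hΓR (Subgroup.mem_zpowers _), rfl⟩
        (by rintro _ ⟨x, -, rfl⟩; exact hCmem.mp (x : ↥C).2)
        (by rintro _ ⟨x, hx, rfl⟩; exact ⟨_, hRinv (Multiplicative.ofAdd 1) x hx, hsmul _ x⟩)
        (hφc _) (by
          rintro _ ⟨x, hx, rfl⟩ hcom
          have := hfixL (Multiplicative.ofAdd 1) (fun e => one_ne_zero (α := F) (congrArg Multiplicative.toAdd e)) x
            (Subtype.ext (Subtype.ext ((hsmul _ x).trans (mul_inv_eq_iff_eq_mul.mpr hcom))))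
          obtain ⟨i, rfl⟩ := this
          exact ⟨i, by simp [map_zpow, hjγ]⟩)
      intro x hx
      obtain ⟨i, hi⟩ := h1 (Subgroup.mem_map_of_mem j hx)
      exact ⟨i, hjinj (by simpa [map_zpow, hjγ] using hi)⟩
    · have hnc : ¬ IsCyclic (Multiplicative F) := fun hc => hnp (by
        have h2 : Monoid.exponent (Multiplicative F) ∣ p := Monoid.exponent_dvd_of_forall_pow_eq_one fun m => by
          show Multiplicative.ofAdd (p • Multiplicative.toAdd m) = 1
          rw [← Nat.cast_smul_eq_nsmul F, CharP.cast_eq_zero, zero_smul]; rfl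
        rw [hc.exponent_eq_card, Nat.card_congr Multiplicative.toAdd] at h2
        rcases (Nat.dvd_prime hpp).mp h2 with h3 | h3
        · exact absurd h3 (Finite.one_lt_card).ne'
        · rw [h3]; exact hpp)
      exact le_top.trans_eq (CfsgLib.Solvable.eq_top_of_smul_fixed_mem hnc hcop _ hfixL).symm
  -- a Sylow subgroup of the whole stabiliser
  set Γ := Subgroup.zpowers (γ : ↥(fixer G u)) with hΓ
  have hΓC : ∀ g : ↥(fixer G u), (∀ a ∈ Γ, g * a * g⁻¹ ∈ Γ) → ∃ i : ℕ, g * (γ : ↥(fixer G u)) * g⁻¹ = (γ : ↥(fixer G u)) ^ i := fun g hg => by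
    have := hg _ (Subgroup.mem_zpowers _)
    rw [← mem_powers_iff_mem_zpowers] at this
    obtain ⟨i, hi⟩ := this
    exact ⟨i, hi.symm⟩
  have hΓpgX : IsPGroup r Γ := fun x => ⟨1, Subtype.ext (by
    obtain ⟨i, hi⟩ := x.2
    change (γ : ↥(fixer G u)) ^ i = _ at hi
    rw [pow_one, Subgroup.coe_pow, ← hi, ← zpow_natCast, zpow_comm, zpow_natCast, hγr, one_zpow]; rfl)⟩
  let PΓ : Sylow r ↥(fixer G u) :=
    { toSubgroup := Γ
      isPGroup' := hΓpgX
      is_maximal' := fun {S} hS hle => by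
        refine le_antisymm (le_of_normalizer_le hS hle fun x hxS hx => ?_) hle
        obtain ⟨i, hi⟩ := hΓC x hx
        obtain ⟨n, hn⟩ := hS ⟨x, hxS⟩
        have hn' : x ^ r ^ n = 1 := by simpa using congrArg (fun t : S => (t : ↥(fixer G u))) hn
        have hiter : ∀ k : ℕ, x ^ k * (γ : ↥(fixer G u)) * (x ^ k)⁻¹ = (γ : ↥(fixer G u)) ^ (i ^ k) := fun k => by
          induction k with
          | zero => simp
          | succ k ih =>
            rw [pow_succ' x, mul_inv_rev, show x * x ^ k * (γ : ↥(fixer G u)) * ((x ^ k)⁻¹ * x⁻¹) =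
              x * (x ^ k * (γ : ↥(fixer G u)) * (x ^ k)⁻¹) * x⁻¹ by group, ih, ← conj_pow, hi, ← pow_mul, pow_succ', ]
        have h1 := hiter (r ^ n)
        rw [hn', inv_one, mul_one, one_mul] at h1
        have h2 : i ^ (r ^ n) ≡ 1 [MOD r] := by
          have := pow_eq_pow_iff_modEq.mp (h1.symm.trans (pow_one (γ : ↥(fixer G u))).symm)
          rwa [hordγ] at this
        have h3 : i ≡ 1 [MOD r] := by
          rw [← ZMod.natCast_eq_natCast_iff] at h2 ⊢
          rwa [Nat.cast_pow, ZMod.pow_card_pow] at h2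
        have hxC : x ∈ C := hCmem.mpr (by
          have h4 : x * (γ : ↥(fixer G u)) * x⁻¹ = (γ : ↥(fixer G u)) := by
            rw [hi]
            exact (pow_eq_pow_iff_modEq.mpr (hordγ.symm ▸ h3)).trans (pow_one _)
          rw [mul_inv_eq_iff_eq_mul] at h4
          exact h4.symm)
        have hxL : (⟨x, hxC⟩ : ↥C) ∈ L := hLr _ n (Subtype.ext (by simpa using hn'))
        let SL : Subgroup ↥L := S.comap (C.subtype.comp L.subtype)
        have hSL : IsPGroup r SL := hS.comap_of_injective _ fun a b e => Subtype.ext (Subtype.ext e)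
        have hRS : (R : Subgroup ↥L) ≤ SL := hRΓ.trans
          (Subgroup.zpowers_le.mpr (show (γ : ↥(fixer G u)) ∈ S from hle (Subgroup.mem_zpowers _)))
        have e := R.is_maximal' hSL hRS
        have hxR : (⟨⟨x, hxC⟩, hxL⟩ : ↥L) ∈ (R : Subgroup ↥L) := by
          rw [← e]; exact hxS
        obtain ⟨k, hk⟩ := hRΓ hxR
        exact ⟨k, by simpa [γL] using congrArg (fun t : ↥L => ((t : ↥C) : ↥(fixer G u))) hk⟩ }
  have hPΓ : Subgroup.normalizer ((PΓ : Subgroup ↥(fixer G u)) : Set ↥(fixer G u)) ≤ Subgroup.centralizer (PΓ : Set ↥(fixer G u)) := by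
    intro g hg
    have hg' : ∀ a ∈ Γ, g * a * g⁻¹ ∈ Γ := fun a ha => (Subgroup.mem_normalizer_iff.mp hg a).mp ha
    obtain ⟨i, hi⟩ := hΓC g hg'
    -- conjugate of a member of the Sylow subgroup back into it
    have hgfC : g * f₀ * g⁻¹ ∈ C := by
      refine hCmem.mpr ?_
      obtain ⟨⟨a, ha⟩, hea⟩ := (Finite.injective_iff_surjective (f := fun a : Γ => (⟨g * a * g⁻¹, hg' a a.2⟩ : Γ))).mp
        (fun a b e => Subtype.ext (by simpa using congrArg Subtype.val e)) ⟨(γ : ↥(fixer G u)), Subgroup.mem_zpowers _⟩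
      obtain ⟨k, hk⟩ := ha
      have hga : g * a * g⁻¹ = (γ : ↥(fixer G u)) := congrArg Subtype.val hea
      change (γ : ↥(fixer G u)) ^ k = a at hk
      rw [← hga, ← hk]
      have := ((show Commute f₀ (γ : ↥(fixer G u)) from hφc _).zpow_right k).symm.map (MulAut.conj g).toMonoidHom
      simpa using this
    obtain ⟨S, hS⟩ := (show IsPGroup p (Subgroup.zpowers (⟨_, hgfC⟩ : ↥C)) from fun x => ⟨1, Subtype.ext (by
      obtain ⟨k, hk⟩ := x.2
      change _ ^ k = _ at hk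
      rw [pow_one, Subgroup.coe_pow, ← hk, ← zpow_natCast, zpow_comm, zpow_natCast,
        show (⟨_, hgfC⟩ : ↥C) ^ p = 1 from Subtype.ext (by
          rw [Subgroup.coe_pow, conj_pow, show f₀ ^ p = 1 from h.qIn_pow fr p (hφQ _), mul_one, mul_inv_cancel,
            Subgroup.coe_one]), one_zpow]; rfl)⟩).exists_le_sylow
    obtain ⟨c, hc⟩ := MulAction.exists_smul_eq ↥C S P
    have hcQ : ((c : ↥(fixer G u)) * g) * f₀ * ((c : ↥(fixer G u)) * g)⁻¹ ∈ h.qIn fr := by
      have h1 : c * ⟨_, hgfC⟩ * c⁻¹ ∈ (P : Subgroup ↥C) := by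
        rw [← hc, Sylow.coe_subgroup_smul]
        exact Subgroup.smul_mem_pointwise_smul _ (MulAut.conj c) _ (hS (Subgroup.mem_zpowers _))
      simpa [mul_assoc] using Subgroup.mem_subgroupOf.mp h1
    have hy : (c : ↥(fixer G u)) * g ∈ lineStab K G u := (lineStab K G u).inv_mem_iff.mp
      (h.mem_lineStab_of_conj fr (hφQ _) hf₀d (x := ((c : ↥(fixer G u)) * g)⁻¹) (by rwa [inv_inv]))
    have hyi : ((c : ↥(fixer G u)) * g) * (γ : ↥(fixer G u)) * ((c : ↥(fixer G u)) * g)⁻¹ = (γ : ↥(fixer G u)) ^ i := by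
      rw [mul_inv_rev, show (c : ↥(fixer G u)) * g * (γ : ↥(fixer G u)) * (g⁻¹ * (c : ↥(fixer G u))⁻¹) = (c : ↥(fixer G u)) * (g * (γ : ↥(fixer G u)) * g⁻¹) * (c : ↥(fixer G u))⁻¹ by
        group, hi, ← ((hCmem.mp c.2).pow_left i).eq, mul_inv_cancel_right]
    have hi1 : i ≡ 1 [MOD r] := by
      have e1 := congrArg (h.theta fr) (show (⟨_, hy⟩ : ↥(lineStab K G u)) * γ * (⟨_, hy⟩)⁻¹ = γ ^ i from
        Subtype.ext hyi)
      rw [map_mul, map_mul, map_inv, map_pow] at e1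
      have hcc : Commute (h.theta fr ⟨_, hy⟩) (h.theta fr γ) := by
        obtain ⟨k, hk⟩ := mem_zpowers_of_prime_card (g := h.theta fr γ) (g' := h.theta fr ⟨_, hy⟩)
          (p := r) (IsGalois.card_aut_eq_finrank F K) hγ
        rw [← hk]; exact (Commute.refl _).zpow_left k
      rw [hcc.eq, mul_inv_cancel_right] at e1
      have hordθ : orderOf (h.theta fr γ) = r := orderOf_eq_prime (hθr γ) hγ
      rw [← hordθ]
      exact pow_eq_pow_iff_modEq.mp ((e1.symm).trans (pow_one _).symm)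
    have h4 : g * (γ : ↥(fixer G u)) * g⁻¹ = (γ : ↥(fixer G u)) := by
      rw [hi]; exact (pow_eq_pow_iff_modEq.mpr (hordγ.symm ▸ hi1)).trans (pow_one _)
    rw [mul_inv_eq_iff_eq_mul] at h4
    intro a ha
    obtain ⟨k, rfl⟩ := (ha : a ∈ Γ)
    exact ((show Commute g (γ : ↥(fixer G u)) from h4).zpow_right k).symm.eq
  refine h.all_of_normal fr p (MonoidHom.transferSylow PΓ hPΓ).ker (MonoidHom.normal_ker _) (fun x hx => ?_)
    fun x hx => ?_
  · rw [MonoidHom.mem_ker]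
    set t := MonoidHom.transferSylow PΓ hPΓ x with ht
    obtain ⟨m, hm⟩ := PΓ.isPGroup' t
    refine orderOf_eq_one_iff.mp (Nat.eq_one_of_dvd_coprimes (hrp.pow_left m)
      (orderOf_dvd_of_pow_eq_one hm) (orderOf_dvd_of_pow_eq_one ?_))
    rw [ht, ← map_pow, h.qIn_pow fr p hx, map_one]
  · obtain ⟨i, hi⟩ := h.exists_zpow_mul fr γ hγ hx.2
    have hker : ∀ y ∈ h.qIn fr, y ∈ (MonoidHom.transferSylow PΓ hPΓ).ker := fun y hy => by
      rw [MonoidHom.mem_ker]
      set t := MonoidHom.transferSylow PΓ hPΓ y with ht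
      obtain ⟨m, hm⟩ := PΓ.isPGroup' t
      refine orderOf_eq_one_iff.mp (Nat.eq_one_of_dvd_coprimes (hrp.pow_left m)
        (orderOf_dvd_of_pow_eq_one hm) (orderOf_dvd_of_pow_eq_one ?_))
      rw [ht, ← map_pow, h.qIn_pow fr p hy, map_one]
    have h1 : (γ : ↥(fixer G u)) ^ i ∈ (MonoidHom.transferSylow PΓ hPΓ).ker := by
      have := Subgroup.mul_mem _ hx.1 (Subgroup.inv_mem _ (hker _ hi))
      simpa [mul_inv_rev, mul_assoc] using this
    have h2 : (γ : ↥(fixer G u)) ^ i = 1 := (MonoidHom.ker_transferSylow_isComplement' PΓ hPΓ).disjoint.le_bot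
      ⟨h1, (⟨i, rfl⟩ : (γ : ↥(fixer G u)) ^ i ∈ Γ)⟩
    rwa [h2, inv_one, one_mul] at hi

/-- A member of `G` fixing a singular vector stabilises its line, unless the field has three elements. -/
theorem point (p : ℕ) [Fact p.Prime] [CharP F p] (hq : 5 ≤ p ∨ ¬ (Nat.card F).Prime) {u : V} (hu0 : u ≠ 0)
    (hu : B u u = 0) {g : AutV F V} (hg : g ∈ G) (hgu : g u = u) (k : K) : g (k • u) ∈ K ∙ u := by
  obtain ⟨v, w, fr⟩ := h.exists_frame hu0 hu
  have htop : lineStab K G u = ⊤ := by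
    by_cases hall : ∀ x : ↥(lineStab K G u), h.theta fr x = 1
    · exact h.all_of_normal fr p ⊤ inferInstance le_top fun x hx => (h.theta_eq_one_iff fr ⟨x, hx.2⟩).mp (hall _)
    · simp only [not_forall] at hall
      obtain ⟨γ, hγ⟩ := hall
      by_cases hpr : p = finrank F K
      · exact h.point_eq fr p hpr hq
      · exact h.point_ne fr p hq hpr γ hγ
  have h1 : (⟨g, hg, hgu⟩ : ↥(fixer G u)) ∈ lineStab K G u := htop ▸ Subgroup.mem_top _
  exact (h1 (k • u)).mpr (Submodule.smul_mem _ _ (Submodule.mem_span_singleton_self u))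

end Hyp3

end CfsgLib.ExtFieldOrth
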