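import Mathlib
import Cfsg.Agent.Lib.ExtFieldOrth.ThreePoint

/-!
Dimension three, away from the field with three elements: members of `G` map singular lines to singular
lines, by a rotation of order prime to the degree about a non-singular vector of an image of a line.
-/

set_option autoImplicit false
set_option linter.unusedSectionVars false
set_option linter.style.haveILetI false
set_option linter.unusedVariables false
set_option linter.unusedSimpArgs false

namespace CfsgLib.ExtFieldOrth

open Module

variable {F K V : Type*} [Field F] [Field K] [Algebra F K] [AddCommGroup V] [Module F V]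
  [Module K V] [IsScalarTower F K V]
variable {B : V →ₗ[K] V →ₗ[K] K} {G : Subgroup (AutV F V)}

/-- An orthogonal basis. -/
structure IsOrtho (B : V →ₗ[K] V →ₗ[K] K) (z d c : V) : Prop where
  zz : B z z ≠ 0
  dd : B d d ≠ 0
  cc : B c c ≠ 0
  zd : B z d = 0
  zc : B z c = 0
  dc : B d c = 0

variable (B) in
/-- The eigenfunctional of the rotations in the plane of `d`, `c`. -/
def eigFun {L : Type*} [Field L] [Algebra K L] (d c : V) (s : L) (x : V) : L :=
  algebraMap K L (B x d / B d d) + s * algebraMap K L (B x c / B c c)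

namespace Hyp3

variable [Fintype F] [FiniteDimensional F K] [Algebra.IsSeparable F K] [FiniteDimensional F V]
variable (h : Hyp3 B G)
include h

lemma singular_perp_mem {a b : V} (ha0 : a ≠ 0) (ha : B a a = 0) (hb : B b b = 0) (hab : B a b = 0) :
    b ∈ K ∙ a := by
  obtain ⟨v, w, fr⟩ := h.exists_frame ha0 ha
  have e := h.expand_perp fr hab
  have h0 : B b w = 0 := by
    by_contra hne
    have hwa : B w a = 0 := by rw [h.hyp.symm, fr.uw]
    rw [e] at hb
    simp [ha, fr.uw, hwa, fr.ww, hne] at hb
  rw [e, h0, zero_div, zero_smul, add_zero]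
  exact Submodule.smul_mem _ _ (Submodule.mem_span_singleton_self a)

/-- An image of a line on which the form takes values in `F` only is a singular line. -/
theorem line_of_values {u : V} (hu0 : u ≠ 0) (hu : B u u = 0) {g : AutV F V} (hg : g ∈ G)
    (hval : ∀ k : K, B (g (k • u)) (g (k • u)) ∈ Set.range (algebraMap F K)) :
    B (g u) (g u) = 0 ∧ ∀ k : K, g (k • u) ∈ K ∙ g u := by
  classical
  haveI := h.finK
  have h2 : (2 : F) ≠ 0 := fun e => h.hyp.two_ne (by rw [← map_ofNat (algebraMap F K), e, map_zero])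
  have hpol : ∀ k l : K, B (g (k • u)) (g (l • u)) ∈ Set.range (algebraMap F K) := by
    intro k l
    obtain ⟨a, ha⟩ := hval (k + l)
    obtain ⟨b, hb⟩ := hval k
    obtain ⟨c, hc⟩ := hval l
    refine ⟨(a - b - c) / 2, ?_⟩
    rw [map_div₀, map_sub, map_sub, ha, hb, hc, map_ofNat, add_smul, map_add]
    simp only [map_add, LinearMap.add_apply, h.hyp.symm (g (l • u)) (g (k • u))]
    field_simp [h.hyp.two_ne]
    ring
  suffices hall : ∀ k : K, B (g (k • u)) (g (k • u)) = 0 by
    have h1 := hall 1
    rw [one_smul] at h1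
    refine ⟨h1, fun k => h.singular_perp_mem (fun e => hu0 (g.map_eq_zero_iff.mp e)) h1 (hall k) ?_⟩
    have h3 := hall (1 + k)
    rw [add_smul, one_smul, map_add] at h3
    simp only [map_add, LinearMap.add_apply, h1, hall k, h.hyp.symm (g (k • u)) (g u)] at h3
    exact (mul_eq_zero.mp (show (2 : K) * _ = 0 by linear_combination h3)).resolve_left h.hyp.two_ne
  choose β hβ using hpol
  have hi := (algebraMap F K).injective
  let C : LinearMap.BilinForm F K := LinearMap.mk₂ F β
    (fun k k' l => hi (by rw [map_add, hβ, hβ, hβ, add_smul, map_add, map_add, LinearMap.add_apply]))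
    (fun c k l => hi (by
      rw [smul_eq_mul, map_mul, hβ, hβ, smul_assoc, g.map_smul, LinearMap.map_smul_of_tower,
        LinearMap.smul_apply, Algebra.smul_def]))
    (fun k l l' => hi (by rw [map_add, hβ, hβ, hβ, add_smul, map_add, map_add]))
    (fun c k l => hi (by
      rw [smul_eq_mul, map_mul, hβ, hβ, smul_assoc, g.map_smul, LinearMap.map_smul_of_tower, Algebra.smul_def]))
  have hC : ∀ k l, algebraMap F K (C k l) = B (g (k • u)) (g (l • u)) := hβ
  haveI : Invertible (2 : F) := invertibleOfNonzero h2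
  obtain ⟨e, he⟩ := LinearMap.BilinForm.exists_orthogonal_basis (B := C)
    ⟨fun k l => hi (by rw [RingHom.id_apply, hC, hC, h.hyp.symm])⟩
  rw [LinearMap.isOrthoᵢ_def] at he
  intro k
  by_contra hk
  have hd : ∀ i, C (e i) (e i) ≠ 0 := by
    intro i hd
    have hall : ∀ l, B (g (e i • u)) (g (l • u)) = 0 := fun l => by
      have e0 : C (e i) = 0 := e.ext fun j => by
        rcases eq_or_ne i j with rfl | hij
        · simpa using hd
        · simpa using he i j hij
      rw [← hC, e0, LinearMap.zero_apply, map_zero]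
    obtain ⟨m, hm⟩ := Submodule.mem_span_singleton.mp
      (h.hyp.core hu0 hu (h.only u hu0 hu) hg (e.ne_zero i) (hall (e i)) hall k)
    refine hk ?_
    rw [← hm]; simp [hall (e i)]
  -- two of the values are in the same class
  have h3 := h.three_le
  obtain ⟨i₁, i₂, h12, t, ht⟩ : ∃ i₁ i₂, i₁ ≠ i₂ ∧ ∃ t : F, t * t * C (e i₂) (e i₂) = C (e i₁) (e i₁) := by
    let S : Fin (finrank F K) → Bool := fun i => decide (IsSquare (C (e i) (e i)))
    obtain ⟨i₁, i₂, h12, hS⟩ := Fintype.exists_ne_map_eq_of_card_lt S (by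
      rw [Fintype.card_bool, Fintype.card_fin]; omega)
    have hsq : IsSquare (C (e i₁) (e i₁) / C (e i₂) (e i₂)) := by
      have hiff : IsSquare (C (e i₁) (e i₁)) ↔ IsSquare (C (e i₂) (e i₂)) := by
        simpa [S, decide_eq_decide] using hS
      rw [div_eq_mul_inv]
      by_cases hs : IsSquare (C (e i₁) (e i₁))
      · exact hs.mul (isSquare_inv.mpr (hiff.mp hs))
      · have h2' : ringChar F ≠ 2 := fun e0 => h2 (by
          haveI := ringChar.charP F
          haveI : CharP F 2 := e0 ▸ inferInstance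
          exact_mod_cast CharP.cast_eq_zero F 2)
        rw [← quadraticChar_one_iff_isSquare (mul_ne_zero (hd _) (inv_ne_zero (hd _))), map_mul,
          quadraticChar_neg_one_iff_not_isSquare.mpr hs,
          quadraticChar_neg_one_iff_not_isSquare.mpr fun h' => hs (hiff.mpr (isSquare_inv.mp h'))]
        rfl
    obtain ⟨t, ht⟩ := hsq
    exact ⟨i₁, i₂, h12, t, by rw [← ht, div_mul_cancel₀ _ (hd _)]⟩
  obtain ⟨i₀, h01, h02⟩ : ∃ i₀, i₀ ≠ i₁ ∧ i₀ ≠ i₂ := by
    obtain ⟨i₀, -, hi₀⟩ := Finset.exists_mem_notMem_of_card_lt_card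
      (s := ({i₁, i₂} : Finset (Fin (finrank F K)))) (t := Finset.univ)
      (Finset.card_le_two.trans_lt (by rw [Finset.card_univ, Fintype.card_fin]; omega))
    exact ⟨i₀, fun e => hi₀ (by simp [e]), fun e => hi₀ (by simp [e])⟩
  have hne : ∀ i j, i ≠ j → B (g (e i • u)) (g (e j • u)) = 0 := fun i j hij => by
    rw [← hC, he i j hij, map_zero]
  refine h.no_pair hu0 hu hg (k₁ := e i₀) (e₁ := g (e i₁ • u)) (e₂ := algebraMap F K t • g (e i₂ • u))
    ?_ ?_ ?_ ?_ ?_ ?_
  · rw [← hC]; simpa using hd i₀
  · exact hne _ _ h01.symm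
  · simp [hne _ _ h02.symm]
  · rw [← hC]; simpa using hd i₁
  · simp only [map_smul, LinearMap.smul_apply, smul_eq_mul]
    rw [← hC, ← hC, ← map_mul, ← map_mul, ← mul_assoc, ht]
  · simp [hne _ _ h12]

lemma not_in_line {u : V} (hu0 : u ≠ 0) (hu : B u u = 0) {g : AutV F V} (hg : g ∈ G) {z : V}
    (hz : B z z ≠ 0) (hX : ∀ k : K, g (k • u) ∈ K ∙ z) : False := by
  have hex : ∀ k : K, ∃ a : K, g (k • u) = a • z := fun k => by
    obtain ⟨a, ha⟩ := Submodule.mem_span_singleton.mp (hX k)
    exact ⟨a, ha.symm⟩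
  have hz0 : z ≠ 0 := fun e => hz (by simp [e])
  choose a ha using hex
  let A : K →ₗ[F] K :=
    { toFun := a
      map_add' := fun x y => smul_left_injective K hz0 (by
        show a (x + y) • z = (a x + a y) • z
        rw [← ha, add_smul, map_add, ha, ha, add_smul])
      map_smul' := fun r x => smul_left_injective K hz0 (by
        show a (r • x) • z = (r • a x) • z
        rw [smul_assoc, ← ha, ← ha, smul_assoc, map_smul]) }
  have hinj : Function.Injective A := fun x y hxy =>
    smul_left_injective K hu0 (g.injective (by rw [ha, ha]; exact congrArg (· • z) hxy))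
  obtain ⟨x, hx⟩ := LinearMap.injective_iff_surjective.mp hinj 1
  refine hz ((traceForm_nondegenerate F K).1 _ fun l => ?_)
  obtain ⟨y, rfl⟩ := LinearMap.injective_iff_surjective.mp hinj l
  have e := h.hyp.isom g hg (x • u) (y • u)
  rw [ha, ha, show a x = 1 from hx, one_smul] at e
  simp only [map_smul, LinearMap.smul_apply, smul_eq_mul, hu, mul_zero, map_zero] at e
  rw [Algebra.traceForm_apply, mul_comm]
  exact e

lemma exists_ortho {z : V} (hz : B z z ≠ 0) : ∃ d c, IsOrtho B z d c := by
  haveI := h.finK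
  obtain ⟨y, hy, hy0⟩ := Submodule.exists_mem_ne_zero_of_ne_bot (LinearMap.ker_ne_bot_of_finrank_lt (f := B z)
    (show finrank K K < finrank K V by rw [Module.finrank_self, h.dim]; omega))
  replace hy : B z y = 0 := hy
  obtain ⟨d, hzd, hdd⟩ : ∃ d, B z d = 0 ∧ B d d ≠ 0 := by
    by_cases hyy : B y y = 0
    · obtain ⟨v, hv, hyv⟩ := h.hyp.exists_dual hy0 hyy
      set v' := v - (B z v / B z z) • z with hv'
      have h1 : B z v' = 0 := by simp [hv', div_mul_cancel₀ _ hz]
      have h3 : B y v' = 1 := by simp [hv', hyv, h.hyp.symm y z, hy]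
      have h4 : B v' y = 1 := by rw [h.hyp.symm, h3]
      by_contra hh
      simp only [not_exists, not_and, not_not] at hh
      have e1 := hh (y + v') (by simp [hy, h1])
      have e2 := hh (y - v') (by simp [hy, h1])
      simp [hyy, h3, h4] at e1 e2
      exact mul_ne_zero h.hyp.two_ne h.hyp.two_ne (by linear_combination e1 - e2)
    · exact ⟨y, hy, hyy⟩
  obtain ⟨c, hc, hc0⟩ := Submodule.exists_mem_ne_zero_of_ne_bot (LinearMap.ker_ne_bot_of_finrank_lt
    (f := (B z).prod (B d)) (show finrank K (K × K) < finrank K V by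
      rw [Module.finrank_prod, Module.finrank_self, h.dim]; omega))
  simp only [LinearMap.mem_ker, LinearMap.prod_apply, Function.prod, Prod.mk_eq_zero] at hc
  refine ⟨d, c, hz, hdd, fun hcc => hc0 (h.hyp.nondeg c fun x => ?_), hzd, hc.1, hc.2⟩
  have hdz : B d z = 0 := by rw [h.hyp.symm, hzd]
  have hsurj : Function.Surjective ((B z).prod (B d)) := by
    rintro ⟨p, q⟩
    exact ⟨(p / B z z) • z + (q / B d d) • d, by simp [hzd, hdz, div_mul_cancel₀ _ hz, div_mul_cancel₀ _ hdd]⟩
  have h1 := LinearMap.finrank_range_add_finrank_ker ((B z).prod (B d))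
  rw [LinearMap.range_eq_top.mpr hsurj, finrank_top, Module.finrank_prod, Module.finrank_self, h.dim] at h1
  have hcmem : c ∈ LinearMap.ker ((B z).prod (B d)) := by simp [hc.1, hc.2]
  set x' := x - (B z x / B z z) • z - (B d x / B d d) • d with hx'
  have hx'mem : x' ∈ LinearMap.ker ((B z).prod (B d)) := by
    simp [hx', hzd, hdz, div_mul_cancel₀ _ hz, div_mul_cancel₀ _ hdd]
  have hspan := Submodule.eq_of_le_of_finrank_le (show K ∙ c ≤ LinearMap.ker ((B z).prod (B d)) by
    rwa [Submodule.span_singleton_le_iff_mem]) (by rw [finrank_span_singleton hc0]; omega)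
  obtain ⟨a, ha⟩ := Submodule.mem_span_singleton.mp (hspan ▸ hx'mem)
  have e : B c x' = 0 := by rw [← ha]; simp [hcc]
  simpa [hx', h.hyp.symm c z, hc.1, h.hyp.symm c d, hc.2] using e

lemma expand_ortho {z d c : V} (o : IsOrtho B z d c) (x : V) :
    x = (B x z / B z z) • z + (B x d / B d d) • d + (B x c / B c c) • c := by
  haveI := h.finK
  let L : V →ₗ[K] K × K × K := (B.flip z).prod ((B.flip d).prod (B.flip c))
  have hL : ∀ t, L t = (B t z, B t d, B t c) := fun t => rfl
  have hdz : B d z = 0 := by rw [h.hyp.symm, o.zd]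
  have hcz : B c z = 0 := by rw [h.hyp.symm, o.zc]
  have hcd : B c d = 0 := by rw [h.hyp.symm, o.dc]
  have hsurj : Function.Surjective L := by
    rintro ⟨p, q, s⟩
    refine ⟨(p / B z z) • z + (q / B d d) • d + (s / B c c) • c, ?_⟩
    simp [hL, o.zd, o.zc, o.dc, hdz, hcz, hcd, div_mul_cancel₀ _ o.zz, div_mul_cancel₀ _ o.dd, div_mul_cancel₀ _ o.cc]
  have hinj : Function.Injective L := (LinearMap.injective_iff_surjective_of_finrank_eq_finrank
    (by rw [h.dim, Module.finrank_prod, Module.finrank_prod, Module.finrank_self])).mpr hsurj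
  refine hinj ?_
  simp [hL, o.zd, o.zc, o.dc, hdz, hcz, hcd, div_mul_cancel₀ _ o.zz, div_mul_cancel₀ _ o.dd, div_mul_cancel₀ _ o.cc]

/-- The squares of rotations about `z` lie in `G`, with eigenvalue `(m + s) / (m - s)`. -/
theorem exists_rot {z d c : V} (o : IsOrtho B z d c) (m : K) (hm : m * m + B c c / B d d ≠ 0) :
    ∃ R : V ≃ₗ[K] V, (∀ x y, B (R x) (R y) = B x y) ∧ res F (R * R) ∈ G ∧ (∀ k : K, R (k • z) = k • z) ∧
      ∀ (L : Type _) [Field L] [Algebra K L] (s : L), s * s = -algebraMap K L (B c c / B d d) →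
        ∀ x, eigFun B d c s (R x) =
          (algebraMap K L m + s) / (algebraMap K L m - s) * eigFun B d c s x := by
  classical
  set e := c + m • d with he
  have hcd : B c d = 0 := by rw [h.hyp.symm, o.dc]
  have hdz : B d z = 0 := by rw [h.hyp.symm, o.zd]
  have hcz : B c z = 0 := by rw [h.hyp.symm, o.zc]
  have hee : B e e = B d d * (m * m + B c c / B d d) := by
    simp [he, o.dc, hcd]
    field_simp [o.dd]
    ring
  have hee0 : B e e ≠ 0 := by rw [hee]; exact mul_ne_zero o.dd hm
  set s₁ := refl B h.hyp.symm hee0 with hs₁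
  set s₂ := refl B h.hyp.symm o.dd with hs₂
  refine ⟨s₁ * s₂, fun x y => ?_, ?_, fun k => ?_, ?_⟩
  · show B (s₁ (s₂ x)) (s₁ (s₂ y)) = _
    rw [hs₁, isom_refl, hs₂, isom_refl]
  · have e1 : s₁ * s₂ * (s₁ * s₂) = s₁ * s₂ * s₁⁻¹ * s₂⁻¹ := by
      rw [hs₁, hs₂, refl_inv, refl_inv]; group
    rw [e1]
    exact h.hyp.comm_mem s₁ s₂ (isom_refl B h.hyp.symm hee0) (isom_refl B h.hyp.symm o.dd)
  · show s₁ (s₂ (k • z)) = k • z
    simp [hs₁, hs₂, he, o.zd, o.zc]
  intro L _ _ s hs x
  have hprod : (algebraMap K L m - s) * (algebraMap K L m + s) = algebraMap K L (m * m + B c c / B d d) := by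
    rw [map_add, map_mul]; linear_combination -hs
  have hne : algebraMap K L m - s ≠ 0 := by
    intro e0; rw [e0, zero_mul, eq_comm, map_eq_zero] at hprod; exact hm hprod
  set η := B c c / B d d with hη
  have hcη : B c c = η * B d d := by rw [hη, div_mul_cancel₀ _ o.dd]
  have hm' : m ^ 2 + η ≠ 0 := by rwa [pow_two]
  have hη0 : η ≠ 0 := div_ne_zero o.cc o.dd
  have hd0 : B (s₁ (s₂ x)) d = ((m * m - η) * B x d - 2 * m * (B x c)) / (m * m + η) ∧
      B (s₁ (s₂ x)) c = ((m * m - η) * B x c + 2 * m * η * B x d) / (m * m + η) := by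
    have h1 : ∀ y, s₁ y = y - (2 * B y e / B e e) • e := fun y => rfl
    have h3 : ∀ y, s₂ y = y - (2 * B y d / B d d) • d := fun y => rfl
    rw [h1, h3, hee]
    constructor <;>
    · simp [he, o.dc, hcd, hcη]
      field_simp [o.dd, hm']
      ring
  show algebraMap K L (B (s₁ (s₂ x)) d / B d d) + s * algebraMap K L (B (s₁ (s₂ x)) c / B c c) =
    _ * (algebraMap K L (B x d / B d d) + s * algebraMap K L (B x c / B c c))
  rw [hd0.1, hd0.2, hcη]
  have hne2 : algebraMap K L m + s ≠ 0 := by
    intro e0; rw [e0, mul_zero, eq_comm, map_eq_zero] at hprod; exact hm hprod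
  have hη1 : algebraMap K L η = -(s * s) := by rw [hs, neg_neg]
  have hs0 : s ≠ 0 := fun e0 => hη0 (by rw [e0, mul_zero, neg_zero, map_eq_zero] at hη1; exact hη1)
  generalize B x d = a
  generalize B x c = b
  have hδ : algebraMap K L (B d d) ≠ 0 := by simpa using o.dd
  simp only [map_div₀, map_sub, map_add, map_mul, map_ofNat, hη1]
  generalize algebraMap K L (B d d) = δ at *
  generalize algebraMap K L m = μ at *
  generalize algebraMap K L a = α at *
  generalize algebraMap K L b = β at *
  rw [show μ * μ + -(s * s) = (μ - s) * (μ + s) by ring]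
  field_simp
  ring

/-- A vector fixed by a power of a rotation square whose eigenvalue power is not one is a multiple of
the axis. -/
lemma mem_axis {z d c : V} (o : IsOrtho B z d c) {L : Type*} [Field L] [Algebra K L] {s lam : L}
    (hs : s * s = -algebraMap K L (B c c / B d d)) {T : AutV F V} {x : V} (hx : T x = x)
    (h1 : eigFun B d c s (T x) = lam * eigFun B d c s x) (hl : lam ≠ 1)
    (h1' : eigFun B d c (-s) (T x) = lam⁻¹ * eigFun B d c (-s) x) : x ∈ K ∙ z := by
  rw [hx] at h1 h1'
  have e1 : eigFun B d c s x = 0 := by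
    by_contra hne
    exact hl ((mul_eq_right₀ hne).mp h1.symm)
  have e2 : eigFun B d c (-s) x = 0 := by
    by_contra hne
    exact hl (inv_eq_one.mp ((mul_eq_right₀ hne).mp h1'.symm))
  have h2 : (2 : L) ≠ 0 := fun e => h.hyp.two_ne ((algebraMap K L).injective (by rw [map_ofNat, map_zero, e]))
  have hs0 : s ≠ 0 := fun e => div_ne_zero o.cc o.dd (by
    rw [e, mul_zero, zero_eq_neg, map_eq_zero] at hs; exact hs)
  simp only [eigFun] at e1 e2
  have hA : algebraMap K L (B x d / B d d) = 0 :=
    (mul_eq_zero.mp (show (2 : L) * _ = 0 by linear_combination e1 + e2)).resolve_left h2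
  have hC : algebraMap K L (B x c / B c c) = 0 :=
    (mul_eq_zero.mp (show (2 : L) * s * _ = 0 by linear_combination e1 - e2)).resolve_left (mul_ne_zero h2 hs0)
  rw [map_eq_zero] at hA hC
  rw [h.expand_ortho o x, hA, hC, zero_smul, zero_smul, add_zero, add_zero]
  exact Submodule.smul_mem _ _ (Submodule.mem_span_singleton_self z)

/-- A rotation about `z` in `G` whose `r`-th power fixes only the multiples of `z`. -/
theorem exists_axial {z : V} (hz : B z z ≠ 0) :
    ∃ t ∈ G, t z = z ∧ ∀ x, (t ^ finrank F K) x = x → x ∈ K ∙ z := by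
  classical
  haveI : Finite K := Module.finite_of_finite F
  haveI := Fintype.ofFinite K
  obtain ⟨d, c, o⟩ := h.exists_ortho hz
  set η := B c c / B d d with hη
  have hη0 : η ≠ 0 := div_ne_zero o.cc o.dd
  set L := AlgebraicClosure K
  obtain ⟨s, hs2⟩ := IsAlgClosed.exists_pow_nat_eq (-algebraMap K L η) (n := 2) (by omega)
  have hs : s * s = -algebraMap K L η := by rw [← pow_two]; exact hs2
  have hs0 : s ≠ 0 := fun e => hη0 (by rw [e, mul_zero, zero_eq_neg, map_eq_zero] at hs; exact hs)
  have h2 : (2 : L) ≠ 0 := fun e => h.hyp.two_ne ((algebraMap K L).injective (by rw [map_ofNat, map_zero, e]))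
  set n := 2 * finrank F K with hn
  let lamf : K → L := fun m => (algebraMap K L m + s) / (algebraMap K L m - s)
  let bad : Finset K := Finset.univ.filter fun m => m * m + η = 0 ∨ lamf m ^ n = 1
  have hne : ∀ m, m * m + η ≠ 0 → algebraMap K L m - s ≠ 0 := fun m hm e0 => hm (by
    refine (algebraMap K L).injective ?_
    rw [map_zero, map_add, map_mul]
    linear_combination (algebraMap K L m + s) * e0 + hs)
  have hbad : bad.card ≤ 2 + n := by
    have hsub : bad ⊆ (Finset.univ.filter fun m => m * m + η = 0) ∪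
        (Finset.univ.filter fun m => m * m + η ≠ 0 ∧ lamf m ^ n = 1) := fun m hm => by
      simp only [bad, Finset.mem_filter, Finset.mem_univ, true_and, Finset.mem_union] at hm ⊢
      tauto
    refine (Finset.card_le_card hsub).trans ((Finset.card_union_le _ _).trans (Nat.add_le_add ?_ ?_))
    · have hdeg : (Polynomial.X ^ 2 + Polynomial.C η).natDegree = 2 := Polynomial.natDegree_X_pow_add_C
      have hp0 : (Polynomial.X ^ 2 + Polynomial.C η) ≠ 0 := fun e => by rw [e, Polynomial.natDegree_zero] at hdeg; omega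
      rw [← hdeg]
      refine le_trans (Finset.card_le_card ?_) ((Multiset.toFinset_card_le _).trans (Polynomial.card_roots' _))
      intro m hm
      simp only [Finset.mem_filter, Finset.mem_univ, true_and] at hm
      rw [Multiset.mem_toFinset, Polynomial.mem_roots hp0, Polynomial.IsRoot]
      simpa [pow_two] using hm
    · have hn0 : 0 < n := by have := h.three_le; omega
      refine le_trans (Finset.card_le_card_of_injOn lamf (t := (Polynomial.nthRoots n (1 : L)).toFinset) ?_ ?_)
        ((Multiset.toFinset_card_le _).trans (Polynomial.card_nthRoots n 1))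
      · intro m hm
        simp only [Finset.coe_filter, Finset.mem_univ, true_and, Set.mem_setOf_eq] at hm
        simp only [Finset.mem_coe, Multiset.mem_toFinset, Polynomial.mem_nthRoots hn0]
        exact hm.2
      · intro m hm m' hm' e
        simp only [Finset.coe_filter, Finset.mem_univ, true_and, Set.mem_setOf_eq] at hm hm'
        simp only [lamf] at e
        rw [div_eq_div_iff (hne m hm.1) (hne m' hm'.1)] at e
        have : 2 * s * (algebraMap K L m' - algebraMap K L m) = 0 := by linear_combination e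
        exact ((algebraMap K L).injective (sub_eq_zero.mp ((mul_eq_zero.mp this).resolve_left (mul_ne_zero h2 hs0)))).symm
  obtain ⟨m, -, hm⟩ := Finset.exists_mem_notMem_of_card_lt_card (s := bad) (t := (Finset.univ : Finset K)) (by
    refine hbad.trans_lt ?_
    rw [Finset.card_univ, ← Nat.card_eq_fintype_card, Module.natCard_eq_pow_finrank (K := F) (V := K)]
    have h3 : 3 ≤ Nat.card F := by
      obtain ⟨p, hp⟩ := CharP.exists F
      haveI := Fact.mk (CharP.char_is_prime F p)
      obtain ⟨e, -, he⟩ := FiniteField.card F p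
      rw [Nat.card_eq_fintype_card, he]
      exact (h.char_ge p).trans (Nat.le_self_pow e.pos.ne' p)
    refine lt_of_lt_of_le ?_ (Nat.pow_le_pow_left h3 _)
    have : ∀ j, 2 + 2 * (3 + j) < 3 ^ (3 + j) := fun j => by
      induction j with
      | zero => norm_num
      | succ j ih => rw [← add_assoc 3 j 1, pow_succ]; omega
    have h5 := h.three_le
    obtain ⟨j, hj⟩ : ∃ j, finrank F K = 3 + j := ⟨finrank F K - 3, by omega⟩
    rw [hn, hj]; exact this j)
  simp only [bad, Finset.mem_filter, Finset.mem_univ, true_and, not_or] at hm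
  obtain ⟨R, hRiso, hRG, hRz, hReig⟩ := h.exists_rot o m hm.1
  refine ⟨res F (R * R), hRG, ?_, fun x hx => ?_⟩
  · have := hRz 1
    rw [one_smul] at this
    show R (R z) = z
    rw [this, this]
  have hpow : ∀ (σ : L), σ * σ = -algebraMap K L η → ∀ (j : ℕ) y,
      eigFun B d c σ (((res F (R * R)) ^ j : AutV F V) y) =
        ((algebraMap K L m + σ) / (algebraMap K L m - σ)) ^ (2 * j) * eigFun B d c σ y := by
    intro σ hσ j
    induction j with
    | zero => intro y; simp
    | succ j ih =>
      intro y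
      rw [pow_succ', LinearEquiv.mul_apply]
      show eigFun B d c σ (R (R _)) = _
      rw [hReig L σ hσ, hReig L σ hσ, ih]
      ring
  refine h.mem_axis o hs hx (hpow s hs _ x) hm.2 ?_
  rw [hpow (-s) (by rw [neg_mul_neg, hs]), ← inv_pow, inv_div, ← sub_eq_add_neg, sub_neg_eq_add]

/-- Members of `G` map singular lines to singular lines, unless the field has three elements. -/
theorem line_of_three_of_ne (p : ℕ) [Fact p.Prime] [CharP F p] (hq : 5 ≤ p ∨ ¬ (Nat.card F).Prime)
    {u : V} (hu0 : u ≠ 0) (hu : B u u = 0) {g : AutV F V} (hg : g ∈ G) :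
    B (g u) (g u) = 0 ∧ ∀ k : K, g (k • u) ∈ K ∙ g u := by
  classical
  haveI : Finite K := Module.finite_of_finite F
  by_cases hval : ∀ k : K, B (g (k • u)) (g (k • u)) ∈ Set.range (algebraMap F K)
  · exact h.line_of_values hu0 hu hg hval
  exfalso
  simp only [not_forall] at hval
  obtain ⟨k₁, hk₁⟩ := hval
  set z := g (k₁ • u) with hzdef
  have hz : B z z ≠ 0 := fun e => hk₁ ⟨0, by rw [map_zero, e]⟩
  have hk0 : k₁ ≠ 0 := fun e => hz (by simp [hzdef, e])
  obtain ⟨t, ht, htz, htfix⟩ := h.exists_axial hz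
  set y := g⁻¹ * t * g with hy
  have hyG : y ∈ G := G.mul_mem (G.mul_mem (G.inv_mem hg) ht) hg
  set u' := k₁ • u with hu'
  have hu'0 : u' ≠ 0 := smul_ne_zero hk0 hu0
  have hu's : B u' u' = 0 := by simp [hu', hu]
  have hyu : y u' = u' := by
    show g.symm (t (g u')) = u'
    rw [htz, g.symm_apply_apply]
  have hline := h.point p hq hu'0 hu's hyG hyu
  obtain ⟨τ, c, hc, hτ⟩ := h.hyp.semi_on_line hu'0 hu's (h.only u' hu'0 hu's) hyG hline
  have hc1 : c = 1 := by
    have h1 := hτ 1
    rw [one_smul, hyu, map_one, mul_one] at h1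
    exact smul_left_injective K hu'0 (by simpa using h1.symm)
  have hpow : ∀ (j : ℕ) (k : K), (y ^ j) (k • u') = (τ ^ j) k • u' := by
    intro j
    induction j with
    | zero => intro k; simp
    | succ j ih => intro k; rw [pow_succ', LinearEquiv.mul_apply, ih, hτ, hc1, one_mul, pow_succ']; rfl
  refine h.not_in_line hu0 hu hg hz fun k => htfix _ ?_
  have e := hpow (finrank F K) (k / k₁)
  rw [show τ ^ finrank F K = 1 by rw [← IsGalois.card_aut_eq_finrank F K]; exact pow_card_eq_one',
    AlgEquiv.one_apply, hu', smul_smul, div_mul_cancel₀ _ hk0] at e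
  have hconj : y ^ finrank F K = g⁻¹ * t ^ finrank F K * g := by
    rw [hy, show g⁻¹ * t * g = g⁻¹ * t * (g⁻¹)⁻¹ by rw [inv_inv], conj_pow, inv_inv]
  rw [hconj] at e
  simpa using congrArg g e

end Hyp3

end CfsgLib.ExtFieldOrth
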