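import Mathlib
import Cfsg.Agent.Lib.ExtFieldOrth.ThreeLine
import Cfsg.Agent.Lib.Zsigmondy.Basic

/-!
Dimension three over the field with three elements: members of `G` map singular lines to singular lines,
by a normal complement of a primitive prime part of a split torus in the stabiliser of a non-singular
vector and the Frattini argument.
-/

set_option autoImplicit false
set_option linter.unusedSectionVars false
set_option linter.style.haveILetI false
set_option linter.unusedVariables false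
set_option linter.unusedSimpArgs false

namespace CfsgLib.ExtFieldOrth

open Module

variable {F K V : Type*} [Field F] [Field K] [Algebra F K] [AddCommGroup V] [Module F V]
  [Module K V] [IsScalarTower F K V]
variable {B : V →ₗ[K] V →ₗ[K] K} {G : Subgroup (AutV F V)}

/-- A polynomial of a map acting on a line by a multiplication. -/
lemma aeval_line (T : Module.End F V) (u : V) (a : K) (hT : ∀ k : K, T (k • u) = (a * k) • u)
    (q : Polynomial F) : ∀ k : K, Polynomial.aeval T q (k • u) = (Polynomial.aeval a q * k) • u := by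
  induction q using Polynomial.induction_on' with
  | add p q hp hq => intro k; simp [hp, hq, add_mul, add_smul]
  | monomial n c =>
    intro k
    have hpow : ∀ j, ∀ k : K, (T ^ j) (k • u) = (a ^ j * k) • u := by
      intro j
      induction j with
      | zero => intro k; simp
      | succ j ih =>
        intro k
        rw [pow_succ', Module.End.mul_apply, ih, hT, pow_succ', mul_assoc]
    rw [Polynomial.aeval_monomial, Polynomial.aeval_monomial, Module.End.mul_apply, hpow,
      Module.algebraMap_end_apply, ← algebraMap_smul K c, smul_smul, mul_assoc]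

namespace Hyp3

variable [Fintype F] [FiniteDimensional F K] [Algebra.IsSeparable F K] [FiniteDimensional F V]
variable (h : Hyp3 B G)
include h

variable {u₁ v₁ z : V}

/-- The torus of the frame. -/
def torHom (fr : IsFrame B u₁ v₁ z) : Kˣ →* AutV F V where
  toFun a := res F (tor B fr.uu fr.vv fr.uv (by rw [h.hyp.symm, fr.uv]) a.ne_zero)
  map_one' := LinearEquiv.ext fun x => torMap_one B u₁ v₁ x
  map_mul' a b := LinearEquiv.ext fun x =>
    (torMap_mul B fr.uu fr.vv fr.uv (by rw [h.hyp.symm, fr.uv]) a.ne_zero b.ne_zero x).symm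

lemma torHom_u (fr : IsFrame B u₁ v₁ z) (a : Kˣ) (k : K) : h.torHom fr a (k • u₁) = ((a : K) * k) • u₁ := by
  show torMap B u₁ v₁ (a : K) (k • u₁) = _
  simp [torMap_apply, fr.uu, fr.uv]
  module

lemma torHom_v (fr : IsFrame B u₁ v₁ z) (a : Kˣ) (k : K) :
    h.torHom fr a (k • v₁) = ((a : K)⁻¹ * k) • v₁ := by
  show torMap B u₁ v₁ (a : K) (k • v₁) = _
  simp [torMap_apply, fr.vv, show B v₁ u₁ = 1 by rw [h.hyp.symm, fr.uv]]
  module

lemma torHom_z (fr : IsFrame B u₁ v₁ z) (a : Kˣ) (k : K) : h.torHom fr a (k • z) = k • z := by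
  show torMap B u₁ v₁ (a : K) (k • z) = _
  simp [torMap_apply, show B z u₁ = 0 by rw [h.hyp.symm, fr.uw], show B z v₁ = 0 by rw [h.hyp.symm, fr.vw]]

lemma torHom_injective (fr : IsFrame B u₁ v₁ z) : Function.Injective (h.torHom fr) := fun a b e => by
  have := LinearEquiv.congr_fun e ((1 : K) • u₁)
  rw [h.torHom_u, h.torHom_u] at this
  exact Units.ext (by simpa using smul_left_injective K fr.u0 this)

lemma torHom_fix (fr : IsFrame B u₁ v₁ z) {a : Kˣ} (ha : a ≠ 1) {x : V} (hx : h.torHom fr a x = x) :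
    x ∈ K ∙ z := by
  have e := hx
  conv_lhs at e => rw [h.expand fr x, map_add, map_add, h.torHom_u, h.torHom_v, h.torHom_z]
  have h1 := congrArg (fun y => B y v₁) e
  have h2 := congrArg (fun y => B y u₁) e
  simp [fr.uv, fr.vv, fr.uu, show B v₁ u₁ = 1 by rw [h.hyp.symm, fr.uv], show B z u₁ = 0 by rw [h.hyp.symm, fr.uw],
    show B z v₁ = 0 by rw [h.hyp.symm, fr.vw]] at h1 h2
  have ha' : (a : K) ≠ 1 := fun e => ha (Units.ext e)
  have e1 : B x v₁ = 0 := by
    rcases eq_or_ne (B x v₁) 0 with e1 | e1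
    · exact e1
    · exact absurd ((mul_eq_right₀ e1).mp h1) ha'
  have e2 : B x u₁ = 0 := by
    rcases eq_or_ne (B x u₁) 0 with e2 | e2
    · exact e2
    · exact absurd (inv_eq_one.mp ((mul_eq_right₀ e2).mp h2)) ha'
  rw [h.expand fr x, e1, e2, zero_smul, zero_smul, zero_add, zero_add]
  exact Submodule.smul_mem _ _ (Submodule.mem_span_singleton_self z)

lemma det_torHom (fr : IsFrame B u₁ v₁ z) (a : Kˣ) :
    LinearMap.det ((h.torHom fr a : AutV F V) : V →ₗ[F] V) = 1 := by
  haveI := h.finK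
  have hvu : B v₁ u₁ = 1 := by rw [h.hyp.symm, fr.uv]
  show LinearMap.det ((tor B fr.uu fr.vv fr.uv hvu a.ne_zero : V →ₗ[K] V).restrictScalars F) = 1
  have e : (tor B fr.uu fr.vv fr.uv hvu a.ne_zero : V →ₗ[K] V) =
      LinearMap.transvection (((a : K) - 1) • B.flip v₁) u₁ ∘ₗ
        LinearMap.transvection (((a : K)⁻¹ - 1) • B.flip u₁) v₁ := by
    refine LinearMap.ext fun x => ?_
    simp [LinearMap.transvection.apply, torMap_apply, fr.vv]
    abel
  rw [LinearMap.det_restrictScalars, e, LinearMap.det_comp, LinearMap.transvection.det, LinearMap.transvection.det]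
  simp [fr.uv, hvu]

/-- A member stabilising both lines and sending `z` to `± z` is the torus map times that sign. -/
theorem stab_lines (fr : IsFrame B u₁ v₁ z) (hb : B z z ∉ Set.range (algebraMap F K)) {g : AutV F V}
    (hg : g ∈ G) {ε₀ : K} (hε : ε₀ * ε₀ = 1) (hgz : g z = ε₀ • z) (hu : ∀ k : K, g (k • u₁) ∈ K ∙ u₁)
    (hv : ∀ k : K, g (k • v₁) ∈ K ∙ v₁) :
    ∃ c : Kˣ, (∀ k : K, g (k • u₁) = ((c : K) * k) • u₁) ∧ (∀ k : K, g (k • v₁) = ((c : K)⁻¹ * k) • v₁) ∧
      ∀ k : K, g (k • z) = (ε₀ * k) • z := by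
  classical
  haveI : Finite K := Module.finite_of_finite F
  haveI := Fact.mk h.hyp.prime
  have hv0 : v₁ ≠ 0 := fun e => by simpa [e] using fr.uv
  have hz0 : z ≠ 0 := fun e => fr.ww (by simp [e])
  obtain ⟨τ, c, hc, hτ⟩ := h.hyp.semi_on_line fr.u0 fr.uu (h.only u₁ fr.u0 fr.uu) hg hu
  have hex : ∀ k : K, ∃ a : K, g (k • z) = a • z := fun k => by
    have e1 : B u₁ (g (k • z)) = 0 := h.hyp.map_perp fr.u0 hg hu (by simp [fr.uw])
    have e2 : B v₁ (g (k • z)) = 0 := h.hyp.map_perp hv0 hg hv (by simp [fr.vw])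
    refine ⟨B (g (k • z)) z / B z z, ?_⟩
    conv_lhs => rw [h.expand_perp fr e1]
    rw [h.hyp.symm _ v₁, e2, zero_smul, zero_add]
  choose χ hχ using hex
  have hχ1 : χ 1 = ε₀ := smul_left_injective K hz0 (by
    show χ 1 • z = ε₀ • z
    rw [← hχ, one_smul, hgz])
  set t := res F (sieg B h.hyp.symm h.hyp.two_ne fr.uu (show B u₁ ((1 : K) • z) = 0 by simp [fr.uw]))
  have htQ : InQ B G u₁ t := h.sieg_inQ _ _
  have hconj : InQ B G u₁ (g * t * g⁻¹) := h.inQ_of_fix fr (G.mul_mem (G.mul_mem hg htQ.1) (G.inv_mem hg))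
    fun k => by
      have hk : g ((τ.symm (k / c)) • u₁) = k • u₁ := by
        rw [hτ, τ.apply_symm_apply, mul_div_cancel₀ _ hc]
      show g (t (g.symm (k • u₁))) = k • u₁
      rw [← hk, g.symm_apply_apply, htQ.2.1]
  have htd : del B v₁ z t = B z z := (h.del_sieg fr 1).trans (one_mul _)
  have key : ∀ k, χ k * del B v₁ z (g * t * g⁻¹) = c * τ (k * B z z) := by
    intro k
    have e1 : (g * t * g⁻¹) (g (k • z)) = g (k • z) + (c * τ (k * B z z)) • u₁ := by
      show g (t (g.symm (g (k • z)))) = _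
      rw [g.symm_apply_apply, h.inQ_apply_w fr htQ, htd, map_add, hτ]
    rw [hχ, h.inQ_apply_w fr hconj, add_right_inj] at e1
    exact smul_left_injective K fr.u0 e1
  have hd0 : del B v₁ z (g * t * g⁻¹) ≠ 0 := fun e => by
    have := key 1
    rw [e, mul_zero, eq_comm, one_mul] at this
    exact mul_ne_zero hc (by simpa using fr.ww) this
  have hχk : ∀ k, χ k = ε₀ * τ k := fun k => by
    have k1 := key 1
    have k2 := key k
    rw [hχ1, one_mul] at k1
    rw [map_mul] at k2
    apply mul_right_cancel₀ hd0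
    linear_combination k2 - τ k * k1
  have hτb : τ (B z z) = B z z := by
    refine (sub_eq_zero.mp ((traceForm_nondegenerate F K).1 _ fun y => ?_)).symm
    obtain ⟨k, rfl⟩ := τ.surjective y
    have e := h.hyp.isom g hg (k • z) ((1 : K) • z)
    rw [hχ, hχ, hχk, hχk] at e
    simp only [map_smul, LinearMap.smul_apply, smul_eq_mul, map_one, mul_one, one_mul] at e
    rw [show ε₀ * (ε₀ * τ k * B z z) = B z z * τ k by linear_combination (B z z * τ k) * hε] at e
    rw [Algebra.traceForm_apply, sub_mul, map_sub, ← map_mul τ, Algebra.trace_eq_of_algEquiv, e, mul_comm k,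
      sub_self]
  have hτ1 : τ = 1 := by
    have hx' : B z z ∈ AlgHom.equalizer τ.toAlgHom (AlgHom.id F K) := hτb
    rcases (Subalgebra.isSimpleOrder_of_finrank_prime F K h.hyp.prime).eq_bot_or_eq_top
        (AlgHom.equalizer τ.toAlgHom (AlgHom.id F K)) with e0 | e0
    · rw [e0] at hx'
      exact absurd (Algebra.mem_bot.mp hx') hb
    · refine AlgEquiv.ext fun y => ?_
      have : y ∈ AlgHom.equalizer τ.toAlgHom (AlgHom.id F K) := e0 ▸ Algebra.mem_top
      exact this
  subst hτ1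
  refine ⟨Units.mk0 c hc, fun k => hτ k, fun l => ?_, fun k => by rw [hχ, hχk]; rfl⟩
  obtain ⟨a, ha⟩ := Submodule.mem_span_singleton.mp (hv l)
  have hca : c * a = l := by
    refine sub_eq_zero.mp ((traceForm_nondegenerate F K).1 _ fun k => ?_)
    have e := h.hyp.isom g hg (k • u₁) (l • v₁)
    rw [hτ, ← ha] at e
    simp [fr.uv] at e
    rw [Algebra.traceForm_apply, sub_mul, map_sub, show c * a * k = a * (c * k) by ring, e, mul_comm, sub_self]
  rw [← ha, Units.val_mk0, ← hca, inv_mul_cancel_left₀ hc]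

lemma eq_torHom (fr : IsFrame B u₁ v₁ z) (hb : B z z ∉ Set.range (algebraMap F K)) {g : AutV F V}
    (hg : g ∈ G) (hgz : g z = z) (hu : ∀ k : K, g (k • u₁) ∈ K ∙ u₁)
    (hv : ∀ k : K, g (k • v₁) ∈ K ∙ v₁) : ∃ c : Kˣ, g = h.torHom fr c := by
  obtain ⟨c, h1, h2, h3⟩ := h.stab_lines fr hb hg (ε₀ := 1) (one_mul 1) (by rw [one_smul, hgz]) hu hv
  refine ⟨c, LinearEquiv.ext fun x => ?_⟩
  rw [h.expand fr x]
  simp only [map_add, h1, h2, h3, h.torHom_u, h.torHom_v, h.torHom_z, one_mul]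

/-- A member conjugating one torus element to another permutes the two lines. -/
theorem lines_of_conj (fr : IsFrame B u₁ v₁ z) {a a' : Kˣ} (ha : (a : K) ∉ Set.range (algebraMap F K))
    (ha' : (a' : K) * a' ≠ 1) {g : AutV F V} (hconj : g * h.torHom fr a * g⁻¹ = h.torHom fr a') :
    (Polynomial.aeval (a' : K) (minpoly F (a : K)) = 0 → (∀ k : K, g (k • u₁) ∈ K ∙ u₁) ∧
      ∀ k : K, g (k • v₁) ∈ K ∙ v₁) ∧
    (Polynomial.aeval (a' : K) (minpoly F (a : K)) ≠ 0 → (∀ k : K, g (k • u₁) ∈ K ∙ v₁) ∧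
      ∀ k : K, g (k • v₁) ∈ K ∙ u₁) := by
  classical
  haveI : Finite K := Module.finite_of_finite F
  haveI := Fact.mk h.hyp.prime
  set T : Module.End F V := ((h.torHom fr a : AutV F V) : V →ₗ[F] V) with hT
  set T' : Module.End F V := ((h.torHom fr a' : AutV F V) : V →ₗ[F] V) with hT'
  have hgT : ∀ x, g (T x) = T' (g x) := fun x => by
    show g (h.torHom fr a x) = h.torHom fr a' (g x)
    rw [← hconj]
    show _ = g (h.torHom fr a (g.symm (g x)))
    rw [g.symm_apply_apply]
  have hgq : ∀ (q : Polynomial F) x, g (Polynomial.aeval T q x) = Polynomial.aeval T' q (g x) := by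
    intro q
    induction q using Polynomial.induction_on' with
    | add p q hp hq => intro x; simp [hp, hq]
    | monomial n c =>
      intro x
      have hn : ∀ j x, g ((T ^ j) x) = (T' ^ j) (g x) := by
        intro j
        induction j with
        | zero => intro x; rfl
        | succ j ih => intro x; rw [pow_succ, Module.End.mul_apply, ih, hgT, pow_succ, Module.End.mul_apply]
      simp only [Polynomial.aeval_monomial, Module.End.mul_apply, Module.algebraMap_end_apply, map_smul, hn]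
  have hcoord : ∀ (q : Polynomial F) x, Polynomial.aeval T q x = 0 →
      (Polynomial.aeval (a' : K) q * B (g x) v₁ = 0 ∧ Polynomial.aeval ((a' : K)⁻¹) q * B (g x) u₁ = 0 ∧
        Polynomial.aeval (1 : K) q * (B (g x) z / B z z) = 0) := by
    intro q x hx
    have e := hgq q x
    rw [hx, map_zero, h.expand fr (g x), map_add, map_add,
      aeval_line T' u₁ (a' : K) (h.torHom_u fr a'), aeval_line T' v₁ ((a' : K)⁻¹) (h.torHom_v fr a'),
      aeval_line T' z 1 (fun k => by rw [one_mul]; exact h.torHom_z fr a' k)] at e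
    have h1 := congrArg (fun y => B y v₁) e
    have h2 := congrArg (fun y => B y u₁) e
    have h3 := congrArg (fun y => B y z) e
    simp [fr.uv, fr.vv, fr.uu, fr.uw, fr.vw, fr.ww, show B v₁ u₁ = 1 by rw [h.hyp.symm, fr.uv],
      show B z u₁ = 0 by rw [h.hyp.symm, fr.uw], show B z v₁ = 0 by rw [h.hyp.symm, fr.vw]] at h1 h2 h3
    refine ⟨?_, ?_, ?_⟩
    · exact mul_eq_zero.mpr h1
    · exact mul_eq_zero.mpr h2
    · rcases h3 with h3 | h3
      · rw [h3, zero_mul]
      · rw [h3, zero_div, mul_zero]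
  -- roots
  have haF : ∀ τ : K ≃ₐ[F] K, τ (a : K) = a → τ = 1 := fun τ e => by
    have hx' : (a : K) ∈ AlgHom.equalizer τ.toAlgHom (AlgHom.id F K) := e
    rcases (Subalgebra.isSimpleOrder_of_finrank_prime F K h.hyp.prime).eq_bot_or_eq_top
        (AlgHom.equalizer τ.toAlgHom (AlgHom.id F K)) with e0 | e0
    · rw [e0] at hx'
      exact absurd (Algebra.mem_bot.mp hx') ha
    · refine AlgEquiv.ext fun y => ?_
      have : y ∈ AlgHom.equalizer τ.toAlgHom (AlgHom.id F K) := e0 ▸ Algebra.mem_top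
      exact this
  have hint : IsIntegral F (a : K) := IsIntegral.of_finite F _
  have hroot : ∀ y : K, Polynomial.aeval y (minpoly F (a : K)) = 0 → ∃ τ : K ≃ₐ[F] K, τ (a : K) = y := fun y hy =>
    (Normal.minpoly_eq_iff_mem_orbit (F := F) (E := K)).mp
      (minpoly.eq_of_root (IsIntegral.of_finite F (a : K)).isAlgebraic hy) |> fun ⟨σ, hσ⟩ => ⟨σ, hσ⟩
  have h1root : Polynomial.aeval (1 : K) (minpoly F (a : K)) ≠ 0 := fun e => by
    obtain ⟨τ, hτ⟩ := hroot 1 e
    exact ha ⟨1, by rw [map_one]; exact τ.injective (by rw [hτ, map_one])⟩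
  have hboth : Polynomial.aeval (a' : K) (minpoly F (a : K)) = 0 →
      Polynomial.aeval ((a' : K)⁻¹) (minpoly F (a : K)) = 0 → False := fun e1 e2 => by
    obtain ⟨τ₁, hτ₁⟩ := hroot _ e1
    obtain ⟨τ₂, hτ₂⟩ := hroot _ e2
    set σ := τ₂ * τ₁⁻¹ with hσ
    have hσa : σ (a' : K) = (a' : K)⁻¹ := by
      show τ₂ (τ₁.symm (a' : K)) = _
      rw [← hτ₁, τ₁.symm_apply_apply, hτ₂, hτ₁]
    have hσ2 : (σ * σ) (a : K) = a := by
      have e : (σ * σ) (a' : K) = (a' : K) := by rw [AlgEquiv.mul_apply, hσa, map_inv₀, hσa, inv_inv]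
      have hc : Commute τ₁ (σ * σ) := by
        haveI := isCyclic_of_prime_card (IsGalois.card_aut_eq_finrank F K)
        exact (IsCyclic.commGroup (α := K ≃ₐ[F] K)).mul_comm _ _
      rw [← hτ₁, ← AlgEquiv.mul_apply, ← hc.eq, AlgEquiv.mul_apply] at e
      exact τ₁.injective e
    have hord := haF _ hσ2
    have hσr : σ ^ finrank F K = 1 := by rw [← IsGalois.card_aut_eq_finrank F K]; exact pow_card_eq_one'
    obtain ⟨j, hj⟩ := h.odd_deg
    rw [hj, pow_succ, pow_mul, pow_two, hord, one_pow, one_mul] at hσr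
    rw [hσr, AlgEquiv.one_apply] at hσa
    exact ha' (by nth_rewrite 2 [hσa]; exact mul_inv_cancel₀ a'.ne_zero)
  have haa : (a : K)⁻¹ ∉ Set.range (algebraMap F K) := fun ⟨x, hx⟩ => ha ⟨x⁻¹, by rw [map_inv₀, hx, inv_inv]⟩
  have hu1 : ∀ k : K, Polynomial.aeval T (minpoly F (a : K)) (k • u₁) = 0 := fun k => by
    rw [aeval_line T u₁ (a : K) (h.torHom_u fr a), minpoly.aeval, zero_mul, zero_smul]
  have hv1 : ∀ k : K, Polynomial.aeval T (minpoly F ((a : K)⁻¹)) (k • v₁) = 0 := fun k => by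
    rw [aeval_line T v₁ ((a : K)⁻¹) (h.torHom_v fr a), minpoly.aeval, zero_mul, zero_smul]
  have hinv : ∀ y : K, Polynomial.aeval y (minpoly F ((a : K)⁻¹)) = 0 →
      Polynomial.aeval y⁻¹ (minpoly F (a : K)) = 0 := fun y hy => by
    obtain ⟨τ, hτ⟩ := (Normal.minpoly_eq_iff_mem_orbit (F := F) (E := K)).mp
      (minpoly.eq_of_root (IsIntegral.of_finite F ((a : K)⁻¹)).isAlgebraic hy) |> fun ⟨σ, hσ⟩ =>
        (⟨σ, hσ⟩ : ∃ σ : K ≃ₐ[F] K, σ (a : K)⁻¹ = y)
    rw [← hτ, map_inv₀, inv_inv, Polynomial.aeval_algHom_apply, minpoly.aeval, map_zero]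
  have h1inv : Polynomial.aeval (1 : K) (minpoly F ((a : K)⁻¹)) ≠ 0 := fun e => h1root (by simpa using hinv 1 e)
  have hline : ∀ x : V, x ∈ K ∙ u₁ ↔ B x u₁ = 0 ∧ B x z = 0 := fun x => by
    constructor
    · intro hx
      obtain ⟨k, rfl⟩ := Submodule.mem_span_singleton.mp hx
      simp [fr.uu, fr.uw]
    · rintro ⟨e1, e2⟩
      rw [h.expand fr x, e1, e2, zero_div, zero_smul, zero_smul, add_zero, add_zero]
      exact Submodule.smul_mem _ _ (Submodule.mem_span_singleton_self _)
  have hline' : ∀ x : V, x ∈ K ∙ v₁ ↔ B x v₁ = 0 ∧ B x z = 0 := fun x => by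
    constructor
    · intro hx
      obtain ⟨k, rfl⟩ := Submodule.mem_span_singleton.mp hx
      simp [fr.vv, fr.vw]
    · rintro ⟨e1, e2⟩
      rw [h.expand fr x, e1, e2, zero_div, zero_smul, zero_smul, zero_add, add_zero]
      exact Submodule.smul_mem _ _ (Submodule.mem_span_singleton_self _)
  have hz0 : ∀ (q : Polynomial F) x, Polynomial.aeval T q x = 0 → Polynomial.aeval (1 : K) q ≠ 0 → B (g x) z = 0 :=
    fun q x hx hq => by
      have := (mul_eq_zero.mp (hcoord q x hx).2.2).resolve_left hq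
      exact (div_eq_zero_iff.mp this).resolve_right fr.ww
  constructor
  · intro e
    refine ⟨fun k => (hline _).mpr ⟨?_, hz0 _ _ (hu1 k) h1root⟩, fun k => (hline' _).mpr ⟨?_, hz0 _ _ (hv1 k) h1inv⟩⟩
    · exact (mul_eq_zero.mp (hcoord _ _ (hu1 k)).2.1).resolve_left (hboth e)
    · exact (mul_eq_zero.mp (hcoord _ _ (hv1 k)).1).resolve_left fun e' => hboth e (hinv _ e')
  · intro e
    refine ⟨fun k => (hline' _).mpr ⟨?_, hz0 _ _ (hu1 k) h1root⟩, fun k => (hline _).mpr ⟨?_, hz0 _ _ (hv1 k) h1inv⟩⟩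
    · exact (mul_eq_zero.mp (hcoord _ _ (hu1 k)).1).resolve_left e
    · exact (mul_eq_zero.mp (hcoord _ _ (hv1 k)).2.1).resolve_left fun e' => e (by simpa using hinv _ e')

/-- In the orthogonal plane of a non-singular vector of an image of a line lie two singular vectors. -/
theorem exists_frame_of_value (hF : Nat.card F = 3) {u : V} (hu0 : u ≠ 0) (hu : B u u = 0) {g : AutV F V}
    (hg : g ∈ G) {k₁ : K} (hz : B (g (k₁ • u)) (g (k₁ • u)) ≠ 0) :
    ∃ u₁ v₁, IsFrame B u₁ v₁ (g (k₁ • u)) := by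
  classical
  haveI : Finite K := Module.finite_of_finite F
  haveI := Fintype.ofFinite K
  set z := g (k₁ • u) with hzdef
  obtain ⟨d, c, o⟩ := h.exists_ortho hz
  set η := B c c / B d d with hη
  have hdz : B d z = 0 := by rw [h.hyp.symm, o.zd]
  have hcz : B c z = 0 := by rw [h.hyp.symm, o.zc]
  have hcd : B c d = 0 := by rw [h.hyp.symm, o.dc]
  have hη0 : η ≠ 0 := div_ne_zero o.cc o.dd
  have hcη : B c c = η * B d d := by rw [hη, div_mul_cancel₀ _ o.dd]
  have hns : ¬ IsSquare η := by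
    rintro ⟨σ, hσ⟩
    have hσ0 : σ ≠ 0 := fun e => hη0 (by rw [hσ, e, mul_zero])
    refine h.no_pair hu0 hu hg hz (e₁ := d) (e₂ := σ⁻¹ • c) hdz (by simp [hcz]; right; exact hcz) o.dd ?_
      (by simp [o.dc])
    simp [hcη, hσ]
    field_simp
  have hm1 : ¬ IsSquare (-1 : K) := by
    have hFcard : Fintype.card F = 3 := by rw [← Nat.card_eq_fintype_card, hF]
    have hν : ¬ IsSquare (-1 : F) := by
      rw [FiniteField.isSquare_neg_one_iff, hFcard]; decide
    simpa using not_isSquare_algebraMap h.odd_deg hν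
  obtain ⟨σ, hσ⟩ : IsSquare (-η) := by
    have hK2 : ringChar K ≠ 2 := fun e => h.hyp.two_ne (by
      haveI := ringChar.charP K
      haveI : CharP K 2 := e ▸ inferInstance
      exact_mod_cast CharP.cast_eq_zero K 2)
    rw [show -η = (-1) * η by ring, ← quadraticChar_one_iff_isSquare (mul_ne_zero (neg_ne_zero.mpr one_ne_zero) hη0),
      map_mul, quadraticChar_neg_one_iff_not_isSquare.mpr hm1, quadraticChar_neg_one_iff_not_isSquare.mpr hns]
    rfl
  have hσ0 : σ ≠ 0 := fun e => hη0 (by rw [e, mul_zero, neg_eq_zero] at hσ; exact hσ)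
  have hη' : η = -(σ * σ) := by rw [← hσ, neg_neg]
  have h2 := h.hyp.two_ne
  refine ⟨d + σ⁻¹ • c, (2 * B d d)⁻¹ • (d - σ⁻¹ • c), ?_, ?_, ?_, ?_, ?_, ?_, hz⟩
  · intro e
    exact o.dd (by simpa [o.dc] using congrArg (B d) e)
  · simp [o.dc, hcd, hcη, hη']; field_simp; ring
  · simp [o.dc, hcd, hcη, hη']; field_simp; simp
  · simp [o.dc, hcd, hcη, hη']; field_simp [o.dd]; ring
  · simp [hdz, hcz]
  · simp [hdz, hcz]

set_option maxHeartbeats 800000 in
/-- Over the field with three elements members of `G` map singular lines to singular lines. -/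
theorem line_of_three_of_three (hF : Nat.card F = 3) {u : V} (hu0 : u ≠ 0) (hu : B u u = 0) {g : AutV F V}
    (hg : g ∈ G) : B (g u) (g u) = 0 ∧ ∀ k : K, g (k • u) ∈ K ∙ g u := by
  classical
  haveI := h.finG
  haveI : Finite K := Module.finite_of_finite F
  haveI := Fact.mk h.hyp.prime
  haveI : Fact (Nat.Prime 3) := ⟨Nat.prime_three⟩
  haveI : CharP F 3 := by
    obtain ⟨p, hp⟩ := CharP.exists F
    haveI := Fact.mk (CharP.char_is_prime F p)
    obtain ⟨e, -, he⟩ := FiniteField.card F p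
    rw [← Nat.card_eq_fintype_card, hF] at he
    have : p = 3 := (Nat.prime_dvd_prime_iff_eq Fact.out Nat.prime_three).mp (he ▸ dvd_pow_self p e.pos.ne')
    rwa [← this]
  by_cases hval : ∀ k : K, B (g (k • u)) (g (k • u)) ∈ Set.range (algebraMap F K)
  · exact h.line_of_values hu0 hu hg hval
  exfalso
  simp only [not_forall] at hval
  obtain ⟨k₁, hk₁⟩ := hval
  have hz' : B (g (k₁ • u)) (g (k₁ • u)) ≠ 0 := fun e => hk₁ ⟨0, by rw [map_zero, e]⟩
  obtain ⟨u₁, v₁, fr'⟩ := h.exists_frame_of_value hF hu0 hu hg hz'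
  obtain ⟨z, hzdef⟩ : ∃ z, z = g (k₁ • u) := ⟨_, rfl⟩
  rw [← hzdef] at hk₁ hz' fr'
  have hz : B z z ≠ 0 := hz'
  have fr : IsFrame B u₁ v₁ z := fr'
  have hk0 : k₁ ≠ 0 := fun e => hz (by simp [hzdef, e])
  set r := finrank F K with hr
  have hr5 := h.three_le
  obtain ⟨l, hl, hld, hlp⟩ := CfsgLib.Zsigmondy.exists_primitive_prime_divisor (a := 3) (n := r) (by norm_num)
    (by omega) (by omega) (by rintro ⟨h1, -⟩; omega)
  haveI := Fact.mk hl
  have hlr : l ≠ r := fun e => by
    have := (CfsgLib.Zsigmondy.dvd_sub_one_of_primitive (a := 3) (by norm_num) (by omega) hld hlp).2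
    rw [e] at this
    have := Nat.le_of_dvd (by omega) this
    omega
  have hl2 : l ≠ 2 := fun e => hlp 1 one_pos (by omega) (e ▸ ⟨1, by norm_num⟩)
  have hl3 : l ≠ 3 := fun e => by
    have h3 : 3 ∣ 3 ^ r := dvd_pow_self 3 (by omega)
    have := Nat.dvd_sub h3 (e ▸ hld)
    rw [Nat.sub_sub_self (Nat.one_le_pow _ _ (by norm_num))] at this
    omega
  have hlodd : Odd l := hl.odd_of_ne_two hl2
  have hcardK : Nat.card Kˣ = 3 ^ r - 1 := by
    rw [Nat.card_units, Module.natCard_eq_pow_finrank (K := F) (V := K), hF]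
  let A : Sylow l Kˣ := default
  obtain ⟨a, ha⟩ := exists_prime_orderOf_dvd_card' (G := ↥(A : Subgroup Kˣ)) l (A.dvd_card_of_dvd_card (hcardK ▸ hld))
  have haord : orderOf (a : Kˣ) = l := by rw [Subgroup.orderOf_coe]; exact ha
  have hsq : ∀ x : Kˣ, x ^ l = 1 → x * x = 1 → x = 1 := fun x h1 h2 => by
    refine orderOf_eq_one_iff.mp (Nat.eq_one_of_dvd_coprimes ((Nat.coprime_primes hl Nat.prime_two).mpr hl2)
      (orderOf_dvd_of_pow_eq_one h1) (orderOf_dvd_of_pow_eq_one (by rwa [pow_two])))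
  have haF : ∀ x : Kˣ, orderOf x = l → ((x : K) ∉ Set.range (algebraMap F K)) := fun x hx => by
    rintro ⟨f, hf⟩
    have hf0 : f ≠ 0 := fun e => x.ne_zero (by rw [← hf, e, map_zero])
    have h1 : f ^ 2 = 1 := by
      have := FiniteField.pow_card_sub_one_eq_one f hf0
      rwa [← Nat.card_eq_fintype_card, hF] at this
    have h2 : x = 1 := hsq x (hx ▸ pow_orderOf_eq_one x) (Units.ext (by
      rw [Units.val_mul, Units.val_one, ← hf, ← map_mul, ← pow_two, h1, map_one]))
    rw [h2, orderOf_one] at hx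
    exact hl.ne_one hx.symm
  have hAG : ∀ x ∈ (A : Subgroup Kˣ), h.torHom fr x ∈ G ∧ h.torHom fr x z = z := fun x hx => by
    obtain ⟨n, hn⟩ := A.isPGroup' ⟨x, hx⟩
    have hn' : x ^ l ^ n = 1 := by simpa using congrArg Subtype.val hn
    obtain ⟨j, hj⟩ := hlodd.pow (n := n)
    have e : x = x ^ (j + 1) * x ^ (j + 1) := by
      rw [← pow_add, show j + 1 + (j + 1) = l ^ n + 1 by omega, pow_succ, hn', one_mul]
    refine ⟨?_, by simpa using h.torHom_z fr x 1⟩
    rw [e]
    exact h.hyp.tor_sq_mem fr.uu fr.vv fr.uv (by rw [h.hyp.symm, fr.uv]) (x ^ (j + 1)).ne_zero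
  let ι : ↥(A : Subgroup Kˣ) →* ↥(fixer G z) :=
    { toFun := fun x => ⟨h.torHom fr x, hAG x x.2⟩
      map_one' := Subtype.ext (map_one _)
      map_mul' := fun x y => Subtype.ext (map_mul (h.torHom fr) _ _) }
  set t := ι a with ht
  have htA : t ∈ ι.range := ⟨a, rfl⟩
  have hιinj : Function.Injective ι := fun x y e => Subtype.ext (h.torHom_injective fr (congrArg Subtype.val e))
  have hordt : orderOf t = l := (orderOf_injective ι hιinj a).trans ha
  have hzG : ∀ x : ↥(fixer G z), (x : AutV F V) ∈ G ∧ (x : AutV F V) z = z := fun x => x.2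
  -- normalising implies centralising
  have hNC : ∀ x : ↥(fixer G z), (∀ y ∈ ι.range, x * y * x⁻¹ ∈ ι.range) → ∀ y ∈ ι.range, x * y = y * x ∧
      ∃ c : Kˣ, (x : AutV F V) = h.torHom fr c := by
    intro x hx
    obtain ⟨a', ha'⟩ := hx t htA
    have hordc : orderOf (a' : Kˣ) = l := by
      rw [Subgroup.orderOf_coe, ← orderOf_injective ι hιinj a', ha',
        show x * t * x⁻¹ = MulAut.conj x t from rfl, MulEquiv.orderOf_eq, hordt]
    have ha'2 : ((a' : Kˣ) : K) * (a' : Kˣ) ≠ 1 := fun e => by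
      have h1 := hsq _ (orderOf_dvd_iff_pow_eq_one.mp (dvd_of_eq hordc)) (Units.ext e)
      rw [h1, orderOf_one] at hordc
      exact hl.ne_one hordc.symm
    obtain ⟨hsame, hswap⟩ := h.lines_of_conj fr (haF _ haord) ha'2 (g := (x : AutV F V))
      (congrArg Subtype.val ha').symm
    by_cases hcase : Polynomial.aeval ((a' : Kˣ) : K) (minpoly F ((a : Kˣ) : K)) = 0
    · obtain ⟨h1, h2⟩ := hsame hcase
      obtain ⟨c, hc⟩ := h.eq_torHom fr hk₁ (hzG x).1 (hzG x).2 h1 h2
      rintro _ ⟨y, rfl⟩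
      refine ⟨Subtype.ext ?_, c, hc⟩
      show (x : AutV F V) * h.torHom fr y = h.torHom fr y * (x : AutV F V)
      rw [hc, ← map_mul, mul_comm, map_mul]
    · exfalso
      obtain ⟨h1, h2⟩ := hswap hcase
      set e₂ := u₁ + (B z z / 2) • v₁ with he₂
      have hvu : B v₁ u₁ = 1 := by rw [h.hyp.symm, fr.uv]
      have hzu : B z u₁ = 0 := by rw [h.hyp.symm, fr.uw]
      have hzv : B z v₁ = 0 := by rw [h.hyp.symm, fr.vw]
      have h2K := h.hyp.two_ne
      have hez : B e₂ z = 0 := by simp [he₂, fr.uw, fr.vw]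
      obtain ⟨y, hy, hyx⟩ := h.hyp.exists_halfturn hz (e₂ := e₂)
        (by simp [he₂, fr.uu, fr.vv, fr.uv, hvu]; field_simp; ring) (by simp [he₂, hzu, hzv])
      have hb2 : B z z / 2 ≠ 0 := div_ne_zero hz h2K
      have hyu : ∀ k : K, y (k • u₁) = (-(B z z / 2) * k) • v₁ := fun k => by
        rw [hyx]
        simp [he₂, fr.uw, fr.uu, fr.uv]
        match_scalars <;> field_simp <;> ring
      have hyv : ∀ k : K, y (k • v₁) = (-(2 / B z z) * k) • u₁ := fun k => by
        rw [hyx]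
        simp [he₂, fr.vw, fr.vv, hvu]
        match_scalars <;> field_simp <;> ring
      have hyz : ∀ k : K, y (k • z) = (-k) • z := fun k => by
        rw [hyx]
        simp [he₂, hzu, hzv]
        match_scalars <;> field_simp <;> ring
      set g' := y * (x : AutV F V) with hg'
      have hg'u : ∀ k : K, g' (k • u₁) ∈ K ∙ u₁ := fun k => by
        obtain ⟨m, hm⟩ := Submodule.mem_span_singleton.mp (h1 k)
        rw [hg', LinearEquiv.mul_apply, ← hm, hyv]
        exact Submodule.smul_mem _ _ (Submodule.mem_span_singleton_self _)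
      have hg'v : ∀ k : K, g' (k • v₁) ∈ K ∙ v₁ := fun k => by
        obtain ⟨m, hm⟩ := Submodule.mem_span_singleton.mp (h2 k)
        rw [hg', LinearEquiv.mul_apply, ← hm, hyu]
        exact Submodule.smul_mem _ _ (Submodule.mem_span_singleton_self _)
      have hg'G : g' ∈ G := G.mul_mem hy (hzG x).1
      obtain ⟨c, c1, c2, c3⟩ := h.stab_lines fr hk₁ hg'G (ε₀ := -1) (by ring)
        (by rw [hg', LinearEquiv.mul_apply, (hzG x).2]; simpa using hyz 1) hg'u hg'v
      haveI := h.finK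
      set Rz := refl B h.hyp.symm hz
      have e : (g' : AutV F V) = res F Rz * h.torHom fr c := LinearEquiv.ext fun w => by
        rw [h.expand fr w]
        simp only [LinearEquiv.mul_apply, map_add, c1, c2, c3, h.torHom_u, h.torHom_v, h.torHom_z, res_apply, Rz,
          refl_apply, map_smul, LinearMap.smul_apply, smul_eq_mul, fr.uw, fr.vw, mul_zero, zero_div, zero_smul,
          sub_zero]
        match_scalars <;> field_simp <;> ring
      have hdR : LinearMap.det ((res F Rz : AutV F V) : V →ₗ[F] V) = -1 := by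
        show LinearMap.det ((Rz : V →ₗ[K] V).restrictScalars F) = -1
        have e1 : (Rz : V →ₗ[K] V) = LinearMap.transvection (-(2 / B z z) • B.flip z) z := by
          refine LinearMap.ext fun w => ?_
          simp [Rz, LinearMap.transvection.apply, sub_eq_add_neg, neg_smul, mul_div_assoc, mul_comm]
          ring_nf
        rw [LinearMap.det_restrictScalars, e1, LinearMap.transvection.det]
        have : (1 : K) + (-(2 / B z z) • B.flip z) z = algebraMap F K (-1) := by
          simp [div_mul_cancel₀ _ hz]; norm_num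
        rw [this, Algebra.norm_algebraMap, h.odd_deg.neg_one_pow]
      have hd := h.hyp.det_one g' hg'G
      rw [e, LinearEquiv.coe_toLinearMap_mul, map_mul, hdR, h.det_torHom fr c, mul_one] at hd
      have := congrArg (algebraMap F K) hd
      rw [map_neg, map_one] at this
      exact h2K (by linear_combination -this)
  let T : Sylow l ↥(fixer G z) :=
    { toSubgroup := ι.range
      isPGroup' := A.isPGroup'.of_surjective ι.rangeRestrict ι.rangeRestrict_surjective
      is_maximal' := fun {S} hS hle => by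
        refine le_antisymm (le_of_normalizer_le hS hle fun x hxS hx => ?_) hle
        obtain ⟨-, c, hc⟩ := hNC x hx t htA
        obtain ⟨n, hn⟩ := hS ⟨x, hxS⟩
        have hcA : c ∈ (A : Subgroup Kˣ) := by
          have h1 : c ^ l ^ n = 1 := h.torHom_injective fr (by
            rw [map_pow, ← hc, map_one]
            simpa using congrArg (fun y : S => ((y : ↥(fixer G z)) : AutV F V)) hn)
          have hpg : IsPGroup l (Subgroup.zpowers c) := fun y => ⟨n, Subtype.ext (by
            obtain ⟨k, hk⟩ := y.2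
            change c ^ k = _ at hk
            rw [Subgroup.coe_pow, ← hk, ← zpow_natCast, zpow_comm, zpow_natCast, h1, one_zpow]; rfl)⟩
          have := A.is_maximal' (hpg.to_sup_of_normal_right A.isPGroup') le_sup_right
          rw [← this]
          exact Subgroup.mem_sup_left (Subgroup.mem_zpowers c)
        exact ⟨⟨c, hcA⟩, Subtype.ext hc.symm⟩ }
  have hP : Subgroup.normalizer ((T : Subgroup ↥(fixer G z)) : Set ↥(fixer G z)) ≤
      Subgroup.centralizer (T : Set ↥(fixer G z)) := fun x hx y hy =>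
    ((hNC x (fun w hw => (Subgroup.mem_normalizer_iff.mp hx w).mp hw) y hy).1).symm
  set N := (MonoidHom.transferSylow T hP).ker with hN
  haveI : N.Normal := MonoidHom.normal_ker _
  have hNc := MonoidHom.ker_transferSylow_isComplement' T hP
  have hNl : ¬ l ∣ Nat.card N := MonoidHom.not_dvd_card_ker_transferSylow T hP
  -- a p-subgroup from the conjugate root group
  let Qg : Subgroup ↥(fixer G z) := ((h.hyp.rootGroup hu).map (MulAut.conj g).toMonoidHom).subgroupOf (fixer G z)
  have hQg : IsPGroup 3 Qg := ((h.hyp.rootSub_isPGroup 3 hu ⊤).map _).comap_subtype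
  have hQN : Qg ≤ N := by
    intro x hx
    rw [hN, MonoidHom.mem_ker]
    obtain ⟨n, hn⟩ := hQg ⟨x, hx⟩
    have hn' : x ^ 3 ^ n = 1 := by simpa using congrArg (fun y : Qg => (y : ↥(fixer G z))) hn
    set s := MonoidHom.transferSylow T hP x
    obtain ⟨m, hm⟩ := T.isPGroup' s
    exact orderOf_eq_one_iff.mp (Nat.eq_one_of_dvd_coprimes
      ((((Nat.coprime_primes hl Nat.prime_three).mpr hl3).pow_left m).pow_right n)
      (orderOf_dvd_of_pow_eq_one hm) (orderOf_dvd_of_pow_eq_one (by rw [← map_pow, hn', map_one])))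
  obtain ⟨P', hP'⟩ := (hQg.comap_subtype (K := N)).exists_le_sylow
  have hfrat := Sylow.normalizer_sup_eq_top P'
  set Pm := (P' : Subgroup ↥N).map N.subtype with hPm
  obtain ⟨n, hn, m, hm, hnm⟩ : ∃ n ∈ Subgroup.normalizer (Pm : Set ↥(fixer G z)), ∃ m ∈ N, n * m = t := by
    have h1 : t ∈ Subgroup.normalizer (Pm : Set ↥(fixer G z)) ⊔ N := hfrat ▸ Subgroup.mem_top _
    rw [← SetLike.mem_coe, Subgroup.mul_normal] at h1
    obtain ⟨n, hn, m, hm, hnm⟩ := h1
    exact ⟨n, hn, m, hm, hnm⟩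
  have hldvd : l ∣ orderOf n := by
    have e : (n : ↥(fixer G z) ⧸ N) = (t : ↥(fixer G z) ⧸ N) := by
      rw [← hnm, QuotientGroup.mk_mul, (QuotientGroup.eq_one_iff m).mpr hm, mul_one]
    have h1 : orderOf (t : ↥(fixer G z) ⧸ N) = l := orderOf_eq_prime
      (by rw [← QuotientGroup.mk_pow, ← hordt, pow_orderOf_eq_one]; rfl) fun e1 => by
        have h3 : t = 1 := hNc.disjoint.le_bot ⟨(QuotientGroup.eq_one_iff t).mp e1, htA⟩
        rw [h3, orderOf_one] at hordt
        exact hl.ne_one hordt.symm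
    rw [← h1, ← e]
    exact orderOf_map_dvd (QuotientGroup.mk' N) n
  set n' := n ^ (orderOf n / l) with hn'def
  have hn'l : orderOf n' = l := orderOf_pow_orderOf_div (orderOf_pos n).ne' hldvd
  have hn'N : n' ∈ Subgroup.normalizer (Pm : Set ↥(fixer G z)) := Subgroup.pow_mem _ hn _
  obtain ⟨S, hS⟩ := (show IsPGroup l (Subgroup.zpowers n') from
    IsPGroup.of_card (n := 1) (by rw [Nat.card_zpowers, hn'l, pow_one])).exists_le_sylow
  obtain ⟨ρ, hρ⟩ := MulAction.exists_smul_eq ↥(fixer G z) S T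
  obtain ⟨a₂, ha₂⟩ : ρ * n' * ρ⁻¹ ∈ (T : Subgroup ↥(fixer G z)) := by
    rw [← hρ, Sylow.coe_subgroup_smul]
    exact Subgroup.smul_mem_pointwise_smul _ (MulAut.conj ρ) _ (hS (Subgroup.mem_zpowers _))
  have ha₂1 : (a₂ : Kˣ) ≠ 1 := fun e => by
    have h1 : ι a₂ = 1 := by rw [show a₂ = 1 from Subtype.ext e, map_one]
    have h2 : ρ * n' * ρ⁻¹ = 1 := ha₂.symm.trans h1
    rw [mul_inv_eq_one, mul_eq_left] at h2
    rw [h2, orderOf_one] at hn'l
    exact hl.ne_one hn'l.symm
  -- the stabilised line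
  set P₀ := (Pm.map (fixer G z).subtype).map (MulAut.conj g⁻¹).toMonoidHom with hP₀
  have hP₀G : P₀ ≤ G := by
    rintro _ ⟨_, ⟨x, -, rfl⟩, rfl⟩
    simpa using G.mul_mem (G.mul_mem (G.inv_mem hg) x.2.1) hg
  have hP₀p : IsPGroup 3 P₀ := ((P'.isPGroup'.map _).map _).map _
  have hQ₀ : h.hyp.rootGroup hu ≤ P₀ := by
    intro s hs
    have hsG : g * s * g⁻¹ ∈ fixer G z := ⟨G.mul_mem (G.mul_mem hg (h.hyp.rootSub_le hu ⊤ hs)) (G.inv_mem hg), by
      rw [hzdef]
      show g (s (g.symm (g (k₁ • u)))) = _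
      rw [g.symm_apply_apply, h.hyp.rootGroup_fix hu hs]⟩
    have hsQ : (⟨_, hsG⟩ : ↥(fixer G z)) ∈ Qg := ⟨s, hs, by simp⟩
    exact ⟨_, ⟨⟨_, hsG⟩, ⟨⟨_, hQN hsQ⟩, hP' hsQ, rfl⟩, rfl⟩, by simp [mul_assoc]⟩
  set y := g⁻¹ * (n' : AutV F V) * g with hy
  have hyG : y ∈ G := G.mul_mem (G.mul_mem (G.inv_mem hg) n'.2.1) hg
  have hyl : y ^ l = 1 := by
    rw [hy, show g⁻¹ * (n' : AutV F V) * g = g⁻¹ * (n' : AutV F V) * (g⁻¹)⁻¹ by rw [inv_inv], conj_pow,
      ← Subgroup.coe_pow, ← hn'l, pow_orderOf_eq_one]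
    simp
  have hstab := h.hyp.pfix 3 hu0 hu (h.only u hu0 hu) P₀ hP₀G hP₀p hQ₀
  have hynorm : ∀ s ∈ P₀, y⁻¹ * s * y ∈ P₀ := by
    rintro _ ⟨_, ⟨x, hx, rfl⟩, rfl⟩
    refine ⟨_, ⟨_, (Subgroup.mem_normalizer_iff''.mp hn'N x).mp hx, rfl⟩, ?_⟩
    simp [hy, mul_assoc]
  obtain ⟨P₁, hP₁, hc₁, hfix₁⟩ := h.hyp.kernel_big 3 hu0 hu (h.only u hu0 hu) hyG P₀ hP₀G hP₀p
    fun s hs k => hstab _ (hynorm s hs) k
  have hyline : ∀ k : K, y (k • u) ∈ K ∙ u := fun k =>
    h.hyp.fix_rootGroup 3 hu0 hu (P₁ ⊓ h.hyp.rootGroup hu) inf_le_right (card_le_mul_card_inf hQ₀ hP₁ hc₁)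
      fun s hs => hfix₁ s hs.1 k
  obtain ⟨τ, c, hc, hτ⟩ := h.hyp.semi_on_line hu0 hu (h.only u hu0 hu) hyG hyline
  have hyk : y (k₁ • u) = k₁ • u := by
    show g.symm ((n' : AutV F V) (g (k₁ • u))) = k₁ • u
    rw [← hzdef, n'.2.2, hzdef, g.symm_apply_apply]
  have hck : c * τ k₁ = k₁ := smul_left_injective K hu0 ((hτ k₁).symm.trans hyk)
  have hstep : ∀ x : K, y ((x * k₁) • u) = (τ x * k₁) • u := fun x => by
    rw [hτ, map_mul, mul_left_comm, hck]
  have hpow : ∀ (j : ℕ) (x : K), (y ^ j) ((x * k₁) • u) = ((τ ^ j) x * k₁) • u := by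
    intro j
    induction j with
    | zero => intro x; simp
    | succ j ih => intro x; rw [pow_succ', LinearEquiv.mul_apply, ih, hstep, pow_succ']; rfl
  have hτl : τ ^ l = 1 := AlgEquiv.ext fun x => by
    have h1 := hpow l x
    rw [hyl] at h1
    exact (mul_right_cancel₀ hk0 (smul_left_injective K hu0 h1)).symm
  have hτ1 : τ = 1 := orderOf_eq_one_iff.mp (Nat.eq_one_of_dvd_coprimes ((Nat.coprime_primes hl h.hyp.prime).mpr hlr)
    (orderOf_dvd_of_pow_eq_one hτl)
    (orderOf_dvd_of_pow_eq_one (by rw [← IsGalois.card_aut_eq_finrank F K]; exact pow_card_eq_one')))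
  refine h.not_in_line hu0 hu (G.mul_mem ρ.2.1 hg) (z := z) hz fun k => h.torHom_fix fr ha₂1 ?_
  have h1 : y (k • u) = k • u := by
    have := hstep (k / k₁)
    rw [div_mul_cancel₀ _ hk0, hτ1, AlgEquiv.one_apply, div_mul_cancel₀ _ hk0] at this
    exact this
  have h2 : (n' : AutV F V) (g (k • u)) = g (k • u) := by
    have := congrArg g h1
    simpa [hy] using this
  have h3 : h.torHom fr a₂ = (ρ : AutV F V) * (n' : AutV F V) * (ρ : AutV F V)⁻¹ := congrArg Subtype.val ha₂
  show h.torHom fr a₂ ((ρ : AutV F V) (g (k • u))) = (ρ : AutV F V) (g (k • u))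
  rw [h3]
  show (ρ : AutV F V) ((n' : AutV F V) ((ρ : AutV F V).symm ((ρ : AutV F V) (g (k • u))))) = _
  rw [(ρ : AutV F V).symm_apply_apply, h2]

/-- In dimension three members of `G` map singular lines to singular lines. -/
theorem line_of_three {u : V} (hu0 : u ≠ 0) (hu : B u u = 0) {g : AutV F V} (hg : g ∈ G) :
    B (g u) (g u) = 0 ∧ ∀ k : K, g (k • u) ∈ K ∙ g u := by
  obtain ⟨p, hp⟩ := CharP.exists F
  haveI := Fact.mk (CharP.char_is_prime F p)
  by_cases hq : 5 ≤ p ∨ ¬ (Nat.card F).Prime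
  · exact h.line_of_three_of_ne p hq hu0 hu hg
  simp only [not_or, not_le, not_not] at hq
  have h3 := h.char_ge p
  have hp3 : p = 3 := by
    have : p ≠ 4 := fun e => by have := (Fact.out : p.Prime); rw [e] at this; norm_num at this
    omega
  obtain ⟨e, -, he⟩ := FiniteField.card F p
  have hdvd : p ∣ Nat.card F := by rw [Nat.card_eq_fintype_card, he]; exact dvd_pow_self p e.pos.ne'
  have := (Nat.prime_dvd_prime_iff_eq Fact.out hq.2).mp hdvd
  exact h.line_of_three_of_three (by omega) hu0 hu hg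

end Hyp3

end CfsgLib.ExtFieldOrth
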