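import Mathlib
import Cfsg.Prelude.Def_GeometricClasses
import Cfsg.Agent.Lib.Orth.Siegel
import Cfsg.Agent.Lib.ExtFieldOrth.AllSiegel
import Cfsg.Agent.Lib.ExtFieldOrth.ThreeTernary

/-!
Normalisers of self-adjoint extension fields of prime degree are maximal in `Ω`, in matrix form.
-/

set_option autoImplicit false
set_option linter.unusedSectionVars false
set_option linter.unusedVariables false
set_option linter.unusedSimpArgs false
set_option linter.style.haveILetI false

namespace CfsgLib.ExtFieldOrth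

open Module Matrix Cfsg Cfsg.Geo
open scoped MatrixGroups commutatorElement

variable {F : Type*} [Field F] [Fintype F] {ι : Type} [Fintype ι] [DecidableEq ι] {r : ℕ}
  {K : Subalgebra F (Matrix ι ι F)}

/-- A field subalgebra as a field. -/
@[reducible] noncomputable def subField [Nonempty ι] (hK : IsFieldSubalgebra r K) : Field ↥K :=
  let i1 : CommRing ↥K :=
    { (inferInstance : Ring ↥K) with mul_comm := fun x y => Subtype.ext (hK.comm x x.2 y y.2) }
  IsField.toField (R := ↥K)
    { exists_pair_ne := ⟨0, 1, fun e => zero_ne_one (α := Matrix ι ι F) (congrArg Subtype.val e)⟩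
      mul_comm := fun x y => Subtype.ext (hK.comm x x.2 y y.2)
      mul_inv_cancel := fun {x} hx => by
        obtain ⟨y, hy, hxy⟩ := hK.inv x x.2 fun e => hx (Subtype.ext e)
        exact ⟨⟨y, hy⟩, Subtype.ext hxy⟩ }

/-- The action on vectors. -/
@[reducible] def vecMod (K : Subalgebra F (Matrix ι ι F)) : Module ↥K (ι → F) where
  smul k v := (k : Matrix ι ι F) *ᵥ v
  one_smul v := one_mulVec v
  mul_smul a b v := (mulVec_mulVec v _ _).symm
  smul_zero a := mulVec_zero _
  smul_add a v w := mulVec_add _ _ _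
  add_smul a b v := add_mulVec _ _ _
  zero_smul v := zero_mulVec v

/-- Invertible matrices as linear automorphisms. -/
noncomputable def toAutι : GL ι F ≃* AutV F (ι → F) :=
  Matrix.GeneralLinearGroup.toLin.trans (LinearMap.GeneralLinearGroup.generalLinearEquiv F _)

lemma toAutι_apply (g : GL ι F) (v : ι → F) : toAutι g v = (g : Matrix ι ι F) *ᵥ v := rfl

set_option maxHeartbeats 1600000 in
variable (r) in
/-- The normaliser of a self-adjoint field of prime degree `r`, with `3 * r < n`, or `3 * r = n` and `3 ≤ r`,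
is maximal in `Ω`. -/
theorem isMaximalIn_omega {Q : QuadraticForm F (ι → F)} (h2 : (2 : F) ≠ 0)
    (hQ : (QuadraticMap.polarBilin Q).Nondegenerate) (hn : 5 ≤ Fintype.card ι) (hr : r.Prime)
    (hK : IsFieldSubalgebra r K) (hsa : IsSelfAdjointFor (QuadraticMap.polar ⇑Q) K)
    (hbig : 3 * r < Fintype.card ι ∨ (Fintype.card ι = 3 * r ∧ 3 ≤ r)) :
    IsMaximalIn (omegaGL ⇑Q) (subalgebraNormalizer K ⊓ omegaGL ⇑Q) := by
  classical
  haveI : Nonempty ι := Fintype.card_pos_iff.mp (by omega)
  letI iK : Field ↥K := subField hK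
  letI iV : Module ↥K (ι → F) := vecMod K
  haveI : IsScalarTower F ↥K (ι → F) := ⟨fun a k v => smul_mulVec a _ v⟩
  haveI : FiniteDimensional F ↥K :=
    Module.finite_of_finrank_pos (lt_of_lt_of_eq hr.pos hK.finrank_eq.symm)
  haveI : Finite ↥K := Module.finite_of_finite F
  haveI : FiniteDimensional ↥K (ι → F) := Module.Finite.of_restrictScalars_finite F _ _
  have hsmul : ∀ (k : ↥K) (v : ι → F), k • v = (k : Matrix ι ι F) *ᵥ v := fun k v => rfl
  have hfr : finrank F ↥K = r := hK.finrank_eq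
  have hdim : r * finrank ↥K (ι → F) = Fintype.card ι := by
    rw [← hfr, Module.finrank_mul_finrank F ↥K (ι → F), Module.finrank_fintype_fun_eq_card]
  have hfour : 4 ≤ finrank ↥K (ι → F) ∨ (finrank ↥K (ι → F) = 3 ∧ 3 ≤ r) := by
    rcases hbig with hb | ⟨hb, h5⟩
    · refine Or.inl ?_
      by_contra hh
      have h1 : r * finrank ↥K (ι → F) ≤ r * 3 := Nat.mul_le_mul_left r (by omega)
      omega
    · refine Or.inr ⟨Nat.eq_of_mul_eq_mul_left hr.pos ?_, h5⟩
      omega
  -- the form over the field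
  have hnd := traceForm_nondegenerate F ↥K
  let T := (Algebra.traceForm F ↥K).toDual hnd
  let f := QuadraticMap.polarBilin Q
  have hfp : ∀ u v, f u v = QuadraticMap.polar (⇑Q) u v := fun u v => rfl
  let toV : (ι → F) → ↥K →ₗ[F] (ι → F) := fun u =>
    { toFun := fun a => a • u
      map_add' := fun a b => add_smul a b u
      map_smul' := fun c a => smul_assoc c a u }
  let g₀ : (ι → F) → (ι → F) → ↥K := fun u v => T.symm ((f.flip v).comp (toV u))
  have hg : ∀ u v (a : ↥K), Algebra.trace F ↥K (g₀ u v * a) = f (a • u) v := fun u v a => by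
    rw [← Algebra.traceForm_apply]
    exact LinearMap.BilinForm.apply_toDual_symm_apply _ a
  have huniq : ∀ x y : ↥K, (∀ a, Algebra.trace F ↥K (x * a) = Algebra.trace F ↥K (y * a)) → x = y := fun x y h =>
    sub_eq_zero.1 (hnd.1 _ fun a => by rw [Algebra.traceForm_apply, sub_mul, map_sub, h, sub_self])
  have hsa' : ∀ (b : ↥K) u v, f (b • u) v = f u (b • v) := fun b u v => by
    rw [hfp, hfp, hsmul, hsmul]; exact hsa b.1 b.2 u v
  let B : (ι → F) →ₗ[↥K] (ι → F) →ₗ[↥K] ↥K := LinearMap.mk₂ ↥K g₀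
    (fun u u' v => huniq _ _ fun a => by
      rw [hg, add_mul, map_add, hg, hg, smul_add, map_add, LinearMap.add_apply])
    (fun b u v => huniq _ _ fun a => by
      rw [hg, smul_eq_mul, mul_comm b, mul_assoc, hg, smul_smul, mul_comm a b])
    (fun u v v' => huniq _ _ fun a => by rw [hg, map_add, add_mul, map_add, hg, hg])
    (fun b u v => huniq _ _ fun a => by
      rw [hg, smul_eq_mul, mul_comm b, mul_assoc, hg, ← hsa', smul_smul])
  have hBf : ∀ u v, Algebra.trace F ↥K (B u v) = f u v := fun u v => by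
    show Algebra.trace F ↥K (g₀ u v) = f u v
    rw [← mul_one (g₀ u v), hg, one_smul]
  have hfs : ∀ u v, f u v = f v u := fun u v => by
    rw [hfp, hfp]; exact QuadraticMap.polar_comm _ u v
  have hBs : ∀ u v, B u v = B v u := fun u v => huniq _ _ fun a => by
    show Algebra.trace F ↥K (g₀ u v * a) = Algebra.trace F ↥K (g₀ v u * a)
    rw [hg, hg, hsa', hfs]
  have hBnd : ∀ u, (∀ v, B u v = 0) → u = 0 := fun u hu =>
    hQ.1 u fun v => by
      show f u v = 0
      rw [← hBf, hu, map_zero]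
  have h2K : (2 : ↥K) ≠ 0 := fun e => h2 ((algebraMap F ↥K).injective (by rw [map_ofNat, map_zero]; exact e))
  -- isometries
  have hOmega_iso : ∀ g ∈ omegaGL ⇑Q, ∀ x, Q ((g : Matrix ι ι F) *ᵥ x) = Q x := by
    rintro _ ⟨g, -, rfl⟩ x
    exact CfsgLib.OrthSpinor.Q_act Q g x
  have hOmega_det : ∀ g ∈ omegaGL ⇑Q, GeneralLinearGroup.det g = 1 := by
    rintro _ ⟨g, hg, rfl⟩
    exact Abelianization.commutator_subset_ker
      (GeneralLinearGroup.det.comp (isometryGroup F ⇑Q).subtype) hg
  have hcommK : ∀ e : (ι → F) ≃ₗ[↥K] (ι → F), toAutι.symm (res F e) ∈ subalgebraNormalizer K := by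
    intro e
    set g : GL ι F := toAutι.symm (res F e) with hgd
    have hge : ∀ v, (g : Matrix ι ι F) *ᵥ v = e v := fun v => by
      rw [← toAutι_apply, hgd, MulEquiv.apply_symm_apply]; rfl
    have hcomm : ∀ k : ↥K, (g : Matrix ι ι F) * k = (k : Matrix ι ι F) * g :=
      fun k => Matrix.ext_of_mulVec_single fun i => by
        rw [← mulVec_mulVec, ← mulVec_mulVec, hge, hge, ← hsmul, ← hsmul, map_smul]
    have hinv : ∀ k : ↥K, (g : Matrix ι ι F) * k * ((g⁻¹ : GL ι F) : Matrix ι ι F) = k := fun k => by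
      rw [hcomm, Matrix.mul_assoc, ← Units.val_mul, mul_inv_cancel, Units.val_one, Matrix.mul_one]
    intro k
    constructor
    · intro hk; rw [hinv ⟨k, hk⟩]; exact hk
    · intro hk
      have h2' := (Units.mul_right_inj g).mp ((Units.mul_left_inj g⁻¹).mp (hinv ⟨_, hk⟩))
      rw [← h2']; exact hk
  have hcomm_mem : ∀ a b : (ι → F) ≃ₗ[↥K] (ι → F), (∀ x y, B (a x) (a y) = B x y) →
      (∀ x y, B (b x) (b y) = B x y) →
      toAutι.symm (res F (a * b * a⁻¹ * b⁻¹)) ∈ subalgebraNormalizer K ⊓ omegaGL ⇑Q := by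
    intro a b ha hb
    refine ⟨hcommK _, ?_⟩
    have hiso : ∀ e : (ι → F) ≃ₗ[↥K] (ι → F), (∀ x y, B (e x) (e y) = B x y) →
        toAutι.symm (res F e) ∈ isometryGroup F ⇑Q := by
      intro e he v _
      show Q (((toAutι.symm (res F e) : GL ι F) : Matrix ι ι F) *ᵥ v) = Q v
      rw [← toAutι_apply, MulEquiv.apply_symm_apply]
      have e1 : f (e v) (e v) = f v v := by rw [← hBf, he, hBf]
      rw [hfp, hfp, QuadraticMap.polar_self, QuadraticMap.polar_self] at e1
      exact mul_left_cancel₀ h2 (by simpa [two_nsmul, two_mul] using e1)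
    refine ⟨⁅(⟨_, hiso a ha⟩ : ↥(isometryGroup F ⇑Q)), ⟨_, hiso b hb⟩⁆,
      Subgroup.commutator_mem_commutator (Subgroup.mem_top _) (Subgroup.mem_top _), ?_⟩
    simp [commutatorElement_def, map_mul, map_inv]
  -- groups between
  have hypOf : ∀ M : Subgroup (GL ι F), subalgebraNormalizer K ⊓ omegaGL ⇑Q ≤ M → M ≤ omegaGL ⇑Q →
      Hyp B (M.map (toAutι (ι := ι) (F := F)).toMonoidHom) := by
    intro M hM hMΩ
    refine ⟨hfr ▸ hr, h2K, hBs, hBnd, by omega, ?_, ?_, fun a b ha hb => ?_⟩
    · rintro _ ⟨g, hg, rfl⟩ x y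
      show Algebra.trace F ↥K (B (toAutι g x) (toAutι g y)) = _
      rw [hBf, hBf, toAutι_apply, toAutι_apply, hfp, hfp, QuadraticMap.polar, QuadraticMap.polar,
        ← mulVec_add, hOmega_iso g (hMΩ hg), hOmega_iso g (hMΩ hg), hOmega_iso g (hMΩ hg)]
    · rintro _ ⟨g, hg, rfl⟩
      have h1 : ((toAutι g : AutV F (ι → F)) : (ι → F) →ₗ[F] (ι → F)) = Matrix.toLin' (g : Matrix ι ι F) :=
        LinearMap.ext fun v => rfl
      show LinearMap.det ((toAutι g : AutV F (ι → F)) : (ι → F) →ₗ[F] (ι → F)) = 1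
      rw [h1, LinearMap.det_toLin', ← GeneralLinearGroup.val_det_apply, hOmega_det g (hMΩ hg), Units.val_one]
    · exact ⟨toAutι.symm (res F (a * b * a⁻¹ * b⁻¹)), hM (hcomm_mem a b ha hb),
        MulEquiv.apply_symm_apply _ _⟩
  have hsemiN : ∀ (M : Subgroup (GL ι F)) (g : GL ι F), g ∈ M →
      (∃ τ : ↥K ≃ₐ[F] ↥K, ∀ (k : ↥K) x, toAutι g (k • x) = τ k • toAutι g x) → g ∈ subalgebraNormalizer K := by
    intro M g hg ⟨τ, hτ⟩
    have hσg : ∀ k : ↥K, (g : Matrix ι ι F) * k * ((g⁻¹ : GL ι F) : Matrix ι ι F) = τ k := by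
      intro k
      have h1 : (g : Matrix ι ι F) * k = (τ k : Matrix ι ι F) * g :=
        Matrix.ext_of_mulVec_single fun i => by
          rw [← mulVec_mulVec, ← mulVec_mulVec, ← toAutι_apply g, ← toAutι_apply g]
          exact hτ k _
      rw [h1, Matrix.mul_assoc, ← Units.val_mul, mul_inv_cancel, Units.val_one, Matrix.mul_one]
    intro k
    constructor
    · intro hk; rw [hσg ⟨k, hk⟩]; exact (τ _).2
    · intro hk
      obtain ⟨j, hj⟩ := τ.surjective ⟨_, hk⟩
      have h1 := (hσg j).trans (congrArg Subtype.val hj)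
      rw [show k = (j : Matrix ι ι F) from ((Units.mul_right_inj g).mp ((Units.mul_left_inj g⁻¹).mp h1)).symm]
      exact j.2
  have homega := CfsgLib.OrthSpinor.omega_eq_closure_siegelSet h2 hQ hn
  refine ⟨lt_of_le_of_ne inf_le_right fun e => ?_, fun M hM hMΩ => ?_⟩
  · -- some Siegel map of the trace form is not semilinear
    have hyp := hypOf (omegaGL ⇑Q) inf_le_right le_rfl
    obtain ⟨u, hu0, hu⟩ := hyp.exists_singular
    obtain ⟨v, hv, huv⟩ := hyp.exists_dual hu0 hu
    obtain ⟨l, hl⟩ : ∃ l : ↥K, l ∉ Set.range (algebraMap F ↥K) := by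
      by_contra hh
      simp only [not_exists, not_not] at hh
      have h1 : finrank F ↥K ≤ 1 := finrank_le_one (1 : ↥K) fun w => by
        obtain ⟨c, hc⟩ := hh w
        exact ⟨c, by rw [← Algebra.algebraMap_eq_smul_one, hc]⟩
      have := hr.one_lt
      omega
    have huu : ∀ a b : ↥K, QuadraticMap.polar (⇑Q) (a • u) (b • u) = 0 := fun a b => by
      rw [← hfp, ← hBf]; simp [hu]
    have hQu : ∀ a : ↥K, Q (a • u) = 0 := fun a => by
      have := huu a a
      rw [QuadraticMap.polar_self] at this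
      simpa [two_nsmul, ← two_mul, h2] using this
    set g := CfsgLib.OrthSpinor.siegel (hQu l) (by simpa using hQu 1) (by simpa using huu l 1) (1 : F)
    have hgΩ : (g : GL ι F) ∈ omegaGL ⇑Q := ⟨g, by
      show g ∈ Omega F ⇑Q
      rw [homega]
      exact Subgroup.subset_closure ⟨l • u, u, 1, hQu l, by simpa using hQu 1, by simpa using huu l 1, rfl⟩, rfl⟩
    have hgN : (g : GL ι F) ∈ subalgebraNormalizer K := by rw [← e] at hgΩ; exact hgΩ.1
    have hgx : ∀ x, toAutι (g : GL ι F) x = x + f (l • u) x • u - f u x • l • u := fun x => by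
      rw [toAutι_apply]
      show CfsgLib.OrthSpinor.act Q g x = _
      show siegelMatrix ⇑Q (l • u) u 1 *ᵥ x = _
      rw [CfsgLib.OrthSpinor.siegelMatrix_mulVec, one_mul, one_mul]
      rfl
    have hfuk : ∀ k : ↥K, f u (k • v) = Algebra.trace F ↥K k ∧
        f (l • u) (k • v) = Algebra.trace F ↥K (l * k) := fun k => by
      rw [← hBf, ← hBf]; constructor <;> simp [huv, mul_comm]
    -- the normaliser acts semilinearly
    have hτ : ∀ k : ↥K, ∃ k' : ↥K, ∀ x, toAutι (g : GL ι F) (k • x) = k' • toAutι (g : GL ι F) x := fun k =>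
      ⟨⟨_, (hgN k).mp k.2⟩, fun x => by
        simp only [toAutι_apply, hsmul, mulVec_mulVec]
        rw [Matrix.mul_assoc ((g : GL ι F) : Matrix ι ι F) _ _]
        congr 1
        rw [Matrix.mul_assoc, Matrix.mul_assoc, ← Units.val_mul, inv_mul_cancel, Units.val_one, Matrix.mul_one]⟩
    set A : ↥K → ↥K := fun k =>
      algebraMap F ↥K (Algebra.trace F ↥K (l * k)) - algebraMap F ↥K (Algebra.trace F ↥K k) * l with hA
    have hgv : ∀ k : ↥K, toAutι (g : GL ι F) (k • v) = k • v + A k • u := fun k => by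
      rw [hgx, (hfuk k).1, (hfuk k).2, hA]
      simp only [sub_smul, mul_smul, algebraMap_smul]
      abel
    have hlin : ∀ k : ↥K, A k = k * A 1 := by
      intro k
      obtain ⟨k', hk'⟩ := hτ k
      have e1 : k' = k := by
        have := hk' u
        rw [hgx, hgx] at this
        have z1 : f (l • u) (k • u) = 0 := by rw [hfp]; exact huu l k
        have z2 : f u (k • u) = 0 := by have := huu 1 k; rwa [one_smul, ← hfp] at this
        have z3 : f (l • u) u = 0 := by have := huu l 1; rwa [one_smul, ← hfp] at this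
        have z4 : f u u = 0 := by have := huu 1 1; rwa [one_smul, ← hfp] at this
        rw [z1, z2, z3, z4, zero_smul, zero_smul, add_zero, add_zero, sub_zero, sub_zero] at this
        exact (smul_left_injective ↥K hu0 this).symm
      have := hk' v
      rw [e1, hgv, show toAutι (g : GL ι F) v = v + A 1 • u by simpa using hgv 1, smul_add, smul_smul,
        add_right_inj] at this
      exact smul_left_injective ↥K hu0 this
    have hA1 : A 1 = 0 := huniq _ _ fun k => by
      have e1 : Algebra.trace F ↥K (A k) + Algebra.trace F ↥K (A 1 * k) = 0 := by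
        simp only [hA, sub_mul, map_sub, mul_one]
        simp only [← Algebra.smul_def, smul_mul_assoc, map_smul, smul_eq_mul]
        rw [show Algebra.trace F ↥K (1 : ↥K) = (finrank F ↥K : F) by
          rw [← map_one (algebraMap F ↥K), Algebra.trace_algebraMap, nsmul_eq_mul, mul_one]]
        try simp only [nsmul_eq_mul]
        rw [Algebra.trace_algebraMap, nsmul_eq_mul]
        ring
      rw [hlin k, mul_comm k, ← two_mul] at e1
      rw [zero_mul, map_zero]
      exact (mul_eq_zero.mp e1).resolve_left h2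
    obtain ⟨k, hk⟩ := Algebra.trace_surjective F ↥K 1
    have e2 := hlin k
    rw [hA1, mul_zero, hA] at e2
    simp only [hk, map_one, one_mul, sub_eq_zero] at e2
    exact hl ⟨_, e2⟩
  by_cases hcase : M ≤ subalgebraNormalizer K
  · exact Or.inl (le_antisymm (le_inf hcase hMΩ) hM)
  obtain ⟨g₁, hg₁, hg₁N⟩ := SetLike.not_le_iff_exists.mp hcase
  have hyp := hypOf M hM hMΩ
  set G := M.map (toAutι (ι := ι) (F := F)).toMonoidHom
  by_cases hall : ∀ u : ι → F, u ≠ 0 → B u u = 0 → OnlyMul B G u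
  · refine absurd (hsemiN M g₁ hg₁ ?_) hg₁N
    refine hyp.semilinear_of_lines hall (Subgroup.mem_map_of_mem _ hg₁) fun u hu0 hu => ?_
    rcases hfour with h4 | ⟨h3, h5⟩
    · exact hyp.line_of_four h4 hu0 hu (hall u hu0 hu) (Subgroup.mem_map_of_mem _ hg₁)
    · exact Hyp3.line_of_three ⟨hyp, h3, by rw [hfr]; exact h5, hall⟩ hu0 hu (Subgroup.mem_map_of_mem _ hg₁)
  simp only [not_forall] at hall
  obtain ⟨u, hu0, hu, hu'⟩ := hall
  have hallX := (hyp.dichotomy hu0 hu).resolve_right hu'
  refine Or.inr (le_antisymm hMΩ ?_)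
  rintro _ ⟨g, hg, rfl⟩
  have hg' : g ∈ Omega F ⇑Q := hg
  rw [homega] at hg'
  have hle : Subgroup.closure (CfsgLib.OrthSpinor.siegelSet Q) ≤ M.comap (isometryGroup F ⇑Q).subtype := by
    rw [Subgroup.closure_le]
    rintro t ⟨a, b, c, ha, hb, hab, ht⟩
    have hfb : trB (F := F) B b b = 0 := by
      rw [trB_apply, hBf, hfp, QuadraticMap.polar_self, hb, smul_zero]
    obtain ⟨m, hm, hmx⟩ := hyp.hasSieg_of_all hu0 hu hallX hfb (c • a) (by
      rw [map_smul, trB_apply, hBf, hfp, QuadraticMap.polar_comm, hab, smul_zero])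
    obtain ⟨m', hm', rfl⟩ := Subgroup.mem_map.mp hm
    have : (t : GL ι F) = m' := Units.ext (Matrix.ext_of_mulVec_single fun i => by
      rw [ht, CfsgLib.OrthSpinor.siegelMatrix_mulVec, ← toAutι_apply]
      refine ((hmx _).trans ?_).symm
      simp only [siegMap_apply, map_smul, LinearMap.smul_apply, smul_eq_mul, trB_apply, hBf]
      rw [show f a a = 0 by rw [hfp, QuadraticMap.polar_self, ha, smul_zero], hfs _ a, hfs _ b, ← hfp, ← hfp]
      simp only [mul_zero, zero_div, zero_mul, zero_smul, sub_zero, smul_smul, mul_comm (f b (Pi.single i 1)) c])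
    show (t : GL ι F) ∈ M
    rw [this]; exact hm'
  exact hle hg'

end CfsgLib.ExtFieldOrth
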